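import Mathlib
import Cfsg.Agent.Lib.Helper14.SimForm

set_option autoImplicit false

/-! OSS (P2) for helper13's S2721 server: a similarity (multiplier `μ`) of a nondegenerate
alternating form on `F^ι`, `|ι| = 2k`, has determinant `μ^k`. -/

namespace Cfsg.Agent.Helper91.OSS

open Matrix

variable {F : Type*} [Field F] {ι : Type} [Fintype ι] [DecidableEq ι]

theorem h91_diag_J (k : ℕ) (c : F) :
    (fromBlocks (c • (1 : Matrix (Fin k) (Fin k) F)) 0 0 1)ᵀ * J (Fin k) F *
      fromBlocks (c • (1 : Matrix (Fin k) (Fin k) F)) 0 0 1 = c • J (Fin k) F := by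
  rw [fromBlocks_transpose, Matrix.J, fromBlocks_multiply, fromBlocks_multiply, fromBlocks_smul]
  simp

theorem det_of_alt_sim (β : LinearMap.BilinForm F (ι → F)) (hA : ∀ x, β x x = 0)
    (hnd : ∀ x, (∀ y, β x y = 0) → x = 0) (k : ℕ) (hcard : Fintype.card ι = 2 * k)
    (g : Matrix ι ι F) (μ : F) (hμ : μ ≠ 0)
    (hg : ∀ u v, β (g *ᵥ u) (g *ᵥ v) = μ * β u v) :
    g.det = μ ^ k := by
  classical
  have hdim : Module.finrank F (ι → F) = 2 * k := by
    rw [Module.finrank_fintype_fun_eq_card, hcard]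
  obtain ⟨b, hb⟩ := Cfsg.Agent.Helper14.SimForm.exists_symp_basis β hA hnd k hdim
  set M := LinearMap.toMatrix b b (Matrix.toLin' g) with hM
  have hdet : M.det = g.det := by
    rw [hM, LinearMap.det_toMatrix, LinearMap.det_toLin']
  have hJ : LinearMap.BilinForm.toMatrix b β = J (Fin k) F := by
    ext x x'
    rw [LinearMap.BilinForm.toMatrix_apply]
    exact hb x x'
  have hcomp : β.comp (Matrix.toLin' g) (Matrix.toLin' g) = μ • β := by
    apply LinearMap.ext₂
    intro u v
    simp only [LinearMap.BilinForm.comp_apply, Matrix.toLin'_apply, LinearMap.smul_apply,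
      smul_eq_mul]
    exact hg u v
  have hMJ : Mᵀ * J (Fin k) F * M = μ • J (Fin k) F := by
    have h := LinearMap.BilinForm.toMatrix_comp b b β (Matrix.toLin' g) (Matrix.toLin' g)
    rw [hcomp, hJ] at h
    rw [← hM] at h
    rw [← h, map_smul, hJ]
  set d' : Matrix (Fin k ⊕ Fin k) (Fin k ⊕ Fin k) F :=
    fromBlocks (μ⁻¹ • (1 : Matrix (Fin k) (Fin k) F)) 0 0 1 with hd'
  have hN : (M * d')ᵀ * J (Fin k) F * (M * d') = J (Fin k) F := by
    rw [transpose_mul]
    calc d'ᵀ * Mᵀ * J (Fin k) F * (M * d')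
        = d'ᵀ * (Mᵀ * J (Fin k) F * M) * d' := by simp only [Matrix.mul_assoc]
      _ = μ • (d'ᵀ * J (Fin k) F * d') := by
          rw [hMJ]; simp only [Matrix.mul_smul, Matrix.smul_mul]
      _ = J (Fin k) F := by
          rw [hd', h91_diag_J, smul_smul, mul_inv_cancel₀ hμ, one_smul]
  have hmem : M * d' ∈ symplecticGroup (Fin k) F := SymplecticGroup.mem_iff'.mpr hN
  have h1 := SymplecticGroup.det_eq_one hmem
  have hdd : d'.det = (μ⁻¹) ^ k := by
    rw [hd', det_fromBlocks_zero₂₁, det_one, mul_one, det_smul, det_one, mul_one,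
      Fintype.card_fin]
  rw [det_mul, hdd, hdet] at h1
  have hk : (μ ^ k) ≠ 0 := pow_ne_zero _ hμ
  rw [inv_pow] at h1
  field_simp at h1
  exact h1

end Cfsg.Agent.Helper91.OSS
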