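import Mathlib
import Cfsg.Prelude.Def_Sporadic_a

set_option autoImplicit false

namespace Cfsg.Agent.Helper91

open Cfsg

theorem sqNorm_two_smul (z : GolayPt → ℤ) : sqNorm (2 • z) = 4 * sqNorm z := by
  unfold sqNorm
  rw [Finset.mul_sum]
  apply Finset.sum_congr rfl
  intro i _
  simp only [Pi.smul_apply, smul_eq_mul]
  ring

theorem sqNorm_parallelogram (v w : GolayPt → ℤ) :
    sqNorm (v + w) + sqNorm (v - w) = 2 * sqNorm v + 2 * sqNorm w := by
  unfold sqNorm
  rw [Finset.mul_sum, Finset.mul_sum, ← Finset.sum_add_distrib, ← Finset.sum_add_distrib]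
  apply Finset.sum_congr rfl
  intro i _
  simp only [Pi.add_apply, Pi.sub_apply]
  ring

theorem sqNorm_neg (v : GolayPt → ℤ) : sqNorm (-v) = sqNorm v := by
  unfold sqNorm
  apply Finset.sum_congr rfl
  intro i _
  simp

/-- The mod-2 short class lemma, assuming the minimal norm of the lattice. -/
theorem short_classes_of_min
    (hmin : ∀ x : GolayPt → ℤ, x ∈ leechLattice → x ≠ 0 → 32 ≤ sqNorm x)
    (v w : GolayPt → ℤ) (hv : v ∈ leechLattice) (hw : w ∈ leechLattice)
    (hvn : sqNorm v ≤ 64) (hwn : sqNorm w ≤ 64)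
    (hc : ∃ z ∈ leechLattice, v - w = 2 • z) (h1 : w ≠ v) (h2 : w ≠ -v) :
    sqNorm v = 64 ∧ sqNorm w = 64 ∧ sqNorm (v + w) = 128 ∧ sqNorm (v - w) = 128 := by
  obtain ⟨z, hz, hzv⟩ := hc
  have hz0 : z ≠ 0 := by
    intro h
    apply h1
    rw [h, smul_zero] at hzv
    exact (sub_eq_zero.mp hzv).symm
  have hzw : z + w ∈ leechLattice := leechLattice.add_mem hz hw
  have hzw0 : z + w ≠ 0 := by
    intro h
    apply h2
    have : v + w = 2 • (z + w) := by
      rw [smul_add, ← hzv]; abel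
    rw [h, smul_zero] at this
    rw [eq_neg_iff_add_eq_zero, add_comm]
    exact this
  have e1 : sqNorm (v - w) = 4 * sqNorm z := by rw [hzv, sqNorm_two_smul]
  have e2 : sqNorm (v + w) = 4 * sqNorm (z + w) := by
    have : v + w = 2 • (z + w) := by
      rw [smul_add, ← hzv]; abel
    rw [this, sqNorm_two_smul]
  have m1 := hmin z hz hz0
  have m2 := hmin (z + w) hzw hzw0
  have hp := sqNorm_parallelogram v w
  refine ⟨?_, ?_, ?_, ?_⟩ <;> omega

end Cfsg.Agent.Helper91
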