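import Cfsg.Agent.Lib.Helper39.MH4Defs

set_option autoImplicit false
set_option linter.unusedSectionVars false
set_option linter.unusedVariables false

/-! MH4 (G3) for helper39's S4221 server: the final identification of `G` from its order. -/

namespace Cfsg.Agent.Helper91.MH4

open Equiv Cfsg.Agent.Helper39.MH4

variable {α : Type*} [Fintype α] [DecidableEq α] {G : Subgroup (Perm α)}

/-- the pointwise stabilizer of `D` embeds in the symmetric group of the complement -/
theorem h91_card_PS_dvd (G : Subgroup (Perm α)) (D : Finset α) :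
    Nat.card (PS G D) ∣ (Fintype.card α - D.card).factorial := by
  classical
  have hmem : ∀ g : PS G D, ∀ x, (g : Perm α) x ∉ D ↔ x ∉ D := by
    intro g x
    constructor
    · intro hgx hx
      exact hgx (by rw [g.2.2 x hx]; exact hx)
    · intro hx hgx
      have h1 := g.2.2 _ hgx
      have h2 : (g : Perm α) x = x := (g : Perm α).injective h1
      exact hx (h2 ▸ hgx)
  let f : PS G D →* Perm {x // x ∉ D} :=
    { toFun := fun g => (g : Perm α).subtypePerm (hmem g)
      map_one' := by ext; simp
      map_mul' := by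
        intro a b
        ext x
        rfl }
  have hf : Function.Injective f := by
    intro g h hgh
    apply Subtype.ext
    ext x
    by_cases hx : x ∈ D
    · rw [g.2.2 x hx, h.2.2 x hx]
    · have := congrArg (fun p => ((p ⟨x, hx⟩ : {x // x ∉ D}) : α)) hgh
      simpa [f] using this
  have h := Subgroup.card_dvd_of_injective f hf
  rw [Nat.card_eq_fintype_card (α := Perm {x // x ∉ D}), Fintype.card_perm] at h
  have hc : Fintype.card {x // x ∉ D} = Fintype.card α - D.card := by
    rw [Fintype.card_subtype_compl, Fintype.card_coe]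
  rwa [hc] at h

theorem h91_card_perm : Nat.card (Perm α) = (Fintype.card α).factorial := by
  rw [Nat.card_eq_fintype_card, Fintype.card_perm]

theorem h91_eq_top (h : Nat.card G = (Fintype.card α).factorial) : G = ⊤ := by
  apply Subgroup.eq_top_of_card_eq
  rw [h, h91_card_perm]

theorem h91_eq_alt (h : 2 * Nat.card G = (Fintype.card α).factorial) :
    G = alternatingGroup α := by
  apply Equiv.Perm.eq_alternatingGroup_of_index_eq_two
  have h1 := Subgroup.card_mul_index G
  rw [h91_card_perm, ← h] at h1
  have hpos : 0 < Nat.card G := Nat.card_pos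
  have : Nat.card G * G.index = Nat.card G * 2 := by rw [h1]; ring
  exact Nat.eq_of_mul_eq_mul_left hpos this

theorem final_of_card (hyp : Hyp G) (D : Finset α) (hD : D.card = 4)
    (hcard : Nat.card G = (Fintype.card α).descFactorial 4 * Nat.card (PS G D))
    (h : Fintype.card α = 4 ∨ Fintype.card α = 5 ∨ Fintype.card α = 6 ∨
      (Fintype.card α = 7 ∧ Nat.card (PS G D) = 3) ∨
      (Fintype.card α = 11 ∧ Nat.card (PS G D) = 1)) :
    ((Fintype.card α = 4 ∨ Fintype.card α = 5) ∧ G = ⊤) ∨
      ((Fintype.card α = 6 ∨ Fintype.card α = 7) ∧ G = alternatingGroup α) ∨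
      (Fintype.card α = 11 ∧ Nat.card G = 7920) := by
  have hdvd := h91_card_PS_dvd G D
  have hodd := hyp.odd D hD
  rw [hD] at hdvd
  rcases h with h | h | h | ⟨h, h3⟩ | ⟨h, h1⟩
  · rw [h] at hdvd hcard
    have h1 : Nat.card (PS G D) = 1 := Nat.dvd_one.mp (by simpa using hdvd)
    refine Or.inl ⟨Or.inl h, h91_eq_top ?_⟩
    rw [hcard, h1, h]
    decide
  · rw [h] at hdvd hcard
    have h1 : Nat.card (PS G D) = 1 := Nat.dvd_one.mp (by simpa using hdvd)
    refine Or.inl ⟨Or.inr h, h91_eq_top ?_⟩
    rw [hcard, h1, h]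
    decide
  · rw [h] at hdvd hcard
    have h2 : Nat.card (PS G D) ∣ 2 := by simpa using hdvd
    have h1 : Nat.card (PS G D) = 1 := by
      rcases (Nat.dvd_prime Nat.prime_two).mp h2 with h1 | h1
      · exact h1
      · rw [h1] at hodd
        exact absurd hodd (by decide)
    refine Or.inr (Or.inl ⟨Or.inl h, h91_eq_alt ?_⟩)
    rw [hcard, h1, h]
    decide
  · rw [h] at hcard
    refine Or.inr (Or.inl ⟨Or.inr h, h91_eq_alt ?_⟩)
    rw [hcard, h3, h]
    decide
  · rw [h] at hcard
    refine Or.inr (Or.inr ⟨h, ?_⟩)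
    rw [hcard, h1]
    decide

end Cfsg.Agent.Helper91.MH4
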