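import Mathlib
import Cfsg.Agent.Lib.Helper98.BrownDefs

set_option autoImplicit false

/-! BROWN (U1) for helper98's S4291 server: a normal subgroup of `A4`, `S4`, `A5`, `S5` with cyclic
Sylow 2-subgroups is trivial. -/

namespace Cfsg.Agent.Helper91.Brown

open Cfsg.Agent.Helper98.Brown Equiv

/-- two distinct commuting involutions in `M` contradict cyclic Sylow 2-subgroups of `M` -/
theorem h91_false_of_four {Γ : Type*} [Group Γ] [Finite Γ] (M : Subgroup Γ)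
    (hc : ∀ P : Sylow 2 M, IsCyclic P) (x y : Γ) (hxM : x ∈ M) (hyM : y ∈ M)
    (hx : x * x = 1) (hy : y * y = 1) (hxy : x * y = y * x) (hx1 : x ≠ 1) (hy1 : y ≠ 1)
    (hne : x ≠ y) : False := by
  classical
  obtain ⟨x', hx'def⟩ : ∃ x' : M, (x' : Γ) = x := ⟨⟨x, hxM⟩, rfl⟩
  obtain ⟨y', hy'def⟩ : ∃ y' : M, (y' : Γ) = y := ⟨⟨y, hyM⟩, rfl⟩
  have hx' : x' * x' = 1 := Subtype.ext (by simp [hx'def, hx])
  have hy' : y' * y' = 1 := Subtype.ext (by simp [hy'def, hy])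
  have hxy' : x' * y' = y' * x' := Subtype.ext (by simp [hx'def, hy'def, hxy])
  have hx1' : x' ≠ 1 := fun h => hx1 (by rw [← hx'def, h]; rfl)
  have hy1' : y' ≠ 1 := fun h => hy1 (by rw [← hy'def, h]; rfl)
  have hne' : x' ≠ y' := fun h => hne (by rw [← hx'def, ← hy'def, h])
  have e1 : ∀ z, x' * (x' * z) = z := fun z => by rw [← mul_assoc, hx', one_mul]
  have e2 : ∀ z, y' * (y' * z) = z := fun z => by rw [← mul_assoc, hy', one_mul]
  have e3 : ∀ z, x' * (y' * z) = y' * (x' * z) := fun z => by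
    rw [← mul_assoc, hxy', mul_assoc]
  let K : Subgroup M :=
    { carrier := {z | z = 1 ∨ z = x' ∨ z = y' ∨ z = y' * x'}
      one_mem' := Or.inl rfl
      mul_mem' := by
        rintro a b (rfl | rfl | rfl | rfl) (rfl | rfl | rfl | rfl) <;>
          simp [mul_assoc, hx', hy', hxy', e2, e3]
      inv_mem' := by
        rintro a (rfl | rfl | rfl | rfl)
        · simp
        · right; left; exact inv_eq_of_mul_eq_one_right hx'
        · right; right; left; exact inv_eq_of_mul_eq_one_right hy'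
        · right; right; right
          apply inv_eq_of_mul_eq_one_right
          rw [mul_assoc, e3, hx', mul_one, hy'] }
  have hK : IsPGroup 2 K := by
    rintro ⟨z, hz⟩
    refine ⟨1, ?_⟩
    apply Subtype.ext
    rw [pow_one, pow_two]
    show z * z = 1
    rcases hz with rfl | rfl | rfl | rfl
    · simp
    · exact hx'
    · exact hy'
    · rw [mul_assoc, e3, hx', mul_one, hy']
  obtain ⟨Q0, hKQ0⟩ := hK.exists_le_sylow
  obtain ⟨Q, hQdef⟩ : ∃ Q : Subgroup M, Q = (Q0 : Subgroup M) := ⟨_, rfl⟩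
  have hKQ : K ≤ Q := hQdef ▸ hKQ0
  have hcyc : IsCyclic Q := hQdef ▸ hc Q0
  letI : Fintype Q := Fintype.ofFinite Q
  have hle : (Finset.univ.filter (fun a : Q => a ^ 2 = 1)).card ≤ 2 :=
    IsCyclic.card_pow_eq_one_le (α := Q) (n := 2) (by norm_num)
  have h1Q : x' ∈ Q := hKQ (Or.inr (Or.inl rfl))
  have h2Q : y' ∈ Q := hKQ (Or.inr (Or.inr (Or.inl rfl)))
  have hs : ({1, ⟨x', h1Q⟩, ⟨y', h2Q⟩} : Finset Q) ⊆
      Finset.univ.filter (fun a : Q => a ^ 2 = 1) := by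
    intro a ha
    simp only [Finset.mem_insert, Finset.mem_singleton] at ha
    rw [Finset.mem_filter]
    refine ⟨Finset.mem_univ _, ?_⟩
    rcases ha with rfl | rfl | rfl
    · simp
    · apply Subtype.ext; rw [pow_two]; exact hx'
    · apply Subtype.ext; rw [pow_two]; exact hy'
  have hcard : ({1, ⟨x', h1Q⟩, ⟨y', h2Q⟩} : Finset Q).card = 3 := by
    rw [Finset.card_insert_of_notMem, Finset.card_insert_of_notMem, Finset.card_singleton]
    · simp only [Finset.mem_singleton]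
      intro h
      exact hne' (congrArg Subtype.val h)
    · simp only [Finset.mem_insert, Finset.mem_singleton, not_or]
      constructor
      · intro h
        exact hx1' (congrArg Subtype.val h).symm
      · intro h
        exact hy1' (congrArg Subtype.val h).symm
  have := Finset.card_le_card hs
  omega

/-! ### degree 4 -/

def h91a4 : Perm (Fin 4) := swap 0 1 * swap 2 3
def h91b4 : Perm (Fin 4) := swap 0 2 * swap 1 3
def h91c4 : Perm (Fin 4) := swap 0 1 * swap 1 2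

set_option maxRecDepth 100000 in
theorem h91_D4 : ∀ g : Perm (Fin 4), g ≠ 1 → ∃ h : Perm (Fin 4),
    (Perm.sign g = 1 → Perm.sign h = 1) ∧
    (g * h * g⁻¹ * h⁻¹ = h91a4 ∨ g * h * g⁻¹ * h⁻¹ = h91b4 ∨
      g * h * g⁻¹ * h⁻¹ = h91a4 * h91b4) := by
  decide

theorem h91_E4 : ∀ v : Perm (Fin 4), (v = h91a4 ∨ v = h91b4 ∨ v = h91a4 * h91b4) →
    ((v = h91a4 ∨ h91c4 * v * h91c4⁻¹ = h91a4 ∨ h91c4⁻¹ * v * h91c4⁻¹⁻¹ = h91a4) ∧
     (v = h91b4 ∨ h91c4 * v * h91c4⁻¹ = h91b4 ∨ h91c4⁻¹ * v * h91c4⁻¹⁻¹ = h91b4)) := by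
  decide

theorem h91_F4 : Perm.sign h91c4 = 1 ∧ Perm.sign h91a4 = 1 ∧ Perm.sign h91b4 = 1 ∧
    h91a4 * h91a4 = 1 ∧ h91b4 * h91b4 = 1 ∧ h91a4 * h91b4 = h91b4 * h91a4 ∧ h91a4 ≠ 1 ∧
    h91b4 ≠ 1 ∧ h91a4 ≠ h91b4 := by
  decide

theorem h91_core4 (P : Perm (Fin 4) → Prop) (hmul : ∀ g k, P g → P k → P (g * k))
    (hinv : ∀ g, P g → P g⁻¹)
    (hconj : ∀ g h, P g → (Perm.sign g = 1 → Perm.sign h = 1) → P (h * g * h⁻¹))
    (hex : ∃ g, g ≠ 1 ∧ P g) : P h91a4 ∧ P h91b4 := by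
  obtain ⟨g, hg1, hg⟩ := hex
  obtain ⟨h, hh, hv⟩ := h91_D4 g hg1
  have hPv : P (g * h * g⁻¹ * h⁻¹) := by
    have h1 : P (h * g⁻¹ * h⁻¹) := hconj g⁻¹ h (hinv g hg) (by simpa using hh)
    have h2 := hmul g _ hg h1
    have e : g * (h * g⁻¹ * h⁻¹) = g * h * g⁻¹ * h⁻¹ := by group
    rwa [e] at h2
  set v := g * h * g⁻¹ * h⁻¹ with hvdef
  have hc1 : P (h91c4 * v * h91c4⁻¹) := hconj v h91c4 hPv (fun _ => h91_F4.1)
  have hc2 : P (h91c4⁻¹ * v * h91c4⁻¹⁻¹) :=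
    hconj v h91c4⁻¹ hPv (fun _ => by rw [Perm.sign_inv]; exact h91_F4.1)
  obtain ⟨ha, hb⟩ := h91_E4 v hv
  constructor
  · rcases ha with h | h | h
    · rwa [← h]
    · rwa [← h]
    · rwa [← h]
  · rcases hb with h | h | h
    · rwa [← h]
    · rwa [← h]
    · rwa [← h]

theorem normal_eq_bot_S4 (M : Subgroup (Equiv.Perm (Fin 4))) (hM : M.Normal)
    (hc : ∀ P : Sylow 2 M, IsCyclic P) : M = ⊥ := by
  by_contra hne
  obtain ⟨g, hg1⟩ := Subgroup.ne_bot_iff_exists_ne_one.mp hne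
  obtain ⟨ha, hb⟩ := h91_core4 (fun g => g ∈ M) (fun g k hg hk => M.mul_mem hg hk)
    (fun g hg => M.inv_mem hg) (fun g h hg _ => hM.conj_mem g hg h)
    ⟨(g : Perm (Fin 4)), fun h => hg1 (Subtype.ext h), g.2⟩
  obtain ⟨-, -, -, h1, h2, h3, h4, h5, h6⟩ := h91_F4
  exact h91_false_of_four M hc h91a4 h91b4 ha hb h1 h2 h3 h4 h5 h6

theorem normal_eq_bot_A4 (M : Subgroup (alternatingGroup (Fin 4))) (hM : M.Normal)
    (hc : ∀ P : Sylow 2 M, IsCyclic P) : M = ⊥ := by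
  by_contra hne
  obtain ⟨g, hg1⟩ := Subgroup.ne_bot_iff_exists_ne_one.mp hne
  obtain ⟨s1, sa, sb, h1, h2, h3, h4, h5, h6⟩ := h91_F4
  obtain ⟨⟨ha0, ha⟩, ⟨hb0, hb⟩⟩ := h91_core4
    (fun g => ∃ hg : g ∈ alternatingGroup (Fin 4), (⟨g, hg⟩ : alternatingGroup (Fin 4)) ∈ M)
    (fun g k ⟨hg0, hg⟩ ⟨hk0, hk⟩ => ⟨mul_mem hg0 hk0, M.mul_mem hg hk⟩)
    (fun g ⟨hg0, hg⟩ => ⟨inv_mem hg0, M.inv_mem hg⟩)
    (fun g h ⟨hg0, hg⟩ hs => by
      have hh0 : h ∈ alternatingGroup (Fin 4) :=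
        Equiv.Perm.mem_alternatingGroup.mpr (hs (Equiv.Perm.mem_alternatingGroup.mp hg0))
      exact ⟨mul_mem (mul_mem hh0 hg0) (inv_mem hh0), hM.conj_mem ⟨g, hg0⟩ hg ⟨h, hh0⟩⟩)
    ⟨(g : Perm (Fin 4)), fun h => hg1 (Subtype.ext (Subtype.ext h)), (g : alternatingGroup (Fin 4)).2, g.2⟩
  exact h91_false_of_four M hc ⟨h91a4, ha0⟩ ⟨h91b4, hb0⟩ ha hb (Subtype.ext h1) (Subtype.ext h2)
    (Subtype.ext h3) (fun h => h4 (congrArg Subtype.val h)) (fun h => h5 (congrArg Subtype.val h))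
    (fun h => h6 (congrArg Subtype.val h))

/-! ### degree 5 -/

def h91a5 : Perm (Fin 5) := swap 0 1 * swap 2 3
def h91b5 : Perm (Fin 5) := swap 0 2 * swap 1 3

theorem h91_F5 : Perm.sign h91a5 = 1 ∧ Perm.sign h91b5 = 1 ∧
    h91a5 * h91a5 = 1 ∧ h91b5 * h91b5 = 1 ∧ h91a5 * h91b5 = h91b5 * h91a5 ∧ h91a5 ≠ 1 ∧
    h91b5 ≠ 1 ∧ h91a5 ≠ h91b5 := by
  decide

theorem normal_eq_bot_S5 (M : Subgroup (Equiv.Perm (Fin 5))) (hM : M.Normal)
    (hc : ∀ P : Sylow 2 M, IsCyclic P) : M = ⊥ := by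
  by_contra hne
  have hnt : Nontrivial M := (Subgroup.nontrivial_iff_ne_bot M).mpr hne
  have hle : alternatingGroup (Fin 5) ≤ M :=
    Equiv.Perm.alternatingGroup_le_of_normal (by simp) hnt
  obtain ⟨sa, sb, h1, h2, h3, h4, h5, h6⟩ := h91_F5
  exact h91_false_of_four M hc h91a5 h91b5 (hle (Equiv.Perm.mem_alternatingGroup.mpr sa))
    (hle (Equiv.Perm.mem_alternatingGroup.mpr sb)) h1 h2 h3 h4 h5 h6

theorem normal_eq_bot_A5 (M : Subgroup (alternatingGroup (Fin 5))) (hM : M.Normal)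
    (hc : ∀ P : Sylow 2 M, IsCyclic P) : M = ⊥ := by
  rcases hM.eq_bot_or_eq_top with h | h
  · exact h
  · exfalso
    obtain ⟨sa, sb, h1, h2, h3, h4, h5, h6⟩ := h91_F5
    have ha0 : h91a5 ∈ alternatingGroup (Fin 5) := Equiv.Perm.mem_alternatingGroup.mpr sa
    have hb0 : h91b5 ∈ alternatingGroup (Fin 5) := Equiv.Perm.mem_alternatingGroup.mpr sb
    exact h91_false_of_four M hc ⟨h91a5, ha0⟩ ⟨h91b5, hb0⟩ (h ▸ Subgroup.mem_top _)
      (h ▸ Subgroup.mem_top _) (Subtype.ext h1) (Subtype.ext h2)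
      (Subtype.ext h3) (fun h => h4 (congrArg Subtype.val h))
      (fun h => h5 (congrArg Subtype.val h)) (fun h => h6 (congrArg Subtype.val h))

end Cfsg.Agent.Helper91.Brown
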