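import Mathlib
import Cfsg.Agent.S4464
import Cfsg.Agent.S0144
import Cfsg.Agent.Lib.Helper79.Inflation

/-!
# helper91: all irreducible character degrees `≤ 4` ⇒ solvable

Corollary of S4464 (all degrees `< p` ⇒ normal abelian Sylow `p`-subgroup) and S0144 (Burnside `p^a q^b`).
Induction on `|G|`: if a prime `p ≥ 5` divides `|G|`, the normal abelian Sylow `p`-subgroup `P ≠ 1` has a solvable quotient
(inflation keeps the degrees `≤ 4`), so `G` is solvable; otherwise `|G| = 2^a 3^b`.
-/

set_option autoImplicit false

namespace Cfsg.Agent.Helper91.BLeFour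

open Cfsg

universe u

/-- a natural number `n ≠ 0` none of whose prime divisors is `≥ 5` is `2^a * 3^b` -/
theorem eq_two_pow_mul_three_pow (n : ℕ) (hn : n ≠ 0) (h : ∀ p : ℕ, p.Prime → p ∣ n → p < 5) :
    ∃ a b : ℕ, n = 2 ^ a * 3 ^ b := by
  induction n using Nat.strong_induction_on with
  | _ n ih =>
    by_cases h1 : n = 1
    · exact ⟨0, 0, by simp [h1]⟩
    · have hp := Nat.minFac_prime h1
      have hd := Nat.minFac_dvd n
      have hlt := h _ hp hd
      have h23 : n.minFac = 2 ∨ n.minFac = 3 := by
        have h2 := hp.two_le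
        interval_cases hq : n.minFac
        · left; rfl
        · right; rfl
        · exact absurd hp (by decide)
      obtain ⟨m, hm⟩ := hd
      have hm0 : m ≠ 0 := by
        rintro rfl
        simp at hm
        exact hn hm
      have hmlt : m < n := by
        rw [hm]
        have : 1 < n.minFac := hp.one_lt
        nlinarith [Nat.pos_of_ne_zero hm0]
      have hm' : ∀ p : ℕ, p.Prime → p ∣ m → p < 5 := fun p hpp hpm =>
        h p hpp (by rw [hm]; exact Dvd.dvd.mul_left hpm _)
      obtain ⟨a, b, hab⟩ := ih m hmlt hm0 hm'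
      rcases h23 with h2 | h3
      · refine ⟨a + 1, b, ?_⟩
        rw [hm, h2, hab]; ring
      · refine ⟨a, b + 1, ?_⟩
        rw [hm, h3, hab]; ring

theorem aux (n : ℕ) : ∀ (G : Type u) [Group G] [Finite G], Nat.card G = n →
    (∀ χ : IrrCharacter G, charDegree (χ : G → ℂ) ≤ 4) → Group.IsSolvable G := by
  induction n using Nat.strong_induction_on with
  | _ n ih =>
    intro G _ _ hcard h
    by_cases hex : ∃ p : ℕ, p.Prime ∧ 5 ≤ p ∧ p ∣ Nat.card G
    · obtain ⟨p, hp, hp5, hpd⟩ := hex
      obtain ⟨P, hPn, hPab, hPp, hPi⟩ := Cfsg.Agent.S4464.result (G := G) p hp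
        (fun χ => lt_of_le_of_lt (h χ) (by omega))
      haveI := hPn
      have hPne : P ≠ ⊥ := by
        rintro rfl
        apply hPi
        rw [Subgroup.index_bot]
        exact hpd
      have hlt : Nat.card (G ⧸ P) < n := by
        rw [← hcard, ← Subgroup.index_eq_card, ← Subgroup.card_mul_index P]
        have h1 : 1 < Nat.card P := by
          rw [Subgroup.one_lt_card_iff_ne_bot]
          exact hPne
        have h2 : 0 < P.index := Nat.pos_of_ne_zero Subgroup.index_ne_zero_of_finite
        nlinarith
      have hq : Group.IsSolvable (G ⧸ P) := by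
        apply ih _ hlt (G ⧸ P) rfl
        intro ψ
        have hd : charDegree (Cfsg.Agent.Helper79.inflate P ψ : G → ℂ) =
            charDegree (ψ : G ⧸ P → ℂ) := by
          unfold charDegree
          rw [Cfsg.Agent.Helper79.inflate_apply]
          rfl
        rw [← hd]
        exact h _
      have hPs : Group.IsSolvable P := by
        haveI : Std.Commutative (α := ↥P) (· * ·) :=
          ⟨fun x y => Subtype.ext (hPab x x.2 y y.2)⟩
        exact isSolvable_of_comm (fun x y => Subtype.ext (hPab x x.2 y y.2))
      exact solvable_of_ker_le_range P.subtype (QuotientGroup.mk' P)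
        (by rw [QuotientGroup.ker_mk', Subgroup.range_subtype])
    · have hn0 : Nat.card G ≠ 0 := Nat.card_pos.ne'
      obtain ⟨a, b, hab⟩ := eq_two_pow_mul_three_pow (Nat.card G) hn0 (by
        intro p hp hpd
        by_contra hge
        exact hex ⟨p, hp, by omega, hpd⟩)
      exact Cfsg.Agent.S0144.result 2 3 a b Nat.prime_two Nat.prime_three hab

/-- **all irreducible character degrees `≤ 4` ⇒ solvable** -/
theorem solvable_of_degrees_le_four {G : Type u} [Group G] [Finite G]
    (h : ∀ χ : IrrCharacter G, charDegree (χ : G → ℂ) ≤ 4) : Group.IsSolvable G :=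
  aux (Nat.card G) G rfl h

/-- contrapositive: a nonsolvable group has an irreducible character of degree `≥ 5` -/
theorem exists_degree_ge_five {G : Type u} [Group G] [Finite G] (h : ¬ Group.IsSolvable G) :
    ∃ χ : IrrCharacter G, 5 ≤ charDegree (χ : G → ℂ) := by
  by_contra hcon
  push_neg at hcon
  exact h (solvable_of_degrees_le_four (fun χ => by have := hcon χ; omega))

end Cfsg.Agent.Helper91.BLeFour
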