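import Mathlib
import Cfsg.Prelude.Def_Characters

/-!
# Fixed vectors of an irreducible character and non-generation

For an irreducible character `χ` of degree `≠ 1` of a finite group `G` and subgroups `A`, `Y`:
if the averages `f(X) = |X|⁻¹ ∑_{x ∈ X} χ x` (natural numbers, `= dim Fix X`) satisfy
`f(A ⊓ Y) < f(A) + f(Y)`, then `A ⊔ Y ≠ ⊤`: the fixed spaces of `A` and `Y` both lie in the fixed space
of `A ⊓ Y`, so by dimension they share a nonzero vector, fixed by `A ⊔ Y`; `G` fixes none.
-/

set_option autoImplicit false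

namespace Cfsg.Agent.Helper91.FixVector

open Module

universe u

/-- the sum of a character over a subgroup is `|X| * dim Fix(X)` -/
theorem sum_eq_card_mul_finrank {G : Type u} [Group G] {n : ℕ}
    (ρ : Representation ℂ G (Fin n → ℂ)) (X : Subgroup G) [Fintype X] :
    ∑ x : X, ρ.character (x : G) =
      (Nat.card X : ℂ) * (finrank ℂ (Representation.invariants (ρ.comp X.subtype)) : ℂ) := by
  have hne : (Nat.card X : ℂ) ≠ 0 := Nat.cast_ne_zero.mpr Nat.card_pos.ne'
  haveI : Invertible (Nat.card X : ℂ) := invertibleOfNonzero hne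
  have h1 := Representation.card_inv_mul_sum_char_eq_finrank (ρ.comp X.subtype)
  rw [← h1, ← mul_assoc, mul_inv_cancel₀ hne, one_mul]
  rfl

/-- **Fixed-vector lemma**, representation form. -/
theorem not_top_of_finrank {G : Type u} [Group G] {n : ℕ}
    (ρ : Representation ℂ G (Fin n → ℂ)) (hirr : ρ.IsIrreducible) (hn : n ≠ 1)
    (A Y : Subgroup G)
    (h : finrank ℂ (Representation.invariants (ρ.comp (A ⊓ Y).subtype)) <
      finrank ℂ (Representation.invariants (ρ.comp A.subtype)) +
        finrank ℂ (Representation.invariants (ρ.comp Y.subtype))) :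
    A ⊔ Y ≠ ⊤ := by
  intro htop
  set U := Representation.invariants (ρ.comp A.subtype) with hU
  set W := Representation.invariants (ρ.comp Y.subtype) with hW
  set Z := Representation.invariants (ρ.comp (A ⊓ Y).subtype) with hZ
  have hUZ : U ≤ Z := by
    intro v hv
    rw [hU, Representation.mem_invariants] at hv
    rw [hZ, Representation.mem_invariants]
    intro g
    exact hv ⟨(g : G), g.2.1⟩
  have hWZ : W ≤ Z := by
    intro v hv
    rw [hW, Representation.mem_invariants] at hv
    rw [hZ, Representation.mem_invariants]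
    intro g
    exact hv ⟨(g : G), g.2.2⟩
  have hsup : finrank ℂ (U ⊔ W : Submodule ℂ (Fin n → ℂ)) ≤ finrank ℂ Z :=
    Submodule.finrank_mono (sup_le hUZ hWZ)
  have hdim := Submodule.finrank_sup_add_finrank_inf_eq U W
  have hpos : 0 < finrank ℂ (U ⊓ W : Submodule ℂ (Fin n → ℂ)) := by omega
  obtain ⟨v, hv0⟩ := (Submodule.ne_bot_iff _).mp (Submodule.one_le_finrank_iff.mp hpos)
  obtain ⟨hv, hv0⟩ := hv0
  obtain ⟨hvU, hvW⟩ := Submodule.mem_inf.mp hv
  rw [hU, Representation.mem_invariants] at hvU
  rw [hW, Representation.mem_invariants] at hvW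
  -- the stabilizer of `v`
  let S : Subgroup G :=
    { carrier := {g | ρ g v = v}
      one_mem' := by simp
      mul_mem' := by
        intro a b ha hb
        simp only [Set.mem_setOf_eq] at ha hb ⊢
        rw [map_mul, Module.End.mul_apply, hb, ha]
      inv_mem' := by
        intro a ha
        simp only [Set.mem_setOf_eq] at ha ⊢
        have : ρ a⁻¹ (ρ a v) = v := by
          rw [← Module.End.mul_apply, ← map_mul, inv_mul_cancel, map_one, Module.End.one_apply]
        rw [ha] at this
        exact this }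
  have hAS : A ≤ S := fun g hg => hvU ⟨g, hg⟩
  have hYS : Y ≤ S := fun g hg => hvW ⟨g, hg⟩
  have hS : S = ⊤ := top_le_iff.mp (htop ▸ sup_le hAS hYS)
  have hfix : ∀ g : G, ρ g v = v := fun g => by
    have : g ∈ S := hS ▸ Subgroup.mem_top g
    exact this
  -- the line spanned by `v` is a subrepresentation
  let L : Subrepresentation ρ :=
    { toSubmodule := Submodule.span ℂ {v}
      apply_mem_toSubmodule := by
        intro g w hw
        obtain ⟨c, rfl⟩ := Submodule.mem_span_singleton.mp hw
        rw [map_smul, hfix g]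
        exact Submodule.smul_mem _ c (Submodule.mem_span_singleton_self v) }
  haveI := hirr
  rcases eq_bot_or_eq_top L with hL | hL
  · have : v ∈ (⊥ : Subrepresentation ρ).toSubmodule := by
      rw [← hL]; exact Submodule.mem_span_singleton_self v
    exact hv0 ((Submodule.mem_bot ℂ).mp this)
  · have h1 : (Submodule.span ℂ {v} : Submodule ℂ (Fin n → ℂ)) = ⊤ := by
      have := congrArg Subrepresentation.toSubmodule hL
      exact this
    have h2 : finrank ℂ (Submodule.span ℂ {v} : Submodule ℂ (Fin n → ℂ)) = 1 :=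
      finrank_span_singleton hv0
    rw [h1, finrank_top, Module.finrank_fin_fun] at h2
    exact hn h2

/-- **Fixed-vector lemma**, character form: `a`, `y`, `z` are the averages of the irreducible character `χ`
(of degree `≠ 1`) over `A`, `Y`, `A ⊓ Y`; if `z < a + y` then `A` and `Y` do not generate `G`. -/
theorem not_top_of_char_sums {G : Type u} [Group G] (χ : G → ℂ) (hχ : Cfsg.IsIrrCharacter G χ)
    (hdeg : χ 1 ≠ 1) (A Y : Subgroup G) [Fintype A] [Fintype Y] [Fintype (A ⊓ Y : Subgroup G)]
    (a y z : ℕ)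
    (hA : ∑ x : A, χ (x : G) = (Nat.card A : ℂ) * (a : ℂ))
    (hY : ∑ x : Y, χ (x : G) = (Nat.card Y : ℂ) * (y : ℂ))
    (hZ : ∑ x : (A ⊓ Y : Subgroup G), χ (x : G) = (Nat.card (A ⊓ Y : Subgroup G) : ℂ) * (z : ℂ))
    (h : z < a + y) : A ⊔ Y ≠ ⊤ := by
  obtain ⟨n, ρ, hirr, rfl⟩ := hχ
  have hn : n ≠ 1 := by
    intro h1
    apply hdeg
    subst h1
    simp [Representation.character]
  have key : ∀ (X : Subgroup G) [Fintype X] (m : ℕ),
      ∑ x : X, ρ.character (x : G) = (Nat.card X : ℂ) * (m : ℂ) →
      finrank ℂ (Representation.invariants (ρ.comp X.subtype)) = m := by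
    intro X _ m hm
    have hne : (Nat.card X : ℂ) ≠ 0 := Nat.cast_ne_zero.mpr Nat.card_pos.ne'
    rw [sum_eq_card_mul_finrank ρ X] at hm
    exact_mod_cast mul_left_cancel₀ hne hm
  apply not_top_of_finrank ρ hirr hn A Y
  rw [key A a hA, key Y y hY, key (A ⊓ Y) z hZ]
  exact h

end Cfsg.Agent.Helper91.FixVector
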