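import Mathlib
import Cfsg.Prelude.Def_Blocks
import Cfsg.Agent.Lib.Helper55.O2520Defs
import Cfsg.Agent.Lib.Helper91.FixVector

/-!
# O2520 lemma server (helper55, row S0984), piece (REP): dimensions of fixed spaces and the fixed-vector lemma
-/

set_option autoImplicit false

namespace Cfsg.Agent.Helper91.O2520

open Cfsg Cfsg.Agent.Helper55.O2520
open scoped Classical

universe u

open Module in
/-- (REP) `f X` = dimension of the `X`-fixed vectors. -/
theorem rep_fix {G : Type u} [Group G] [Fintype G] {n : ℕ}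
    (ρ : Representation ℂ G (Fin n → ℂ)) (hirr : ρ.IsIrreducible) (hn : 2 ≤ n) :
    ∃ f : Subgroup G → ℕ,
      (∀ X : Subgroup G, ∑ g : G, (if g ∈ X then ρ.character g else 0) =
        (Nat.card X : ℂ) * (f X : ℂ)) ∧
      (∀ X Y : Subgroup G, X ≤ Y → f Y ≤ f X) ∧
      (∀ X : Subgroup G, f X ≤ n) ∧
      (∀ X : Subgroup G, f X = n → ∀ g ∈ X, ρ g = 1) ∧
      (∀ A Y : Subgroup G, f (A ⊓ Y) < f A + f Y → A ⊔ Y ≠ ⊤) := by
  refine ⟨fun X => finrank ℂ (Representation.invariants (ρ.comp X.subtype)), ?_, ?_, ?_, ?_, ?_⟩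
  · intro X
    rw [← Finset.sum_filter]
    have h1 : ∑ g ∈ Finset.univ.filter (· ∈ X), ρ.character g = ∑ x : X, ρ.character (x : G) :=
      Finset.sum_subtype (Finset.univ.filter (· ∈ X)) (p := (· ∈ X)) (by simp)
        (fun g => ρ.character g)
    rw [h1]
    exact Cfsg.Agent.Helper91.FixVector.sum_eq_card_mul_finrank ρ X
  · intro X Y hXY
    apply Submodule.finrank_mono
    intro v hv
    rw [Representation.mem_invariants] at hv ⊢
    intro g
    exact hv ⟨(g : G), hXY g.2⟩
  · intro X
    have h := Submodule.finrank_le (Representation.invariants (ρ.comp X.subtype))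
    rwa [Module.finrank_fin_fun] at h
  · intro X hX g hg
    have htop : Representation.invariants (ρ.comp X.subtype) = ⊤ := by
      apply Submodule.eq_top_of_finrank_eq
      rw [Module.finrank_fin_fun]
      exact hX
    apply LinearMap.ext
    intro v
    have hv : v ∈ Representation.invariants (ρ.comp X.subtype) := by rw [htop]; trivial
    rw [Representation.mem_invariants] at hv
    exact hv ⟨g, hg⟩
  · intro A Y h
    exact Cfsg.Agent.Helper91.FixVector.not_top_of_finrank ρ hirr (by omega) A Y h

end Cfsg.Agent.Helper91.O2520
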