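import Cfsg.Agent.Lib.Helper7.Orbit

set_option autoImplicit false

namespace Cfsg.Agent.Helper91
open Cfsg Cfsg.Agent.Helper7
open scoped Pointwise

/-! ### Permutations from tables -/

theorem tab_unique {σ τ : Equiv.Perm GolayPt} {l : List ℕ} (h1 : Tab σ l) (h2 : Tab τ l) :
    σ = τ := by
  apply Equiv.ext
  intro p
  apply idx_injective
  rw [h1 p, h2 p]

theorem tab_list_unique {σ : Equiv.Perm GolayPt} {l l' : List ℕ} (h1 : Tab σ l) (h2 : Tab σ l')
    (hl : l.length = 24) (hl' : l'.length = 24) : l = l' := by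
  apply List.ext_getElem (by rw [hl, hl'])
  intro i hi hi'
  have hi24 : i < 24 := by rw [hl] at hi; exact hi
  have e1 := h1 (pt i)
  have e2 := h2 (pt i)
  rw [idx_pt i hi24] at e1 e2
  rw [List.getD_eq_getElem _ _ hi] at e1
  rw [List.getD_eq_getElem _ _ hi'] at e2
  rw [← e1, ← e2]

/-- The inverse table. -/
def invTab (l : List ℕ) : List ℕ := (List.range 24).map fun i => l.idxOf i

/-- The table is a permutation of `0, …, 23`. -/
def tabOK (l : List ℕ) : Bool :=
  Nat.beq l.length 24 && (List.range 24).all fun i =>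
    Nat.blt (l.getD i 0) 24 && Nat.beq ((invTab l).getD (l.getD i 0) 0) i &&
    Nat.blt ((invTab l).getD i 0) 24 && Nat.beq (l.getD ((invTab l).getD i 0) 0) i

theorem tabOK_spec {l : List ℕ} (h : tabOK l = true) : l.length = 24 ∧ ∀ i < 24,
    l.getD i 0 < 24 ∧ (invTab l).getD (l.getD i 0) 0 = i ∧ (invTab l).getD i 0 < 24 ∧
      l.getD ((invTab l).getD i 0) 0 = i := by
  rw [tabOK, Bool.and_eq_true, Nat.beq_eq, List.all_eq_true] at h
  refine ⟨h.1, fun i hi => ?_⟩
  have := h.2 i (List.mem_range.mpr hi)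
  simp only [Bool.and_eq_true, Nat.beq_eq, Nat.blt_eq] at this
  tauto

/-- The permutation with a given table. -/
def permOfTab (l : List ℕ) (h : tabOK l = true) : Equiv.Perm GolayPt where
  toFun p := pt (l.getD (idx p) 0)
  invFun p := pt ((invTab l).getD (idx p) 0)
  left_inv p := by
    obtain ⟨h1, h2, _, _⟩ := (tabOK_spec h).2 (idx p) (idx_lt p)
    show pt ((invTab l).getD (idx (pt (l.getD (idx p) 0))) 0) = p
    rw [idx_pt _ h1, h2, pt_idx]
  right_inv p := by
    obtain ⟨_, _, h3, h4⟩ := (tabOK_spec h).2 (idx p) (idx_lt p)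
    show pt (l.getD (idx (pt ((invTab l).getD (idx p) 0))) 0) = p
    rw [idx_pt _ h3, h4, pt_idx]

theorem tab_permOfTab (l : List ℕ) (h : tabOK l = true) : Tab (permOfTab l h) l := by
  intro p
  show idx (pt (l.getD (idx p) 0)) = _
  rw [idx_pt _ ((tabOK_spec h).2 (idx p) (idx_lt p)).1]

/-! ### The subgroup of the elements with a table in a list -/

section
variable {H : Subgroup (Equiv.Perm GolayPt)} {L : List (List ℕ)}

theorem tabSet_pow (hgood : GoodTabs H L) (hone : idTab ∈ L)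
    (hmul : ∀ l1 ∈ L, ∀ l2 ∈ L, mulTab l1 l2 ∈ L) (x : ↥H)
    (hx : ∃ l ∈ L, Tab (x : Equiv.Perm GolayPt) l) (n : ℕ) :
    ∃ l ∈ L, Tab ((x ^ n : ↥H) : Equiv.Perm GolayPt) l := by
  induction n with
  | zero => exact ⟨idTab, hone, by rw [pow_zero]; exact tab_one⟩
  | succ n ih =>
    obtain ⟨l1, h1, t1⟩ := ih
    obtain ⟨l2, h2, t2⟩ := hx
    obtain ⟨_, _, _, hlen⟩ := hgood l2 h2
    refine ⟨mulTab l1 l2, hmul l1 h1 l2 h2, ?_⟩
    rw [pow_succ]
    exact t1.mul t2 hlen

/-- The elements of `H` whose table lies in the list `L` (closed under products). -/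
def tabSubgroup (H : Subgroup (Equiv.Perm GolayPt)) (L : List (List ℕ)) (hgood : GoodTabs H L)
    (hone : idTab ∈ L) (hmul : ∀ l1 ∈ L, ∀ l2 ∈ L, mulTab l1 l2 ∈ L) : Subgroup ↥H where
  carrier := {x | ∃ l ∈ L, Tab (x : Equiv.Perm GolayPt) l}
  one_mem' := ⟨idTab, hone, tab_one⟩
  mul_mem' := by
    rintro x y ⟨l1, h1, t1⟩ ⟨l2, h2, t2⟩
    obtain ⟨_, _, _, hlen⟩ := hgood l2 h2
    exact ⟨mulTab l1 l2, hmul l1 h1 l2 h2, t1.mul t2 hlen⟩
  inv_mem' := by
    intro x hx
    have hpos : orderOf x ≠ 0 := (orderOf_pos x).ne'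
    have e : x⁻¹ = x ^ (orderOf x - 1) := by
      apply inv_eq_of_mul_eq_one_left
      rw [pow_sub_one_mul hpos, pow_orderOf_eq_one]
    show ∃ l ∈ L, Tab ((x⁻¹ : ↥H) : Equiv.Perm GolayPt) l
    rw [e]
    exact tabSet_pow hgood hone hmul x hx _

theorem mem_tabSubgroup (hgood : GoodTabs H L) (hone : idTab ∈ L)
    (hmul : ∀ l1 ∈ L, ∀ l2 ∈ L, mulTab l1 l2 ∈ L) (x : ↥H) :
    x ∈ tabSubgroup H L hgood hone hmul ↔ ∃ l ∈ L, Tab (x : Equiv.Perm GolayPt) l := Iff.rfl

theorem card_tabSubgroup (hgood : GoodTabs H L) (hone : idTab ∈ L)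
    (hmul : ∀ l1 ∈ L, ∀ l2 ∈ L, mulTab l1 l2 ∈ L) (hnd : L.Nodup) :
    Nat.card ↥(tabSubgroup H L hgood hone hmul) = L.length := by
  have hL : Nat.card ↥L.toFinset = L.length := by
    rw [Nat.card_eq_fintype_card, Fintype.card_coe, List.toFinset_card_of_nodup hnd]
  rw [← hL]
  apply le_antisymm
  · let f : ↥(tabSubgroup H L hgood hone hmul) → ↥L.toFinset := fun x =>
      ⟨Classical.choose x.2, List.mem_toFinset.mpr (Classical.choose_spec x.2).1⟩
    apply Nat.card_le_card_of_injective f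
    intro x y hxy
    have hx := (Classical.choose_spec x.2).2
    have hy := (Classical.choose_spec y.2).2
    have e : Classical.choose x.2 = Classical.choose y.2 := congrArg Subtype.val hxy
    rw [e] at hx
    exact Subtype.ext (Subtype.ext (tab_unique hx hy))
  · let g : ↥L.toFinset → ↥(tabSubgroup H L hgood hone hmul) := fun l =>
      ⟨⟨Classical.choose (hgood l.1 (List.mem_toFinset.mp l.2)),
        (Classical.choose_spec (hgood l.1 (List.mem_toFinset.mp l.2))).1⟩,
        ⟨l.1, List.mem_toFinset.mp l.2,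
          (Classical.choose_spec (hgood l.1 (List.mem_toFinset.mp l.2))).2.1⟩⟩
    apply Nat.card_le_card_of_injective g
    intro l l' hll
    have h1 := (Classical.choose_spec (hgood l.1 (List.mem_toFinset.mp l.2))).2
    have h2 := (Classical.choose_spec (hgood l'.1 (List.mem_toFinset.mp l'.2))).2
    have e : Classical.choose (hgood l.1 (List.mem_toFinset.mp l.2)) =
        Classical.choose (hgood l'.1 (List.mem_toFinset.mp l'.2)) :=
      congrArg (fun z : ↥(tabSubgroup H L hgood hone hmul) => ((z : ↥H) : Equiv.Perm GolayPt)) hll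
    rw [e] at h1
    exact Subtype.ext (tab_list_unique h1.1 h2.1 h1.2 h2.2)

/-- Sylow's theorem for a subgroup given by a list of tables: an element of order `p` of `H`
is conjugate in `H` to an element with a table in the list. -/
theorem exists_conj_tab {p k : ℕ} [hp : Fact p.Prime] (hgood : GoodTabs H L) (hone : idTab ∈ L)
    (hmul : ∀ l1 ∈ L, ∀ l2 ∈ L, mulTab l1 l2 ∈ L) (hnd : L.Nodup) (hlen : L.length = p ^ k)
    (hcard : ¬ p ^ (k + 1) ∣ Nat.card ↥H) {g : Equiv.Perm GolayPt} (hg : g ∈ H)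
    (hord : orderOf g = p) : ∃ h ∈ H, ∃ l ∈ L, Tab (h * g * h⁻¹) l := by
  have hPcard : Nat.card ↥(tabSubgroup H L hgood hone hmul) = p ^ k := by
    rw [card_tabSubgroup hgood hone hmul hnd, hlen]
  have hP : IsPGroup p ↥(tabSubgroup H L hgood hone hmul) := IsPGroup.of_card hPcard
  obtain ⟨Q, hPQ⟩ := hP.exists_le_sylow
  have hQcard := Q.card_eq_multiplicity
  have hfac : (Nat.card ↥H).factorization p ≤ k := by
    by_contra hlt
    push Not at hlt
    apply hcard
    exact (pow_dvd_pow p hlt).trans (Nat.ordProj_dvd _ p)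
  have hPQ' : tabSubgroup H L hgood hone hmul = (Q : Subgroup ↥H) :=
    Subgroup.eq_of_le_of_card_ge hPQ (by
      rw [hQcard, hPcard]
      exact Nat.pow_le_pow_right hp.out.pos hfac)
  have hx : IsPGroup p ↥(Subgroup.zpowers (⟨g, hg⟩ : ↥H)) := by
    apply IsPGroup.of_card (n := 1)
    rw [Nat.card_zpowers, pow_one, ← hord]
    exact (Subgroup.orderOf_coe (⟨g, hg⟩ : ↥H)).symm
  obtain ⟨Q', hxQ'⟩ := hx.exists_le_sylow
  obtain ⟨c, hc⟩ := MulAction.exists_smul_eq ↥H Q' Q
  have hxmem : (⟨g, hg⟩ : ↥H) ∈ (Q' : Subgroup ↥H) := hxQ' (Subgroup.mem_zpowers _)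
  have hmem : c * ⟨g, hg⟩ * c⁻¹ ∈ (Q : Subgroup ↥H) := by
    rw [← hc, Sylow.coe_subgroup_smul]
    have := Subgroup.smul_mem_pointwise_smul _ (MulAut.conj c) _ hxmem
    rwa [MulAut.smul_def, MulAut.conj_apply] at this
  rw [← hPQ', mem_tabSubgroup] at hmem
  obtain ⟨l, hl, ht⟩ := hmem
  exact ⟨c.1, c.2, l, hl, ht⟩

end

end Cfsg.Agent.Helper91
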