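import Cfsg.Agent.Lib.Helper91.SylowTabs
import Cfsg.Agent.Lib.Helper7.M12
import Cfsg.Prelude.Def_Spor_Mathieu

set_option autoImplicit false

namespace Cfsg.Agent.Helper91
open Cfsg Cfsg.Agent.Helper7
open scoped Pointwise

/-- Bitmask of the dodecad of squares. -/
def sqMask : ℕ := 340831

theorem squareDodecad_eq : Spor.squareDodecad = ofMask sqMask := by
  rw [Spor.squareDodecad, qrWord_eq, support₂_decW]
  rfl

theorem squareDodecad_mem : Spor.squareDodecad ∈ dodecads := by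
  rw [squareDodecad_eq, mem_dodecads_iff]
  exact ⟨(ofMask_mem_iff _ (by decide)).mpr (by decide +kernel), by rw [card_ofMask']; decide +kernel⟩

theorem M11_eq : Spor.M11 = stabL (setStab Spor.squareDodecad) [pt 0] := by
  ext g
  rw [mem_stabL, mem_setStab, Spor.M11, Spor.M12, Subgroup.mem_inf, Subgroup.mem_inf,
    MulAction.mem_stabilizer_iff, MulAction.mem_stabilizer_iff]
  constructor
  · rintro ⟨⟨h1, h2⟩, h3⟩
    refine ⟨⟨h1, h2⟩, ?_⟩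
    intro b hb
    rw [List.mem_singleton.mp hb]
    exact h3
  · rintro ⟨⟨h1, h2⟩, h3⟩
    exact ⟨⟨h1, h2⟩, h3 (pt 0) (by simp)⟩

theorem card_M11 : Nat.card ↥Spor.M11 = 7920 := by
  have h := card_m12_stabL squareDodecad_mem [pt 0] (by simp)
    (by
      intro x hx
      rw [List.mem_singleton.mp hx, squareDodecad_eq, mem_ofMask]
      decide) (by simp)
  rw [← M11_eq] at h
  simp only [List.length_cons, List.length_nil] at h
  norm_num [Nat.descFactorial] at h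
  omega

theorem mem_M11_iff (g : Equiv.Perm GolayPt) :
    g ∈ Spor.M11 ↔ g ∈ M24 ∧ g • ofMask sqMask = ofMask sqMask ∧ g (pt 0) = pt 0 := by
  rw [M11_eq, mem_stabL, mem_setStab, squareDodecad_eq]
  constructor
  · rintro ⟨⟨h1, h2⟩, h3⟩
    exact ⟨h1, h2, h3 (pt 0) (by simp)⟩
  · rintro ⟨h1, h2, h3⟩
    refine ⟨⟨h1, h2⟩, ?_⟩
    intro b hb
    rw [List.mem_singleton.mp hb]
    exact h3

/-- The table is that of an element of `M11`. -/
def m11TabOK (l : List ℕ) : Bool :=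
  tabOK l && (List.range 23).all (fun j => Nat.beq (encMask (pm l (genMask j))) (pm l (genMask j)))
    && Nat.beq (pm l sqMask) sqMask && Nat.beq (l.getD 0 0) 0

theorem goodTabs_M11_of_ok {L : List (List ℕ)} (h : L.all m11TabOK = true) :
    GoodTabs Spor.M11 L := by
  intro l hl
  have hok := List.all_eq_true.mp h l hl
  simp only [m11TabOK, Bool.and_eq_true, Nat.beq_eq, List.all_eq_true, List.mem_range] at hok
  obtain ⟨⟨⟨h1, h2⟩, h3⟩, h4⟩ := hok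
  have hlen := (tabOK_spec h1).1
  have ht := tab_permOfTab l h1
  refine ⟨permOfTab l h1, ?_, ht, hlen⟩
  rw [mem_M11_iff]
  refine ⟨mem_M24_of_tab ht ?_, ?_, ?_⟩
  · intro j hj
    rw [← pm_eq l hlen]
    exact h2 j hj
  · rw [smul_ofMask ht, ← pm_eq l hlen, h3]
  · exact ht.fix 0 (by norm_num) h4

/-- A Sylow 2-subgroup of `M11`. -/
def m11Syl2 : List (List ℕ) := [[0, 1, 2, 3, 4, 5, 6, 7, 8, 9, 10, 11, 12, 13, 14, 15, 16, 17, 18, 19, 20, 21, 22, 23],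
  [0, 1, 4, 12, 2, 14, 9, 7, 18, 6, 10, 17, 3, 13, 5, 15, 16, 11, 8, 20, 19, 21, 23, 22],
  [0, 2, 12, 8, 16, 20, 9, 5, 1, 6, 17, 10, 4, 13, 21, 11, 18, 15, 3, 23, 14, 22, 19, 7],
  [0, 2, 16, 4, 12, 21, 6, 5, 3, 9, 17, 15, 8, 13, 20, 11, 18, 10, 1, 14, 23, 22, 7, 19],
  [0, 3, 2, 1, 8, 5, 9, 19, 4, 6, 15, 11, 16, 13, 23, 10, 12, 17, 18, 7, 21, 20, 22, 14],
  [0, 3, 8, 16, 2, 23, 6, 19, 18, 9, 15, 17, 1, 13, 5, 10, 12, 11, 4, 21, 7, 20, 14, 22],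
  [0, 4, 3, 18, 16, 19, 6, 14, 1, 9, 11, 10, 2, 13, 21, 17, 8, 15, 12, 22, 5, 23, 20, 7],
  [0, 4, 16, 2, 3, 21, 9, 14, 12, 6, 11, 15, 18, 13, 19, 17, 8, 10, 1, 5, 22, 23, 7, 20],
  [0, 8, 1, 18, 12, 7, 9, 23, 3, 6, 11, 15, 2, 13, 20, 17, 4, 10, 16, 22, 5, 14, 21, 19],
  [0, 8, 12, 2, 1, 20, 6, 23, 16, 9, 11, 10, 18, 13, 7, 17, 4, 15, 3, 5, 22, 14, 19, 21],
  [0, 12, 4, 1, 18, 14, 6, 20, 2, 9, 15, 17, 16, 13, 22, 10, 3, 11, 8, 7, 21, 19, 23, 5],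
  [0, 12, 18, 16, 4, 22, 9, 20, 8, 6, 15, 11, 1, 13, 14, 10, 3, 17, 2, 21, 7, 19, 5, 23],
  [0, 16, 8, 3, 18, 23, 9, 21, 2, 6, 10, 17, 12, 13, 22, 15, 1, 11, 4, 19, 20, 7, 14, 5],
  [0, 16, 18, 12, 8, 22, 6, 21, 4, 9, 10, 11, 3, 13, 23, 15, 1, 17, 2, 20, 19, 7, 5, 14],
  [0, 18, 1, 8, 3, 7, 6, 22, 12, 9, 17, 15, 4, 13, 19, 11, 2, 10, 16, 23, 14, 5, 21, 20],
  [0, 18, 3, 4, 1, 19, 9, 22, 16, 6, 17, 10, 8, 13, 7, 11, 2, 15, 12, 14, 23, 5, 20, 21]]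

/-- A Sylow 3-subgroup of `M11`. -/
def m11Syl3 : List (List ℕ) := [[0, 1, 2, 3, 4, 5, 6, 7, 8, 9, 10, 11, 12, 13, 14, 15, 16, 17, 18, 19, 20, 21, 22, 23],
  [0, 1, 4, 3, 12, 20, 8, 7, 13, 18, 10, 22, 2, 6, 19, 14, 9, 11, 16, 15, 21, 5, 17, 23],
  [0, 1, 6, 3, 8, 20, 9, 10, 18, 2, 23, 11, 13, 16, 15, 19, 12, 17, 4, 14, 21, 5, 22, 7],
  [0, 1, 8, 3, 13, 21, 18, 10, 16, 4, 23, 22, 6, 9, 14, 15, 2, 11, 12, 19, 5, 20, 17, 7],
  [0, 1, 9, 3, 18, 21, 2, 23, 4, 6, 7, 11, 16, 12, 19, 14, 13, 17, 8, 15, 5, 20, 22, 10],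
  [0, 1, 12, 3, 2, 21, 13, 7, 6, 16, 10, 17, 4, 8, 15, 19, 18, 22, 9, 14, 5, 20, 11, 23],
  [0, 1, 13, 3, 6, 5, 16, 10, 9, 12, 23, 17, 8, 18, 19, 14, 4, 22, 2, 15, 20, 21, 11, 7],
  [0, 1, 16, 3, 9, 20, 12, 23, 2, 13, 7, 17, 18, 4, 14, 15, 8, 22, 6, 19, 21, 5, 11, 10],
  [0, 1, 18, 3, 16, 5, 4, 23, 12, 8, 7, 22, 9, 2, 15, 19, 6, 11, 13, 14, 20, 21, 17, 10]]

theorem m11Syl2_ok : m11Syl2.all m11TabOK = true := by decide +kernel

theorem m11Syl3_ok : m11Syl3.all m11TabOK = true := by decide +kernel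

theorem m11Syl2_mul : ∀ l1 ∈ m11Syl2, ∀ l2 ∈ m11Syl2, mulTab l1 l2 ∈ m11Syl2 := by decide +kernel

theorem m11Syl3_mul : ∀ l1 ∈ m11Syl3, ∀ l2 ∈ m11Syl3, mulTab l1 l2 ∈ m11Syl3 := by decide +kernel

theorem m11Syl2_nodup : m11Syl2.Nodup := by decide +kernel

theorem m11Syl3_nodup : m11Syl3.Nodup := by decide +kernel

/-- Every involution of the Sylow 2-subgroup and every member of the Sylow 3-subgroup fixes a
point outside the dodecad of squares. -/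
theorem m11Syl2_fix : ∀ l ∈ m11Syl2, mulTab l l = idTab →
    ∃ i < 24, Nat.testBit sqMask i = false ∧ l.getD i 0 = i := by decide +kernel

theorem m11Syl3_fix : ∀ l ∈ m11Syl3,
    ∃ i < 24, Nat.testBit sqMask i = false ∧ l.getD i 0 = i := by decide +kernel

/-- An element of `M11` of order two or three fixes a point outside the dodecad of squares. -/
theorem m11_fix_of_order {g : Equiv.Perm GolayPt} (hg : g ∈ Spor.M11)
    (hord : orderOf g = 2 ∨ orderOf g = 3) :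
    ∃ x : GolayPt, x ∉ Spor.squareDodecad ∧ g x = x := by
  have key : ∃ h ∈ Spor.M11, ∃ l : List ℕ, Tab (h * g * h⁻¹) l ∧
      ∃ i < 24, Nat.testBit sqMask i = false ∧ l.getD i 0 = i := by
    rcases hord with h2 | h3
    · have : Fact (Nat.Prime 2) := ⟨Nat.prime_two⟩
      have hgood := goodTabs_M11_of_ok m11Syl2_ok
      obtain ⟨h, hh, l, hl, ht⟩ := exists_conj_tab (p := 2) (k := 4) hgood
        (by decide) m11Syl2_mul m11Syl2_nodup (by decide) (by rw [card_M11]; decide) hg h2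
      refine ⟨h, hh, l, ht, m11Syl2_fix l hl ?_⟩
      obtain ⟨_, _, _, hlen⟩ := hgood l hl
      have hsq : (h * g * h⁻¹) * (h * g * h⁻¹) = 1 := by
        have : g * g = 1 := by rw [← pow_two, ← h2, pow_orderOf_eq_one]
        calc (h * g * h⁻¹) * (h * g * h⁻¹) = h * (g * g) * h⁻¹ := by group
          _ = 1 := by rw [this]; group
      have ht2 := ht.mul ht hlen
      rw [hsq] at ht2
      exact tab_list_unique ht2 tab_one (by rw [mulTab_length, hlen]) rfl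
    · have : Fact (Nat.Prime 3) := ⟨Nat.prime_three⟩
      obtain ⟨h, hh, l, hl, ht⟩ := exists_conj_tab (p := 3) (k := 2) (goodTabs_M11_of_ok m11Syl3_ok)
        (by decide) m11Syl3_mul m11Syl3_nodup (by decide) (by rw [card_M11]; decide) hg h3
      exact ⟨h, hh, l, ht, m11Syl3_fix l hl⟩
  obtain ⟨h, hh, l, ht, i, hi, hbit, hfix⟩ := key
  have e := ht.fix i hi hfix
  have hinv : h⁻¹ ∈ Spor.M11 := Spor.M11.inv_mem hh
  refine ⟨h⁻¹ (pt i), ?_, ?_⟩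
  · have hS : h⁻¹ ∈ setStab Spor.squareDodecad := by
      rw [M11_eq, mem_stabL] at hinv
      exact hinv.1
    rw [setStab_mem_iff hS, squareDodecad_eq, mem_ofMask, idx_pt i hi, hbit]
    simp
  · have : h (g (h⁻¹ (pt i))) = pt i := e
    apply h.injective
    have e2 : h (h⁻¹ (pt i)) = pt i := by simp
    rw [e2]
    exact this

end Cfsg.Agent.Helper91
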