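import Cfsg.Agent.Lib.Helper91.GenTabs

set_option autoImplicit false

namespace Cfsg.Agent.Helper91
open Cfsg Cfsg.Agent.Helper7
open scoped Pointwise

/-! ### Normalisers of groups given by lists of tables -/

/-- The table fixes the listed points. -/
def fixesTab (A : List ℕ) (l : List ℕ) : Bool := A.all fun a => Nat.beq (l.getD a 0) a

theorem fixesTab_iff (A : List ℕ) (l : List ℕ) :
    fixesTab A l = true ↔ ∀ a ∈ A, l.getD a 0 = a := by
  simp [fixesTab, Nat.beq_eq]

/-- Bitmask of the images of the point `q` under the tables of the list. -/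
def orbMask (L : List (List ℕ)) (q : ℕ) : ℕ :=
  L.foldl (fun m l => Nat.lor m (Nat.shiftLeft 1 (l.getD q 0))) 0

theorem testBit_foldl_orb (L : List (List ℕ)) (q c m0 : ℕ) :
    (L.foldl (fun m l => Nat.lor m (Nat.shiftLeft 1 (l.getD q 0))) m0).testBit c = true ↔
      m0.testBit c = true ∨ ∃ l ∈ L, l.getD q 0 = c := by
  induction L generalizing m0 with
  | nil => simp
  | cons l ls ih =>
    rw [List.foldl_cons, ih]
    have e : Nat.lor m0 (Nat.shiftLeft 1 (l.getD q 0)) = m0 ||| (1 <<< (l.getD q 0)) := rfl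
    rw [e, Nat.testBit_lor, Nat.one_shiftLeft, Nat.testBit_two_pow]
    simp only [Bool.or_eq_true, decide_eq_true_eq, List.mem_cons, exists_eq_or_imp]
    tauto

theorem testBit_orbMask (L : List (List ℕ)) (q c : ℕ) :
    (orbMask L q).testBit c = true ↔ ∃ l ∈ L, l.getD q 0 = c := by
  rw [orbMask, testBit_foldl_orb]
  simp

/-- An element normalising the set of permutations with tables in the list maps orbits into
orbits. -/
theorem orbit_card_le {H : Subgroup (Equiv.Perm GolayPt)} {L : List (List ℕ)}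
    (hgood : GoodTabs H L) {g : Equiv.Perm GolayPt}
    (hnorm : ∀ σ : Equiv.Perm GolayPt, (∃ l ∈ L, Tab σ l) → ∃ l ∈ L, Tab (g * σ * g⁻¹) l)
    {q : ℕ} (hq : q < 24) :
    popcF (orbMask L q) ≤ popcF (orbMask L (idx (g (pt q)))) := by
  rw [← card_ofMask', ← card_ofMask']
  apply Finset.card_le_card_of_injOn (fun p => g p)
  · intro p hp
    rw [Finset.mem_coe, mem_ofMask, testBit_orbMask] at hp
    obtain ⟨l, hl, e⟩ := hp
    obtain ⟨σ, _, ht, _⟩ := hgood l hl
    obtain ⟨l', hl', ht'⟩ := hnorm σ ⟨l, hl, ht⟩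
    have e1 : σ (pt q) = p := by rw [ht.apply q hq, e, pt_idx]
    have e2 : (g * σ * g⁻¹) (g (pt q)) = g p := by
      simp only [Equiv.Perm.mul_apply]
      rw [show g⁻¹ (g (pt q)) = pt q from by simp, e1]
    have e3 := ht' (g (pt q))
    rw [e2] at e3
    rw [Finset.mem_coe, mem_ofMask, testBit_orbMask]
    exact ⟨l', hl', e3.symm⟩
  · intro a _ b _ hab
    exact g.injective hab

section
variable {L : List (List ℕ)} (hgood : GoodTabs M24 L) (hone : idTab ∈ L)
  (hmul : ∀ l1 ∈ L, ∀ l2 ∈ L, mulTab l1 l2 ∈ L)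

/-- Every element of the normaliser of the group of the list that fixes the listed points lies
in the group. -/
def NClaim (F : List ℕ) : Prop :=
  ∀ g : ↥M24, g ∈ Subgroup.normalizer ((tabSubgroup M24 L hgood hone hmul : Subgroup ↥M24) : Set ↥M24) →
    (∀ a ∈ F, (g : Equiv.Perm GolayPt) (pt a) = pt a) → g ∈ tabSubgroup M24 L hgood hone hmul

/-- The orbit of `q` under the stabiliser of `A` is the only one of its size away from the
points of `F`, as far as the stabiliser of `F` can tell. -/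
def stepOK (L : List (List ℕ)) (A F : List ℕ) (q : ℕ) : Bool :=
  (List.range 24).all fun c => F.contains c ||
    !(Nat.beq (popcF (orbMask (L.filter (fixesTab A)) c)) (popcF (orbMask (L.filter (fixesTab A)) q))) ||
    tb (orbMask (L.filter (fixesTab F)) q) c

theorem fix_of_tab {σ : Equiv.Perm GolayPt} {l : List ℕ} (ht : Tab σ l) {a : ℕ} (ha : a < 24)
    (h : l.getD a 0 = a) : σ (pt a) = pt a := by
  rw [ht.apply a ha, h]

theorem getD_of_fix {σ : Equiv.Perm GolayPt} {l : List ℕ} (ht : Tab σ l) {a : ℕ} (ha : a < 24)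
    (h : σ (pt a) = pt a) : l.getD a 0 = a := by
  have := ht (pt a)
  rw [h, idx_pt a ha] at this
  exact this.symm

theorem norm_filter {A : List ℕ} (hA : ∀ a ∈ A, a < 24) {g : ↥M24}
    (hg : g ∈ Subgroup.normalizer ((tabSubgroup M24 L hgood hone hmul : Subgroup ↥M24) : Set ↥M24))
    (hfix : ∀ a ∈ A, (g : Equiv.Perm GolayPt) (pt a) = pt a) (σ : Equiv.Perm GolayPt)
    (hσ : ∃ l ∈ L.filter (fixesTab A), Tab σ l) :
    ∃ l ∈ L.filter (fixesTab A), Tab ((g : Equiv.Perm GolayPt) * σ * (g : Equiv.Perm GolayPt)⁻¹) l := by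
  obtain ⟨l, hl, ht⟩ := hσ
  rw [List.mem_filter, fixesTab_iff] at hl
  obtain ⟨σ', hσ', ht', _⟩ := hgood l hl.1
  have e : σ = σ' := tab_unique ht ht'
  have hσM : σ ∈ M24 := e ▸ hσ'
  have hx : (⟨σ, hσM⟩ : ↥M24) ∈ tabSubgroup M24 L hgood hone hmul := ⟨l, hl.1, ht⟩
  have hc := (Subgroup.mem_set_normalizer_iff.mp hg ⟨σ, hσM⟩).mp hx
  obtain ⟨l', hl', ht''⟩ := hc
  refine ⟨l', ?_, ht''⟩
  rw [List.mem_filter, fixesTab_iff]
  refine ⟨hl', fun a ha => ?_⟩
  apply getD_of_fix ht'' (hA a ha)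
  have h1 : (g : Equiv.Perm GolayPt)⁻¹ (pt a) = pt a := by
    rw [Equiv.Perm.inv_eq_iff_eq, hfix a ha]
  show (g : Equiv.Perm GolayPt) (σ ((g : Equiv.Perm GolayPt)⁻¹ (pt a))) = pt a
  rw [h1, fix_of_tab ht (hA a ha) (hl.2 a ha), hfix a ha]

theorem nclaim_step {A F : List ℕ} {q : ℕ} (hA : ∀ a ∈ A, a ∈ F) (hF : ∀ a ∈ F, a < 24)
    (hq : q < 24) (hok : stepOK L A F q = true) (next : NClaim hgood hone hmul (q :: F)) :
    NClaim hgood hone hmul F := by
  intro g hg hfix
  have hA' : ∀ a ∈ A, a < 24 := fun a ha => hF a (hA a ha)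
  have hfixA : ∀ a ∈ A, (g : Equiv.Perm GolayPt) (pt a) = pt a := fun a ha => hfix a (hA a ha)
  have hgoodA : GoodTabs M24 (L.filter (fixesTab A)) :=
    fun l hl => hgood l (List.mem_filter.mp hl).1
  set c := idx ((g : Equiv.Perm GolayPt) (pt q)) with hc
  have hc24 : c < 24 := idx_lt _
  have hgq : (g : Equiv.Perm GolayPt) (pt q) = pt c := (pt_idx _).symm
  by_cases hcF : c ∈ F
  · have : (g : Equiv.Perm GolayPt) (pt q) = (g : Equiv.Perm GolayPt) (pt c) := by
      rw [hgq, hfix c hcF]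
    have e := (g : Equiv.Perm GolayPt).injective this
    apply next g hg
    intro a ha
    rcases List.mem_cons.mp ha with rfl | ha
    · rw [hgq, e]
    · exact hfix a ha
  · have hginv : g⁻¹ ∈ Subgroup.normalizer
        ((tabSubgroup M24 L hgood hone hmul : Subgroup ↥M24) : Set ↥M24) := Subgroup.inv_mem _ hg
    have hfixinv : ∀ a ∈ A, ((g⁻¹ : ↥M24) : Equiv.Perm GolayPt) (pt a) = pt a := by
      intro a ha
      show (g : Equiv.Perm GolayPt)⁻¹ (pt a) = pt a
      rw [Equiv.Perm.inv_eq_iff_eq, hfixA a ha]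
    have le1 := orbit_card_le hgoodA (norm_filter hgood hone hmul hA' hg hfixA) hq
    have le2 := orbit_card_le hgoodA (norm_filter hgood hone hmul hA' hginv hfixinv) hc24
    have hback : idx (((g⁻¹ : ↥M24) : Equiv.Perm GolayPt) (pt c)) = q := by
      show idx ((g : Equiv.Perm GolayPt)⁻¹ (pt c)) = q
      rw [← hgq, show (g : Equiv.Perm GolayPt)⁻¹ ((g : Equiv.Perm GolayPt) (pt q)) = pt q from by simp,
        idx_pt q hq]
    rw [hback] at le2
    rw [← hc] at le1
    have hsz : popcF (orbMask (L.filter (fixesTab A)) c) =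
        popcF (orbMask (L.filter (fixesTab A)) q) := le_antisymm le2 le1
    have hokc := List.all_eq_true.mp hok c (List.mem_range.mpr hc24)
    simp only [Bool.or_eq_true, Bool.not_eq_true', List.contains_iff_mem] at hokc
    have htb : tb (orbMask (L.filter (fixesTab F)) q) c = true := by
      rcases hokc with (h1 | h2) | h3
      · exact absurd h1 hcF
      · rw [hsz] at h2
        have : Nat.beq (popcF (orbMask (L.filter (fixesTab A)) q))
            (popcF (orbMask (L.filter (fixesTab A)) q)) = true := Nat.beq_eq ▸ rfl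
        rw [this] at h2
        exact absurd h2 (by decide)
      · exact h3
    rw [tb_eq, testBit_orbMask] at htb
    obtain ⟨l, hl, e⟩ := htb
    rw [List.mem_filter, fixesTab_iff] at hl
    obtain ⟨σ, hσ, ht, _⟩ := hgood l hl.1
    have hs : (⟨σ, hσ⟩ : ↥M24) ∈ tabSubgroup M24 L hgood hone hmul := ⟨l, hl.1, ht⟩
    have hsN := Subgroup.le_normalizer hs
    have hg' : (⟨σ, hσ⟩ : ↥M24)⁻¹ * g ∈ Subgroup.normalizer
        ((tabSubgroup M24 L hgood hone hmul : Subgroup ↥M24) : Set ↥M24) :=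
      Subgroup.mul_mem _ (Subgroup.inv_mem _ hsN) hg
    have hmem := next _ hg' (by
      intro a ha
      show σ⁻¹ ((g : Equiv.Perm GolayPt) (pt a)) = pt a
      rw [Equiv.Perm.inv_eq_iff_eq]
      rcases List.mem_cons.mp ha with rfl | ha
      · rw [hgq, ht.apply a hq, e]
      · rw [hfix a ha, fix_of_tab ht (hF a ha) (hl.2 a ha)])
    have := Subgroup.mul_mem _ hs hmem
    rwa [mul_inv_cancel_left] at this

end

end Cfsg.Agent.Helper91
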