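import Cfsg.Agent.Lib.Helper91.GolayInv
import Cfsg.Agent.Lib.Helper7.M24Lower

set_option autoImplicit false

namespace Cfsg.Agent.Helper91
open Cfsg Cfsg.Agent.Helper7
open scoped Pointwise

/-- The words `σ c + c` for the listed pairs (index of a table, mask of a code word). -/
def coVecs (tabs : List (List ℕ)) (pairs : List (ℕ × ℕ)) : List ℕ :=
  pairs.map fun ac => Nat.xor (pm (tabs.getD ac.1 idTab) ac.2) ac.2

/-- Xor of the members of a list selected by the bits of `s`. -/
def xorSelL : List ℕ → ℕ → ℕ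
  | [], _ => 0
  | v :: vs, s => Nat.xor (bif Nat.beq (Nat.land s 1) 1 then v else 0) (xorSelL vs (Nat.shiftRight s 1))

/-- The check: the tables fix the root, the masks are code words, and every generator of the
code is a sum of the words `σ c + c`. -/
def coinvOK (tabs : List (List ℕ)) (r : ℕ) (pairs : List (ℕ × ℕ)) (sels : List ℕ) : Bool :=
  pairs.all (fun ac => Nat.beq (pm (tabs.getD ac.1 idTab) r) r && Nat.beq (encMask ac.2) ac.2
    && Nat.blt ac.2 16777216) &&
  (List.range 24).all (fun j => Nat.beq (xorSelL (coVecs tabs pairs) (sels.getD j 0)) (genMask j))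

theorem act_decW {σ : Equiv.Perm GolayPt} {l : List ℕ} (h : Tab σ l) (hlen : l.length = 24)
    (m : ℕ) : act σ (decW m) = decW (pm l m) := by
  rw [pm_eq l hlen]
  apply support₂_injective
  show support₂ (fun p => decW m (σ.symm p)) = _
  rw [← image_support₂, support₂_decW, support₂_decW, image_ofMask h]

theorem dotB_xorSelL (w : V24) (vs : List ℕ) (h : ∀ v ∈ vs, dotB (decW v) w = 0) (s : ℕ) :
    dotB (decW (xorSelL vs s)) w = 0 := by
  induction vs generalizing s with
  | nil => rw [xorSelL, decW_zero]; simp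
  | cons v vs ih =>
    rw [xorSelL]
    have hx : ∀ a b : ℕ, Nat.xor a b = a ^^^ b := fun _ _ => rfl
    rw [hx, decW_xor, map_add, LinearMap.add_apply,
      ih (fun v' hv' => h v' (List.mem_cons_of_mem _ hv'))]
    cases Nat.beq (Nat.land s 1) 1
    · rw [cond_false, decW_zero]; simp
    · rw [cond_true, h v List.mem_cons_self, add_zero]

theorem mem_golayCode_of_dotB (w : V24) (h : ∀ j < 24, dotB (decW (genMask j)) w = 0) :
    w ∈ golayCode := by
  rw [← orthogonal_golayCode, LinearMap.BilinForm.mem_orthogonal_iff]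
  intro c hc
  refine Submodule.span_induction ?_ ?_ ?_ ?_ hc
  · rintro x (⟨t, rfl⟩ | hx)
    · rw [qrWord_eq]
      exact h _ (lt_trans (ZMod.val_lt t) (by norm_num))
    · rw [Set.mem_singleton_iff.mp hx, one_eq]
      exact h 23 (by norm_num)
  · simp
  · intro x y _ _ hx hy
    rw [map_add, LinearMap.add_apply, hx, hy, add_zero]
  · intro a x _ hx
    rw [map_smul, LinearMap.smul_apply, hx, smul_zero]

/-- The property: the stabiliser of a set of points fixes no non-zero coset of the code. -/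
def NoFixedCoset (b : Finset GolayPt) : Prop :=
  ∀ w : V24, w ∉ golayCode → ∃ σ ∈ M24, σ • b = b ∧ act σ w - w ∉ golayCode

theorem noFixedCoset_of_ok {tabs : List (List ℕ)} (hT : GoodTabs M24 tabs) (r : ℕ)
    (pairs : List (ℕ × ℕ)) (sels : List ℕ) (h : coinvOK tabs r pairs sels = true) :
    NoFixedCoset (ofMask r) := by
  intro w hw
  by_contra hcon
  push Not at hcon
  apply hw
  rw [coinvOK, Bool.and_eq_true, List.all_eq_true, List.all_eq_true] at h
  obtain ⟨h1, h2⟩ := h
  have hv : ∀ v ∈ coVecs tabs pairs, dotB (decW v) w = 0 := by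
    intro v hv
    rw [coVecs, List.mem_map] at hv
    obtain ⟨ac, hac, rfl⟩ := hv
    have := h1 ac hac
    simp only [Bool.and_eq_true, Nat.beq_eq, Nat.blt_eq] at this
    obtain ⟨⟨hr, hc⟩, hlt⟩ := this
    obtain ⟨σ, hσ, ht, hlen⟩ := hT.getD ac.1
    have hcC : decW ac.2 ∈ golayCode := (decW_mem_iff _ (by norm_num; exact hlt)).mpr hc
    have hfix : σ • ofMask r = ofMask r := by
      rw [smul_ofMask ht, ← pm_eq _ hlen, hr]
    have hfix' : σ⁻¹ • ofMask r = ofMask r := by
      rw [inv_smul_eq_iff, hfix]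
    have hmem := hcon σ⁻¹ (M24.inv_mem hσ) hfix'
    have hx : ∀ a b : ℕ, Nat.xor a b = a ^^^ b := fun _ _ => rfl
    rw [hx, decW_xor, ← act_decW ht hlen, map_add, LinearMap.add_apply, dotB_comm (act σ _),
      dotB_act_right, dotB_comm _ (decW ac.2)]
    have e : dotB (decW ac.2) (act σ⁻¹ w) + dotB (decW ac.2) w = dotB (decW ac.2) (act σ⁻¹ w - w) := by
      rw [map_sub]
      generalize dotB (decW ac.2) (act σ⁻¹ w) = x
      generalize dotB (decW ac.2) w = y
      revert x y
      decide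
    rw [e]
    exact Cfsg.Agent.S0362.result _ _ hcC hmem
  apply mem_golayCode_of_dotB
  intro j hj
  have := h2 j (List.mem_range.mpr hj)
  rw [Nat.beq_eq] at this
  rw [← this]
  exact dotB_xorSelL w _ hv _

theorem NoFixedCoset.smul {b : Finset GolayPt} (h : NoFixedCoset b) {g : Equiv.Perm GolayPt}
    (hg : g ∈ M24) : NoFixedCoset (g • b) := by
  intro w hw
  have hw' : act g⁻¹ w ∉ golayCode := by
    intro hmem
    apply hw
    have := act_mem_golayCode hg hmem
    rwa [act_act_inv] at this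
  obtain ⟨σ, hσ, hfix, hmove⟩ := h _ hw'
  refine ⟨g * σ * g⁻¹, M24.mul_mem (M24.mul_mem hg hσ) (M24.inv_mem hg), ?_, ?_⟩
  · rw [mul_smul, mul_smul, inv_smul_smul, hfix]
  · intro hmem
    apply hmove
    have := act_mem_golayCode (M24.inv_mem hg) hmem
    have e : act g⁻¹ (act (g * σ * g⁻¹) w - w) = act σ (act g⁻¹ w) - act g⁻¹ w := by
      rw [act_mul, act_mul]
      have hsub : ∀ (τ : Equiv.Perm GolayPt) (x y : V24), act τ (x - y) = act τ x - act τ y :=
        fun _ _ _ => rfl
      rw [hsub, act_inv_act]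
    rwa [e] at this

def octStabProg : List (ℕ × ℕ) := [(4, 3), (4, 5), (0, 6), (4, 7), (0, 8), (0, 9), (1, 10), (3, 11), (3, 12), (4, 13), (2, 2), (0, 15), (0, 16), (4, 17), (0, 1), (2, 19), (4, 20), (3, 21), (1, 22)]

def octStabTabs : List (List ℕ) := [[0, 1, 10, 7, 2, 14, 18, 3, 17, 19, 12, 20, 4, 21, 6, 23, 22, 9, 13, 11, 16, 15, 8, 5], [4, 2, 3, 7, 12, 19, 21, 0, 15, 20, 10, 6, 1, 22, 16, 14, 17, 5, 18, 8, 13, 9, 11, 23], [0, 1, 2, 3, 4, 5, 6, 7, 8, 9, 10, 11, 12, 13, 14, 15, 16, 17, 18, 19, 20, 21, 22, 23]]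

def octPairs : List (ℕ × ℕ) := [(0, 13062145), (0, 4845570), (0, 13938692), (0, 7221256), (0, 10170384), (0, 11952160), (0, 15515712), (0, 4038912), (0, 8077824), (1, 13062145), (1, 13938692), (1, 7221256)]

def octSels : List ℕ := [3785, 2471, 3165, 171, 3335, 1947, 1199, 1790, 1126, 484, 1604, 832, 1417, 3274, 3043, 694, 2138, 2788, 2146, 2809, 3789, 4085, 728, 972]

def dodStabProg : List (ℕ × ℕ) := [(0, 3), (1, 0), (2, 6), (0, 7), (1, 8), (4, 9), (0, 10), (0, 11), (2, 12), (2, 13), (1, 14), (3, 15), (4, 1), (0, 17), (2, 18), (0, 19), (2, 20), (1, 21), (3, 22), (3, 23), (4, 24), (0, 25), (0, 26), (0, 27)]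

def dodStabTabs : List (List ℕ) := [[0, 1, 2, 3, 4, 5, 6, 7, 8, 9, 10, 11, 12, 13, 14, 15, 16, 17, 18, 19, 20, 21, 22, 23], [7, 1, 3, 11, 9, 22, 8, 13, 6, 14, 10, 0, 20, 2, 4, 23, 5, 16, 17, 12, 19, 18, 21, 15], [8, 21, 0, 7, 10, 18, 14, 4, 9, 3, 6, 11, 17, 2, 13, 19, 5, 23, 12, 16, 20, 15, 1, 22]]

def dodPairs : List (ℕ × ℕ) := [(1, 13062145), (1, 4845570), (1, 13938692), (1, 7221256), (1, 10170384), (1, 15515712), (1, 2019456), (1, 8077824), (2, 13062145), (2, 4845570), (2, 13938692), (2, 10170384)]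

def dodSels : List ℕ := [1190, 3205, 2746, 2024, 2288, 175, 3745, 3871, 2505, 2590, 2267, 812, 1683, 694, 647, 2816, 493, 3511, 409, 1361, 2870, 2556, 842, 3306]

theorem octStabTabs_sub : ∀ l ∈ octStabTabs, l ∈ slpTabs octStabProg m24InitTabs := by
  decide +kernel

theorem dodStabTabs_sub : ∀ l ∈ dodStabTabs, l ∈ slpTabs dodStabProg m24InitTabs := by
  decide +kernel

theorem goodTabs_octStab : GoodTabs M24 octStabTabs :=
  (goodTabs_slp octStabProg _ (goodTabs_init M24 shift_mem projInv_mem cubeTwist_mem)).subset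
    octStabTabs_sub

theorem goodTabs_dodStab : GoodTabs M24 dodStabTabs :=
  (goodTabs_slp dodStabProg _ (goodTabs_init M24 shift_mem projInv_mem cubeTwist_mem)).subset
    dodStabTabs_sub

theorem oct_ok : coinvOK octStabTabs octRoot octPairs octSels = true := by
  decide +kernel

theorem dod_ok : coinvOK dodStabTabs dodRoot dodPairs dodSels = true := by
  decide +kernel

theorem noFixedCoset_octad {o : Finset GolayPt} (ho : o ∈ octads) : NoFixedCoset o := by
  obtain ⟨g, hg, rfl⟩ := octad_reach M24 le_rfl shift_mem projInv_mem cubeTwist_mem o ho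
  exact (noFixedCoset_of_ok goodTabs_octStab _ _ _ oct_ok).smul hg

theorem noFixedCoset_dodecad {d : Finset GolayPt} (hd : d ∈ dodecads) : NoFixedCoset d := by
  obtain ⟨g, hg, rfl⟩ := dodecad_reach M24 le_rfl shift_mem projInv_mem cubeTwist_mem d hd
  exact (noFixedCoset_of_ok goodTabs_dodStab _ _ _ dod_ok).smul hg

end Cfsg.Agent.Helper91
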