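import Mathlib

/-!
# Commuting graphs: generic part (helper91, for S3413)

A bijection between the non-identity elements of two finite groups that preserves commutation
preserves the orders of the groups and of the centralizers of elements.
-/

set_option autoImplicit false

namespace Cfsg.Agent.Helper91.CG

open Subgroup

section gen

variable {K : Type*} [Group K]

/-- the centralizer of `a` is `1` together with the non-identity elements commuting with `a` -/
noncomputable def centOptEquiv (a : K) :
    ↥(centralizer ({a} : Set K)) ≃ Option {y : {k : K // k ≠ 1} // a * (y : K) = (y : K) * a} := by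
  classical
  exact
  { toFun := fun c =>
      if h : (c : K) = 1 then none
      else some ⟨⟨(c : K), h⟩, by
        have := mem_centralizer_singleton_iff.mp c.2
        exact this.symm⟩
    invFun := fun o =>
      match o with
      | none => 1
      | some y => ⟨(y : {k : K // k ≠ 1}), mem_centralizer_singleton_iff.mpr y.2.symm⟩
    left_inv := by
      intro c
      by_cases h : (c : K) = 1
      · simp only [h, dite_true]
        exact Subtype.ext h.symm
      · simp only [h, dite_false]
    right_inv := by
      intro o
      cases o with
      | none => simp
      | some y =>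
        have h : ((y : {k : K // k ≠ 1}) : K) ≠ 1 := y.1.2
        simp only [h, dite_false] }

theorem card_centralizer_eq_succ [Finite K] (a : K) :
    Nat.card ↥(centralizer ({a} : Set K)) =
      Nat.card {y : {k : K // k ≠ 1} // a * (y : K) = (y : K) * a} + 1 := by
  rw [Nat.card_congr (centOptEquiv a), Finite.card_option]

theorem card_eq_succ_card_ne_one [Finite K] : Nat.card K = Nat.card {k : K // k ≠ 1} + 1 := by
  classical
  have e : K ≃ Option {k : K // k ≠ 1} :=
    { toFun := fun c => if h : c = 1 then none else some ⟨c, h⟩
      invFun := fun o =>
        match o with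
        | none => 1
        | some y => y
      left_inv := by
        intro c
        by_cases h : c = 1
        · simp only [h, dite_true]
        · simp only [h, dite_false]
      right_inv := by
        intro o
        cases o with
        | none => simp
        | some y =>
          have h : (y : K) ≠ 1 := y.2
          simp only [h, dite_false] }
  rw [Nat.card_congr e, Finite.card_option]

end gen

section iso

variable {H M : Type*} [Group H] [Group M] [Finite H] [Finite M]
  (f : {h : H // h ≠ 1} ≃ {g : M // g ≠ 1})
  (hf : ∀ x y : {h : H // h ≠ 1}, (x : H) * y = y * x ↔ ((f x) : M) * (f y) = (f y) * (f x))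

include hf in
theorem card_centralizer_congr (x : {h : H // h ≠ 1}) :
    Nat.card ↥(centralizer ({(x : H)} : Set H)) =
      Nat.card ↥(centralizer ({((f x) : M)} : Set M)) := by
  rw [card_centralizer_eq_succ, card_centralizer_eq_succ]
  congr 1
  exact Nat.card_congr (f.subtypeEquiv (fun y => hf x y))

include f in
theorem card_congr_of_equiv_ne_one : Nat.card H = Nat.card M := by
  rw [card_eq_succ_card_ne_one (K := H), card_eq_succ_card_ne_one (K := M), Nat.card_congr f]

include hf in
/-- the elements with centralizer of order `n` correspond -/
theorem card_cent_eq_congr (n : ℕ) :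
    Nat.card {x : {h : H // h ≠ 1} // Nat.card ↥(centralizer ({(x : H)} : Set H)) = n} =
      Nat.card {z : {g : M // g ≠ 1} // Nat.card ↥(centralizer ({(z : M)} : Set M)) = n} := by
  refine Nat.card_congr (f.subtypeEquiv (fun x => ?_))
  rw [card_centralizer_congr f hf x]

end iso

section order

variable {K : Type*} [Group K]

/-- an element `≠ 1` whose centralizer has prime order `p` has order `p` -/
theorem orderOf_eq_of_card_centralizer (p : ℕ) (hp : p.Prime) (x : K) (hx : x ≠ 1)
    (h : Nat.card ↥(centralizer ({x} : Set K)) = p) : orderOf x = p := by
  have hmem : x ∈ centralizer ({x} : Set K) := mem_centralizer_singleton_iff.mpr rfl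
  have hd : orderOf (⟨x, hmem⟩ : ↥(centralizer ({x} : Set K))) ∣ p := by
    rw [← h]; exact orderOf_dvd_natCard _
  have ho : orderOf (⟨x, hmem⟩ : ↥(centralizer ({x} : Set K))) = orderOf x :=
    Subgroup.orderOf_mk x hmem
  rw [ho] at hd
  rcases (Nat.dvd_prime hp).mp hd with h1 | h1
  · exact absurd (orderOf_eq_one_iff.mp h1) hx
  · exact h1

end order

end Cfsg.Agent.Helper91.CG
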