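import Mathlib
import Cfsg.Prelude.Def_Spor_Mathieu
import Cfsg.Agent.Lib.Helper91.CommGraphGen
import Cfsg.Agent.Lib.Helper91.M11Sylow
import Cfsg.Agent.Lib.Helper7.M11LAMain
import Cfsg.Agent.Lib.Helper7.NSEMain
import Cfsg.Agent.Lib.Helper57.M11UB0
import Cfsg.Agent.Lib.Helper57.NSEG1
import Cfsg.Agent.Lib.Helper83.Ord7920Main

/-!
# The commuting graph of `M₁₁` forces 144 Sylow 11-subgroups (helper91, for S3413)

`M = ↥Cfsg.Spor.M11` is simple of order 7920, so it has `144` Sylow 11-subgroups, `1440` elements of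
order 11, each with centralizer of order 11.  If the commuting graph of a finite group `H` (on the
non-identity elements) is isomorphic to that of `M`, then `|H| = 7920` and `H` has at least `1440`
elements whose centralizer has order 11; these have order 11, so `H` has 144 Sylow 11-subgroups.
-/

set_option autoImplicit false
set_option linter.style.haveILetI false

namespace Cfsg.Agent.Helper91.CG

open Subgroup Cfsg Cfsg.Agent.Helper7.NSE

theorem card_sylow11_of_simple {G : Type*} [Group G] [Finite G] [IsSimpleGroup G]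
    (hc : Nat.card G = 7920) : Nat.card (Sylow 11 G) = 144 := by
  haveI : Fact (Nat.Prime 11) := ⟨by norm_num⟩
  have F := Cfsg.Agent.Helper7.M11LA.facts (G := G) hc
  obtain ⟨Q⟩ : Nonempty (Sylow 11 G) := inferInstance
  have h1 : Nat.card (Sylow 11 G) = (normalizer ((Q : Subgroup G) : Set G)).index :=
    Sylow.card_eq_index_normalizer Q
  have h2 := Subgroup.card_mul_index (normalizer ((Q : Subgroup G) : Set G))
  rw [F.nq Q, hc] at h2
  rw [h1]
  omega

/-- the model side: at least 1440 non-identity elements of `M₁₁` have a centralizer of order 11 -/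
theorem m11_card_cent_eleven :
    1440 ≤ Nat.card {z : {g : ↥Spor.M11 // g ≠ 1} //
      Nat.card ↥(centralizer ({(z : ↥Spor.M11)} : Set ↥Spor.M11)) = 11} := by
  haveI := Cfsg.Agent.Helper7.NSE.spor_simple
  have hc : Nat.card ↥Spor.M11 = 7920 := Cfsg.Agent.Helper91.card_M11
  have F := Cfsg.Agent.Helper7.M11LA.facts (G := ↥Spor.M11) hc
  have h144 := card_sylow11_of_simple (G := ↥Spor.M11) hc
  have hs : sn ↥Spor.M11 11 = 1440 := by
    rw [Cfsg.Agent.Helper57.NSE.card_order_eleven hc, h144]
  rw [← hs, sn]
  refine Nat.card_le_card_of_injective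
    (fun g => ⟨⟨g.1, ?_⟩, Cfsg.Agent.Helper57.M11U.b0_h11 F g.1 g.2⟩) ?_
  · intro h1
    have := g.2
    rw [h1, orderOf_one] at this
    omega
  · intro a b hab
    dsimp only at hab
    have h1 := Subtype.ext_iff.mp hab
    have h2 := Subtype.ext_iff.mp h1
    exact Subtype.ext h2

section H

variable {H : Type*} [Group H] [Finite H]
  (f : {h : H // h ≠ 1} ≃ {g : ↥Spor.M11 // g ≠ 1})
  (hf : ∀ x y : {h : H // h ≠ 1}, (x : H) * y = y * x ↔
    ((f x) : ↥Spor.M11) * (f y) = (f y) * (f x))

include f in
theorem card_of_graphIso : Nat.card H = 7920 := by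
  rw [card_congr_of_equiv_ne_one f, Cfsg.Agent.Helper91.card_M11]

include hf in
theorem card_sylow11_of_graphIso : Nat.card (Sylow 11 H) = 144 := by
  have hc : Nat.card H = 7920 := card_of_graphIso f
  -- at least 1440 elements with centralizer of order 11
  have h1 : 1440 ≤ Nat.card {x : {h : H // h ≠ 1} //
      Nat.card ↥(centralizer ({(x : H)} : Set H)) = 11} := by
    rw [card_cent_eq_congr f hf 11]
    exact m11_card_cent_eleven
  -- they all have order 11
  have h2 : Nat.card {x : {h : H // h ≠ 1} //
      Nat.card ↥(centralizer ({(x : H)} : Set H)) = 11} ≤ sn H 11 := by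
    rw [sn]
    refine Nat.card_le_card_of_injective
      (fun x => ⟨x.1.1, orderOf_eq_of_card_centralizer 11 (by norm_num) x.1.1 x.1.2 x.2⟩) ?_
    intro a b hab
    dsimp only at hab
    have h1 := Subtype.ext_iff.mp hab
    exact Subtype.ext (Subtype.ext h1)
  rw [Cfsg.Agent.Helper57.NSE.card_order_eleven hc] at h2
  rcases Cfsg.Agent.Helper83.Ord7920.card_sylow_mem hc with h | h | h | h
  all_goals first | exact h | omega

end H

end Cfsg.Agent.Helper91.CG
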