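import Cfsg.Agent.Lib.Helper91.GolayInv2

set_option autoImplicit false

namespace Cfsg.Agent.Helper91
open Cfsg Cfsg.Agent.Helper7

/-! ### A map on duads compatible with addition comes from a map on points -/

theorem support₂_pairW {a b : GolayPt} (hab : a ≠ b) : support₂ (pairW a b) = {a, b} := by
  ext p
  rw [mem_support₂, Finset.mem_insert, Finset.mem_singleton]
  simp only [pairW, Pi.add_apply, Pi.single_apply]
  by_cases h1 : p = a
  · subst h1
    simp [hab]
  · by_cases h2 : p = b
    · subst h2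
      simp [h1]
    · simp [h1, h2]

theorem pairW_eq_indW {a b : GolayPt} (hab : a ≠ b) : pairW a b = indW {a, b} := by
  rw [← support₂_pairW hab, indW_support₂]

theorem card_inter_of_symmDiff {α : Type*} [DecidableEq α] {s t : Finset α} (hs : s.card = 2)
    (ht : t.card = 2) (hst : (symmDiff s t).card = 2) : (s ∩ t).card = 1 := by
  have h1 := Finset.card_sdiff_add_card_inter s t
  have h2 := Finset.card_sdiff_add_card_inter t s
  rw [Finset.inter_comm t s] at h2
  have h3 : (symmDiff s t).card = (s \ t).card + (t \ s).card := by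
    rw [symmDiff_def, Finset.sup_eq_union, Finset.card_union_of_disjoint disjoint_sdiff_sdiff]
  omega

theorem symmDiff_eq_of_triple {α : Type*} [DecidableEq α] {s1 s2 s3 : Finset α}
    (h1 : s1.card = 2) (h2 : s2.card = 2) (h3 : s3.card = 2) (h12 : (s1 ∩ s2).card = 1)
    (h13 : (s1 ∩ s3).card = 1) (h23 : (s2 ∩ s3).card = 1)
    (h0 : ∀ p, ¬ (p ∈ s1 ∧ p ∈ s2 ∧ p ∈ s3)) : symmDiff s1 s2 = s3 := by
  have key : ∀ {a b c : Finset α}, a.card = 2 → (a ∩ b).card = 1 → (a ∩ c).card = 1 →
      (∀ p, ¬ (p ∈ a ∧ p ∈ b ∧ p ∈ c)) → ∀ p, p ∈ a → p ∈ b ∨ p ∈ c := by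
    intro a b c ha hab hac h p hp
    have hdisj : Disjoint (a ∩ b) (a ∩ c) := by
      rw [Finset.disjoint_left]
      intro q hq1 hq2
      exact h q ⟨(Finset.mem_inter.mp hq1).1, (Finset.mem_inter.mp hq1).2,
        (Finset.mem_inter.mp hq2).2⟩
    have hsub : (a ∩ b) ∪ (a ∩ c) ⊆ a :=
      Finset.union_subset Finset.inter_subset_left Finset.inter_subset_left
    have hcard : a.card ≤ ((a ∩ b) ∪ (a ∩ c)).card := by
      rw [Finset.card_union_of_disjoint hdisj, hab, hac, ha]
    have heq := Finset.eq_of_subset_of_card_le hsub hcard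
    rw [← heq, Finset.mem_union, Finset.mem_inter, Finset.mem_inter] at hp
    tauto
  have k1 := key h1 h12 h13 h0
  have k2 := key h2 (by rwa [Finset.inter_comm]) h23 (fun p hp => h0 p ⟨hp.2.1, hp.1, hp.2.2⟩)
  have k3 := key h3 (by rwa [Finset.inter_comm]) (by rwa [Finset.inter_comm])
    (fun p hp => h0 p ⟨hp.2.1, hp.2.2, hp.1⟩)
  ext p
  rw [Finset.mem_symmDiff]
  have a1 := k1 p
  have a2 := k2 p
  have a3 := k3 p
  have a0 := h0 p
  tauto

/-- A symmetric map `dl` from pairs of points to words of weight two that is additive on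
triangles and injective is induced by an injective map on points. -/
theorem exists_point_map (dl : GolayPt → GolayPt → V24)
    (hduad : ∀ a b, a ≠ b → ∃ a' b', a' ≠ b' ∧ dl a b = pairW a' b')
    (hsymm : ∀ a b, dl a b = dl b a)
    (hadd : ∀ a b d, a ≠ b → a ≠ d → b ≠ d → dl a b + dl a d = dl b d)
    (hinj : ∀ a b d e, a ≠ b → d ≠ e → dl a b = dl d e → pairW a b = pairW d e) :
    ∃ π : GolayPt → GolayPt, Function.Injective π ∧ ∀ a b, a ≠ b → dl a b = pairW (π a) (π b) := by
  -- supports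
  have hcard : ∀ a b, a ≠ b → (support₂ (dl a b)).card = 2 := by
    intro a b hab
    obtain ⟨a', b', hab', h⟩ := hduad a b hab
    rw [h, support₂_pairW hab', Finset.card_pair hab']
  have hsd : ∀ a b d, a ≠ b → a ≠ d → b ≠ d →
      symmDiff (support₂ (dl a b)) (support₂ (dl a d)) = support₂ (dl b d) := by
    intro a b d h1 h2 h3
    rw [← Cfsg.Agent.Helper26.support₂_add, hadd a b d h1 h2 h3]
  have hint : ∀ a b d, a ≠ b → a ≠ d → b ≠ d →
      (support₂ (dl a b) ∩ support₂ (dl a d)).card = 1 := by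
    intro a b d h1 h2 h3
    apply card_inter_of_symmDiff (hcard a b h1) (hcard a d h2)
    rw [hsd a b d h1 h2 h3]
    exact hcard b d h3
  -- evaluation of `pairW`
  have hpair_ne : ∀ a b d e : GolayPt, a ≠ b → a ≠ d → a ≠ e → pairW a b ≠ pairW d e := by
    intro a b d e h1 h2 h3 h
    have := congrFun h a
    simp [pairW, h1, h2, h3] at this
  -- common point of the duads through `a`
  have hcommon : ∀ a, ∃ p, ∀ b, b ≠ a → p ∈ support₂ (dl a b) := by
    intro a
    obtain ⟨b1, hb1, -⟩ := exists_third a a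
    obtain ⟨b2, hb2a, hb21⟩ := exists_third a b1
    obtain ⟨p, hp⟩ := Finset.card_eq_one.mp (hint a b1 b2 (Ne.symm hb1) (Ne.symm hb2a) (Ne.symm hb21))
    have hp1 : p ∈ support₂ (dl a b1) ∩ support₂ (dl a b2) := by rw [hp]; exact Finset.mem_singleton_self p
    refine ⟨p, fun b hb => ?_⟩
    by_cases e1 : b = b1
    · rw [e1]; exact (Finset.mem_inter.mp hp1).1
    by_cases e2 : b = b2
    · rw [e2]; exact (Finset.mem_inter.mp hp1).2
    by_contra hnot
    have h0 : ∀ q, ¬ (q ∈ support₂ (dl a b1) ∧ q ∈ support₂ (dl a b2) ∧ q ∈ support₂ (dl a b)) := by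
      rintro q ⟨hq1, hq2, hq3⟩
      have : q ∈ support₂ (dl a b1) ∩ support₂ (dl a b2) := Finset.mem_inter.mpr ⟨hq1, hq2⟩
      rw [hp, Finset.mem_singleton] at this
      rw [this] at hq3
      exact hnot hq3
    have hsym := symmDiff_eq_of_triple (hcard a b1 (Ne.symm hb1)) (hcard a b2 (Ne.symm hb2a))
      (hcard a b (Ne.symm hb)) (hint a b1 b2 (Ne.symm hb1) (Ne.symm hb2a) (Ne.symm hb21))
      (hint a b1 b (Ne.symm hb1) (Ne.symm hb) (Ne.symm e1))
      (hint a b2 b (Ne.symm hb2a) (Ne.symm hb) (Ne.symm e2)) h0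
    rw [hsd a b1 b2 (Ne.symm hb1) (Ne.symm hb2a) (Ne.symm hb21)] at hsym
    have heq : dl b1 b2 = dl a b := support₂_injective hsym
    have := hinj a b b1 b2 (Ne.symm hb) (Ne.symm hb21) heq.symm
    exact hpair_ne a b b1 b2 (Ne.symm hb) (Ne.symm hb1) (Ne.symm hb2a) this
  choose π hπ using hcommon
  have hne : ∀ a b, a ≠ b → π a ≠ π b := by
    intro a b hab heq
    obtain ⟨d, hda, hdb⟩ := exists_third a b
    have m1 : π a ∈ support₂ (dl a b) := hπ a b (Ne.symm hab)
    have m2 : π a ∈ support₂ (dl a d) := hπ a d hda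
    have m3 : π b ∈ support₂ (dl b d) := hπ b d hdb
    rw [← hsd a b d hab (Ne.symm hda) (Ne.symm hdb), ← heq, Finset.mem_symmDiff] at m3
    tauto
  refine ⟨π, ?_, ?_⟩
  · intro a b h
    by_contra hab
    exact hne a b hab h
  · intro a b hab
    have m1 : π a ∈ support₂ (dl a b) := hπ a b (Ne.symm hab)
    have m2 : π b ∈ support₂ (dl a b) := by
      rw [hsymm a b]
      exact hπ b a hab
    have hsub : ({π a, π b} : Finset GolayPt) ⊆ support₂ (dl a b) := by
      intro q hq
      rw [Finset.mem_insert, Finset.mem_singleton] at hq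
      rcases hq with rfl | rfl
      · exact m1
      · exact m2
    have heq := Finset.eq_of_subset_of_card_le hsub (by
      rw [hcard a b hab, Finset.card_pair (hne a b hab)])
    rw [pairW_eq_indW (hne a b hab), heq, indW_support₂]

end Cfsg.Agent.Helper91
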