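import Mathlib
import Cfsg.Prelude.Def_ChevG2
import Cfsg.Agent.Lib.Helper92.G24Defs

/-!
G24 server (helper92, S1679), piece (XE): the frozen matrices `xMat r (fc t)` of `chevG2` over `F4` are the
tables `XT r t` of `G24Defs` (kernel evaluation, 36 matrices of 196 entries).
-/

set_option autoImplicit false
set_option maxRecDepth 100000

namespace Cfsg.Agent.Helper91.G24

open Cfsg.Agent.Helper92.G24

theorem h91_xe_one : ∀ r : Fin D.nroots, D.xMat F r (fc 1) = XT r.val 1 := by
  decide +kernel

theorem h91_xe_two : ∀ r : Fin D.nroots, D.xMat F r (fc 2) = XT r.val 2 := by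
  decide +kernel

theorem h91_xe_three : ∀ r : Fin D.nroots, D.xMat F r (fc 3) = XT r.val 3 := by
  decide +kernel

/-- (XE) the frozen matrices `xMat r (fc t)` are the tables `XT r t`. -/
theorem xMat_eq_table (r : Fin D.nroots) (t : ℕ) (h1 : 1 ≤ t) (h3 : t ≤ 3) : D.xMat F r (fc t) = XT r.val t := by
  interval_cases t
  · exact h91_xe_one r
  · exact h91_xe_two r
  · exact h91_xe_three r

end Cfsg.Agent.Helper91.G24

-- verbatim check against the server's stub
section Check
open Cfsg.Agent.Helper92.G24
example : ∀ (r : Fin D.nroots) (t : ℕ) (_ : 1 ≤ t) (_ : t ≤ 3), D.xMat F r (fc t) = XT r.val t :=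
  @Cfsg.Agent.Helper91.G24.xMat_eq_table
end Check
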