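import Cfsg.Agent.Lib.Helper91.SylowTabs
import Cfsg.Agent.Lib.Helper7.M24Order

set_option autoImplicit false

namespace Cfsg.Agent.Helper91
open Cfsg Cfsg.Agent.Helper7
open scoped Pointwise

/-! ### Lists of tables spanned by a generating sequence -/

/-- The products of the subsequences of a list of tables. -/
def spanTabs : List (List ℕ) → List (List ℕ)
  | [] => [idTab]
  | s :: ss => spanTabs ss ++ (spanTabs ss).map (fun l => mulTab l s)

theorem idTab_mem_spanTabs (gs : List (List ℕ)) : idTab ∈ spanTabs gs := by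
  induction gs with
  | nil => simp [spanTabs]
  | cons s ss ih =>
    rw [spanTabs, List.mem_append]
    exact Or.inl ih

theorem length_spanTabs (gs : List (List ℕ)) : (spanTabs gs).length = 2 ^ gs.length := by
  induction gs with
  | nil => rfl
  | cons s ss ih =>
    rw [spanTabs, List.length_append, List.length_map, ih, List.length_cons, pow_succ]
    ring

theorem goodTabs_spanTabs {H : Subgroup (Equiv.Perm GolayPt)} {gs : List (List ℕ)}
    (h : GoodTabs H gs) : GoodTabs H (spanTabs gs) := by
  induction gs with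
  | nil =>
    intro l hl
    rw [spanTabs, List.mem_singleton] at hl
    rw [hl]
    exact ⟨1, H.one_mem, tab_one, rfl⟩
  | cons s ss ih =>
    have hss : GoodTabs H ss := fun l hl => h l (List.mem_cons_of_mem _ hl)
    intro l hl
    rw [spanTabs, List.mem_append, List.mem_map] at hl
    rcases hl with hl | ⟨l', hl', rfl⟩
    · exact ih hss l hl
    · obtain ⟨σ, hσ, ht, _⟩ := ih hss l' hl'
      obtain ⟨τ, hτ, ht', hlen'⟩ := h s (List.mem_cons_self ..)
      exact ⟨σ * τ, H.mul_mem hσ hτ, ht.mul ht' hlen', by rw [mulTab_length, hlen']⟩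

theorem mulTab_idTab {l : List ℕ} (hl : l.length = 24) : mulTab l idTab = l := by
  apply List.ext_getElem
  · rw [mulTab_length, hl]; rfl
  · intro i h1 h2
    have hi : i < 24 := by rw [hl] at h2; exact h2
    simp only [mulTab, idTab, List.getElem_map, List.getElem_range]
    rw [List.getD_eq_getElem _ _ h2]

/-- A list of tables spanned by generators and closed under right multiplication by the
generators is closed under multiplication. -/
theorem spanTabs_mul_closed {H : Subgroup (Equiv.Perm GolayPt)} {gens : List (List ℕ)}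
    (h : GoodTabs H gens)
    (hR : ∀ l ∈ spanTabs gens, ∀ s ∈ gens, mulTab l s ∈ spanTabs gens) :
    ∀ l1 ∈ spanTabs gens, ∀ l2 ∈ spanTabs gens, mulTab l1 l2 ∈ spanTabs gens := by
  have hgood := goodTabs_spanTabs h
  have key : ∀ gs : List (List ℕ), (∀ s ∈ gs, s ∈ gens) →
      ∀ l2 ∈ spanTabs gs, ∀ l1 ∈ spanTabs gens, mulTab l1 l2 ∈ spanTabs gens := by
    intro gs
    induction gs with
    | nil =>
      intro _ l2 hl2 l1 hl1
      rw [spanTabs, List.mem_singleton] at hl2
      obtain ⟨_, _, _, hlen⟩ := hgood l1 hl1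
      rw [hl2, mulTab_idTab hlen]
      exact hl1
    | cons s ss ih =>
      intro hsub l2 hl2 l1 hl1
      have hsub' : ∀ t ∈ ss, t ∈ gens := fun t ht => hsub t (List.mem_cons_of_mem _ ht)
      rw [spanTabs, List.mem_append, List.mem_map] at hl2
      rcases hl2 with hl2 | ⟨l, hl, rfl⟩
      · exact ih hsub' l2 hl2 l1 hl1
      · have hs : s ∈ gens := hsub s (List.mem_cons_self ..)
        have h1 := ih hsub' l hl l1 hl1
        have h2 := hR _ h1 s hs
        have hss : GoodTabs H ss := fun l hl => h l (hsub' l hl)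
        obtain ⟨σ1, _, t1, len1⟩ := hgood l1 hl1
        obtain ⟨σ, _, t, len⟩ := goodTabs_spanTabs hss l hl
        obtain ⟨τ, _, tτ, lenτ⟩ := h s hs
        have e : mulTab l1 (mulTab l s) = mulTab (mulTab l1 l) s := by
          have a1 : Tab (σ1 * (σ * τ)) (mulTab l1 (mulTab l s)) :=
            t1.mul (t.mul tτ lenτ) (by rw [mulTab_length, lenτ])
          have a2 : Tab (σ1 * σ * τ) (mulTab (mulTab l1 l) s) := (t1.mul t len).mul tτ lenτ
          rw [mul_assoc] at a2
          exact tab_list_unique a1 a2 (by rw [mulTab_length, mulTab_length, lenτ])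
            (by rw [mulTab_length, lenτ])
        rw [e]
        exact h2
  exact fun l1 hl1 l2 hl2 => key gens (fun s hs => hs) l2 hl2 l1 hl1

/-! ### Tables of elements of `M24` -/

/-- The table is that of an element of `M24`. -/
def m24TabOK (l : List ℕ) : Bool :=
  tabOK l && (List.range 23).all (fun j => Nat.beq (encMask (pm l (genMask j))) (pm l (genMask j)))

theorem m24TabOK_spec {l : List ℕ} (h : m24TabOK l = true) :
    ∃ hok : tabOK l = true, permOfTab l hok ∈ M24 := by
  simp only [m24TabOK, Bool.and_eq_true, Nat.beq_eq, List.all_eq_true, List.mem_range] at h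
  obtain ⟨h1, h2⟩ := h
  have hlen := (tabOK_spec h1).1
  refine ⟨h1, mem_M24_of_tab (tab_permOfTab l h1) ?_⟩
  intro j hj
  rw [← pm_eq l hlen]
  exact h2 j hj

theorem goodTabs_M24_of_ok {L : List (List ℕ)} (h : L.all m24TabOK = true) :
    GoodTabs M24 L := by
  intro l hl
  obtain ⟨h1, h2⟩ := m24TabOK_spec (List.all_eq_true.mp h l hl)
  exact ⟨permOfTab l h1, h2, tab_permOfTab l h1, (tabOK_spec h1).1⟩

/-! ### Polycyclic generating sequences -/

/-- Boolean equality of tables. -/
def tabBeq : List ℕ → List ℕ → Bool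
  | [], [] => true
  | a :: as, b :: bs => Nat.beq a b && tabBeq as bs
  | _, _ => false

theorem tabBeq_iff (a b : List ℕ) : tabBeq a b = true ↔ a = b := by
  induction a generalizing b with
  | nil => cases b <;> simp [tabBeq]
  | cons x xs ih =>
    cases b with
    | nil => simp [tabBeq]
    | cons y ys => simp [tabBeq, ih, Nat.beq_eq]

/-- Boolean membership of a table in a list of tables. -/
def elemTab (l : List ℕ) : List (List ℕ) → Bool
  | [] => false
  | l' :: ls => tabBeq l l' || elemTab l ls

theorem elemTab_iff (l : List ℕ) (L : List (List ℕ)) : elemTab l L = true ↔ l ∈ L := by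
  induction L with
  | nil => simp [elemTab]
  | cons l' ls ih => simp [elemTab, ih, tabBeq_iff]

/-- The sequence is polycyclic: each generator lies outside the span of the later ones, has
its square there, and normalises it. -/
def pcOK : List (List ℕ) → Bool
  | [] => true
  | s :: ss => pcOK ss && !elemTab s (spanTabs ss) && elemTab (mulTab s s) (spanTabs ss) &&
      ss.all (fun t => (spanTabs ss).any (fun l' => tabBeq (mulTab s t) (mulTab l' s)))

theorem mulTab_assoc_of_tab {σ1 σ2 σ3 : Equiv.Perm GolayPt} {l1 l2 l3 : List ℕ}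
    (h1 : Tab σ1 l1) (h2 : Tab σ2 l2) (h3 : Tab σ3 l3) (len2 : l2.length = 24)
    (len3 : l3.length = 24) : mulTab (mulTab l1 l2) l3 = mulTab l1 (mulTab l2 l3) := by
  have a1 : Tab (σ1 * (σ2 * σ3)) (mulTab l1 (mulTab l2 l3)) :=
    h1.mul (h2.mul h3 len3) (by rw [mulTab_length, len3])
  have a2 : Tab (σ1 * σ2 * σ3) (mulTab (mulTab l1 l2) l3) := (h1.mul h2 len2).mul h3 len3
  rw [mul_assoc] at a2
  exact tab_list_unique a2 a1 (by rw [mulTab_length, len3])
    (by rw [mulTab_length, mulTab_length, len3])

theorem spanTabs_of_pcOK {H : Subgroup (Equiv.Perm GolayPt)} {gens : List (List ℕ)}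
    (h : GoodTabs H gens) (hpc : pcOK gens = true) :
    (∀ l ∈ spanTabs gens, ∀ s ∈ gens, mulTab l s ∈ spanTabs gens) ∧ (spanTabs gens).Nodup := by
  induction gens with
  | nil =>
    refine ⟨fun _ _ s hs => absurd hs (List.not_mem_nil), ?_⟩
    rw [spanTabs]
    exact List.nodup_singleton _
  | cons s ss ih =>
    have hss : GoodTabs H ss := fun l hl => h l (List.mem_cons_of_mem _ hl)
    rw [pcOK] at hpc
    simp only [Bool.and_eq_true, Bool.not_eq_true', List.all_eq_true, List.any_eq_true,
      tabBeq_iff] at hpc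
    obtain ⟨⟨⟨hpc', c0⟩, c1⟩, c2⟩ := hpc
    have c0' : s ∉ spanTabs ss := by
      intro hmem
      rw [← elemTab_iff, c0] at hmem
      exact Bool.false_ne_true hmem
    rw [elemTab_iff] at c1
    obtain ⟨hR', hnd'⟩ := ih hss hpc'
    have hgood' := goodTabs_spanTabs hss
    have hone' := idTab_mem_spanTabs ss
    have hmul' := spanTabs_mul_closed hss hR'
    obtain ⟨τ, hτ, tτ, lenτ⟩ := h s (List.mem_cons_self ..)
    constructor
    · intro l hl t ht
      rw [spanTabs, List.mem_append, List.mem_map] at hl ⊢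
      rw [List.mem_cons] at ht
      rcases hl with hl | ⟨l0, hl0, rfl⟩
      · rcases ht with rfl | ht
        · exact Or.inr ⟨l, hl, rfl⟩
        · exact Or.inl (hR' l hl t ht)
      · obtain ⟨σ0, _, t0, len0⟩ := hgood' l0 hl0
        rcases ht with rfl | ht
        · left
          rw [mulTab_assoc_of_tab t0 tτ tτ lenτ lenτ]
          exact hmul' l0 hl0 _ c1
        · right
          obtain ⟨l', hl', e⟩ := c2 t ht
          obtain ⟨σ', _, t', len'⟩ := hgood' l' hl'
          obtain ⟨ρ, _, tρ, lenρ⟩ := hss t ht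
          refine ⟨mulTab l0 l', hmul' l0 hl0 l' hl', ?_⟩
          rw [mulTab_assoc_of_tab t0 tτ tρ lenτ lenρ, e,
            mulTab_assoc_of_tab t0 t' tτ len' lenτ]
    · rw [spanTabs, List.nodup_append]
      refine ⟨hnd', ?_, ?_⟩
      · apply List.Nodup.map_on _ hnd'
        intro l1 hl1 l2 hl2 e
        obtain ⟨σ1, _, t1, len1⟩ := hgood' l1 hl1
        obtain ⟨σ2, _, t2, len2⟩ := hgood' l2 hl2
        have a1 := t1.mul tτ lenτ
        have a2 := t2.mul tτ lenτ
        rw [e] at a1
        have := tab_unique a1 a2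
        have e12 : σ1 = σ2 := mul_right_cancel this
        rw [e12] at t1
        exact tab_list_unique t1 t2 len1 len2
      · intro l1 hl1 l2 hl2 e
        rw [List.mem_map] at hl2
        obtain ⟨l0, hl0, rfl⟩ := hl2
        apply c0'
        obtain ⟨σ1, hσ1, t1, len1⟩ := hgood' l1 hl1
        obtain ⟨σ0, hσ0, t0, len0⟩ := hgood' l0 hl0
        have a0 := t0.mul tτ lenτ
        rw [← e] at a0
        have e1 : σ1 = σ0 * τ := tab_unique t1 a0
        have m1 : (⟨σ1, hσ1⟩ : ↥H) ∈ tabSubgroup H (spanTabs ss) hgood' hone' hmul' :=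
          ⟨l1, hl1, t1⟩
        have m0 : (⟨σ0, hσ0⟩ : ↥H) ∈ tabSubgroup H (spanTabs ss) hgood' hone' hmul' :=
          ⟨l0, hl0, t0⟩
        have m := Subgroup.mul_mem _ (Subgroup.inv_mem _ m0) m1
        obtain ⟨l, hl, tl⟩ := m
        have eτ : ((⟨σ0, hσ0⟩ : ↥H)⁻¹ * ⟨σ1, hσ1⟩ : ↥H) = (⟨τ, hτ⟩ : ↥H) := by
          apply Subtype.ext
          show σ0⁻¹ * σ1 = τ
          rw [e1]; group
        rw [eτ] at tl
        obtain ⟨_, _, _, lenl⟩ := hgood' l hl
        rw [tab_list_unique tτ tl lenτ lenl]
        exact hl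

/-- A polycyclic sequence of `k` tables of elements of `H` spans a subgroup of order `2 ^ k`,
so that if `2 ^ (k + 1)` does not divide the order of `H`, every involution of `H` is conjugate
to an element with a table in the span. -/
theorem exists_conj_spanTabs {H : Subgroup (Equiv.Perm GolayPt)} {gens : List (List ℕ)}
    (h : GoodTabs H gens) (hpc : pcOK gens = true)
    (hcard : ¬ 2 ^ (gens.length + 1) ∣ Nat.card ↥H) {g : Equiv.Perm GolayPt} (hg : g ∈ H)
    (hord : orderOf g = 2) : ∃ k ∈ H, ∃ l ∈ spanTabs gens, Tab (k * g * k⁻¹) l := by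
  have : Fact (Nat.Prime 2) := ⟨Nat.prime_two⟩
  obtain ⟨hR, hnd⟩ := spanTabs_of_pcOK h hpc
  exact exists_conj_tab (p := 2) (k := gens.length) (goodTabs_spanTabs h)
    (idTab_mem_spanTabs gens) (spanTabs_mul_closed h hR) hnd (length_spanTabs gens) hcard hg hord

end Cfsg.Agent.Helper91
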