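import Cfsg.Agent.Lib.Helper91.PermForm
import Cfsg.Agent.Lib.Helper7.OctadSpan
import Cfsg.Agent.Lib.Helper7.M12Card
import Cfsg.Agent.Lib.Helper7.M24Trans
import Cfsg.Agent.S0358
import Cfsg.Agent.S0362

set_option autoImplicit false

namespace Cfsg.Agent.Helper91
open Cfsg Cfsg.Agent.Helper7
open scoped Pointwise

/-- The all-ones word. -/
abbrev oneW : V24 := fun _ => (1 : ZMod 2)

/-- A subspace stable under the coordinate action of `M24`. -/
def Inv24 (U : Submodule (ZMod 2) V24) : Prop := ∀ σ ∈ M24, ∀ w ∈ U, act σ w ∈ U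

theorem act_mem_golayCode {σ : Equiv.Perm GolayPt} (hσ : σ ∈ M24) {c : V24}
    (hc : c ∈ golayCode) : act σ c ∈ golayCode := by
  have h1 : support₂ c ∈ supports (golayCode : Set W) := ⟨c, hc, rfl⟩
  have h2 := smul_mem_supports hσ h1
  rw [mem_supports_iff, ← indW_smul, indW_support₂] at h2
  exact h2

theorem inv24_golayCode : Inv24 golayCode := fun _ hσ _ hc => act_mem_golayCode hσ hc

theorem inv24_inf {A B : Submodule (ZMod 2) V24} (hA : Inv24 A) (hB : Inv24 B) : Inv24 (A ⊓ B) :=
  fun σ hσ w hw => ⟨hA σ hσ w hw.1, hB σ hσ w hw.2⟩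

theorem inv24_orthogonal {U : Submodule (ZMod 2) V24} (hU : Inv24 U) :
    Inv24 (dotB.orthogonal U) := by
  intro σ hσ v hv
  rw [LinearMap.BilinForm.mem_orthogonal_iff] at hv ⊢
  intro w hw
  rw [dotB_act_right]
  exact hv _ (hU σ⁻¹ (M24.inv_mem hσ) w hw)

theorem oneW_mem_golayCode : oneW ∈ golayCode :=
  Submodule.subset_span (Or.inr rfl)

theorem finrank_V24 : Module.finrank (ZMod 2) V24 = 24 := by
  rw [Module.finrank_fintype_fun_eq_card]
  decide

theorem orthogonal_golayCode : dotB.orthogonal golayCode = golayCode := by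
  symm
  apply Submodule.eq_of_le_of_finrank_eq
  · intro c hc
    rw [LinearMap.BilinForm.mem_orthogonal_iff]
    intro n hn
    exact Cfsg.Agent.S0362.result n c hn hc
  · rw [LinearMap.BilinForm.finrank_orthogonal dotB_nondegenerate, Cfsg.Agent.S0358.result,
      finrank_V24]

/-- If an invariant subspace contains an octad then it contains the code. -/
theorem code_le_of_octad {U : Submodule (ZMod 2) V24} (hU : Inv24 U) {o : Finset GolayPt}
    (ho : o ∈ octads) (h : indW o ∈ U) : golayCode ≤ U := by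
  rw [golayCode_eq_span_octads]
  apply Submodule.span_le.mpr
  rintro x ⟨o', ho', rfl⟩
  obtain ⟨g, hg, rfl⟩ := octad_trans ho ho'
  rw [← indW_smul]
  exact hU g hg _ h

theorem mask_facts : (13062145 < 2 ^ 24 ∧ encMask 13062145 = 13062145 ∧ popcF 13062145 = 8) ∧
    (4845570 < 2 ^ 24 ∧ encMask 4845570 = 4845570 ∧ popcF 4845570 = 8) ∧
    (9347075 < 2 ^ 24 ∧ encMask 9347075 = 9347075 ∧ popcF 9347075 = 8) ∧
    (8245261 < 2 ^ 24 ∧ encMask 8245261 = 8245261 ∧ popcF 8245261 = 12) ∧
    (15953934 < 2 ^ 24 ∧ encMask 15953934 = 15953934 ∧ popcF 15953934 = 12) ∧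
    13062145 ^^^ 4845570 = 9347075 ∧ 8245261 ^^^ 15953934 = 9347075 := by
  decide +kernel

theorem ofMask_mem_octads {m : ℕ} (h : m < 2 ^ 24 ∧ encMask m = m ∧ popcF m = 8) :
    ofMask m ∈ octads := by
  rw [mem_octads_iff]
  exact ⟨(ofMask_mem_iff _ h.1).mpr h.2.1, by rw [card_ofMask', h.2.2]⟩

theorem ofMask_mem_dodecads {m : ℕ} (h : m < 2 ^ 24 ∧ encMask m = m ∧ popcF m = 12) :
    ofMask m ∈ dodecads := by
  rw [mem_dodecads_iff]
  exact ⟨(ofMask_mem_iff _ h.1).mpr h.2.1, by rw [card_ofMask', h.2.2]⟩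

theorem act_indW (g : Equiv.Perm GolayPt) (b : Finset GolayPt) : act g (indW b) = indW (g • b) :=
  indW_smul g b

/-- If an invariant subspace contains a dodecad then it contains the code. -/
theorem code_le_of_dodecad {U : Submodule (ZMod 2) V24} (hU : Inv24 U) {d : Finset GolayPt}
    (hd : d ∈ dodecads) (h : indW d ∈ U) : golayCode ≤ U := by
  obtain ⟨_, _, h3, h4, h5, _, hx⟩ := mask_facts
  obtain ⟨g1, hg1, e1⟩ := dodecad_trans hd (ofMask_mem_dodecads h4)
  obtain ⟨g2, hg2, e2⟩ := dodecad_trans hd (ofMask_mem_dodecads h5)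
  have m1 := hU g1 hg1 _ h
  have m2 := hU g2 hg2 _ h
  rw [act_indW, e1, indW_ofMask] at m1
  rw [act_indW, e2, indW_ofMask] at m2
  have m3 := U.add_mem m1 m2
  rw [← decW_xor, hx, ← indW_ofMask] at m3
  exact code_le_of_octad hU (ofMask_mem_octads h3) m3

/-- If an invariant subspace contains the complement of an octad then it contains the code. -/
theorem code_le_of_octad_compl {U : Submodule (ZMod 2) V24} (hU : Inv24 U) {o : Finset GolayPt}
    (ho : o ∈ octads) (h : indW o + oneW ∈ U) : golayCode ≤ U := by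
  obtain ⟨h1, h2, h3, _, _, hx, _⟩ := mask_facts
  obtain ⟨g1, hg1, e1⟩ := octad_trans ho (ofMask_mem_octads h1)
  obtain ⟨g2, hg2, e2⟩ := octad_trans ho (ofMask_mem_octads h2)
  have m1 := hU g1 hg1 _ h
  have m2 := hU g2 hg2 _ h
  rw [act_add, act_one, act_indW, e1, indW_ofMask] at m1
  rw [act_add, act_one, act_indW, e2, indW_ofMask] at m2
  have m3 := U.add_mem m1 m2
  have e : decW 13062145 + oneW + (decW 4845570 + oneW) = decW (13062145 ^^^ 4845570) := by
    rw [decW_xor]
    have : oneW + oneW = (0 : V24) := by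
      funext p
      show (1 : ZMod 2) + 1 = 0
      decide
    calc decW 13062145 + oneW + (decW 4845570 + oneW)
        = decW 13062145 + decW 4845570 + (oneW + oneW) := by abel
      _ = _ := by rw [this, add_zero]
  rw [e, hx, ← indW_ofMask] at m3
  exact code_le_of_octad hU (ofMask_mem_octads h3) m3

theorem card_golayPt : Fintype.card GolayPt = 24 := by decide

theorem support₂_add_one (c : V24) : support₂ (c + oneW) = (support₂ c)ᶜ := by
  ext p
  rw [Finset.mem_compl, mem_support₂, mem_support₂]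
  show c p + 1 ≠ 0 ↔ ¬ c p ≠ 0
  generalize c p = x
  revert x
  decide

theorem add_oneW_add_oneW (c : V24) : c + oneW + oneW = c := by
  funext p
  show c p + 1 + 1 = c p
  generalize c p = x
  revert x
  decide

/-- The weight of a code word other than `0` and `1` is `8`, `12` or `16`. -/
theorem card_support_cases {c : V24} (hc : c ∈ golayCode) (h0 : c ≠ 0) (h1 : c ≠ oneW) :
    (support₂ c).card = 8 ∨ (support₂ c).card = 12 ∨ (support₂ c).card = 16 := by
  have hb : support₂ c ∈ supports (golayCode : Set W) := ⟨c, hc, rfl⟩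
  rcases weight_cases _ hb with h | h | h | h | h
  · exfalso
    apply h0
    rw [← indW_support₂ c, Finset.card_eq_zero.mp h]
    funext p
    simp [indW]
  · exact Or.inl h
  · exact Or.inr (Or.inl h)
  · exact Or.inr (Or.inr h)
  · exfalso
    apply h1
    have : support₂ c = Finset.univ := by
      apply Finset.eq_univ_of_card
      rw [h, card_golayPt]
    rw [← indW_support₂ c, this]
    funext p
    simp [indW]

/-- An invariant subspace containing a code word other than `0` and `1` contains the code. -/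
theorem code_le_of_mem {U : Submodule (ZMod 2) V24} (hU : Inv24 U) {c : V24} (hcU : c ∈ U)
    (hcC : c ∈ golayCode) (h0 : c ≠ 0) (h1 : c ≠ oneW) : golayCode ≤ U := by
  have hb : support₂ c ∈ supports (golayCode : Set W) := ⟨c, hcC, rfl⟩
  rcases card_support_cases hcC h0 h1 with h | h | h
  · apply code_le_of_octad hU (o := support₂ c) ((mem_octads_iff _).mpr ⟨hb, h⟩)
    rw [indW_support₂]; exact hcU
  · apply code_le_of_dodecad hU (d := support₂ c) ((mem_dodecads_iff _).mpr ⟨hb, h⟩)
    rw [indW_support₂]; exact hcU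
  · have hc' : c + oneW ∈ golayCode := golayCode.add_mem hcC oneW_mem_golayCode
    have hb' : support₂ (c + oneW) ∈ supports (golayCode : Set W) := ⟨_, hc', rfl⟩
    have hcard : (support₂ (c + oneW)).card = 8 := by
      rw [support₂_add_one, Finset.card_compl, h, card_golayPt]
    apply code_le_of_octad_compl hU (o := support₂ (c + oneW)) ((mem_octads_iff _).mpr ⟨hb', hcard⟩)
    rw [indW_support₂, add_oneW_add_oneW]; exact hcU

end Cfsg.Agent.Helper91
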