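import Cfsg.Agent.Lib.Helper91.GolayInv

set_option autoImplicit false

namespace Cfsg.Agent.Helper91
open Cfsg Cfsg.Agent.Helper7
open scoped Pointwise

/-- The word of weight two supported on `p` and `q` (zero when `p = q`). -/
def pairW (p q : GolayPt) : V24 := Pi.single p 1 + Pi.single q 1

theorem act_pairW (σ : Equiv.Perm GolayPt) (p q : GolayPt) :
    act σ (pairW p q) = pairW (σ p) (σ q) := by
  rw [pairW, act_add, act_single, act_single, pairW]

theorem pairW_self (p : GolayPt) : pairW p p = 0 := by
  funext r
  show (Pi.single p 1 : V24) r + (Pi.single p 1 : V24) r = 0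
  generalize (Pi.single p 1 : V24) r = x
  revert x
  decide

theorem sum_single (p : GolayPt) : ∑ r, (Pi.single p 1 : V24) r = 1 := by
  simp [Pi.single_apply]

theorem sum_pairW (p q : GolayPt) : ∑ r, pairW p q r = 0 := by
  simp only [pairW, Pi.add_apply, Finset.sum_add_distrib, sum_single]
  decide

theorem pairW_chain (a b d : GolayPt) :
    pairW a d + oneW + (pairW d b + oneW) = pairW a b := by
  funext r
  show (Pi.single a 1 : V24) r + (Pi.single d 1 : V24) r + 1 +
    ((Pi.single d 1 : V24) r + (Pi.single b 1 : V24) r + 1) =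
    (Pi.single a 1 : V24) r + (Pi.single b 1 : V24) r
  generalize (Pi.single a 1 : V24) r = x
  generalize (Pi.single b 1 : V24) r = y
  generalize (Pi.single d 1 : V24) r = z
  revert x y z
  decide

/-- Every word of even weight is a sum of words of weight two. -/
theorem even_eq_sum (p0 : GolayPt) (v : V24) (hv : ∑ p, v p = 0) :
    v = ∑ a, v a • pairW a p0 := by
  funext r
  rw [Finset.sum_apply]
  simp only [Pi.smul_apply, pairW, Pi.add_apply, smul_eq_mul, mul_add, Finset.sum_add_distrib]
  rw [← Finset.sum_mul, hv, zero_mul, add_zero]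
  simp [Pi.single_apply]

theorem even_mem_of_pairs {U : Submodule (ZMod 2) V24}
    (h : ∀ a b : GolayPt, a ≠ b → pairW a b ∈ U) (v : V24) (hv : ∑ p, v p = 0) : v ∈ U := by
  rw [even_eq_sum (pt 0) v hv]
  apply U.sum_mem
  intro a _
  apply U.smul_mem
  by_cases hab : a = pt 0
  · rw [hab, pairW_self]; exact U.zero_mem
  · exact h a _ hab

theorem exists_third (a b : GolayPt) : ∃ d : GolayPt, d ≠ a ∧ d ≠ b := by
  revert a b
  decide

theorem two_trans {p q a b : GolayPt} (hpq : p ≠ q) (hab : a ≠ b) :
    ∃ g ∈ M24, g p = a ∧ g q = b := by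
  obtain ⟨g, hg, h⟩ := m24_five_trans [p, q] [a, b] (by simp [hpq]) (by simp [hab]) rfl (by simp)
  simp only [List.map_cons, List.map_nil, List.cons.injEq, and_true] at h
  exact ⟨g, hg, h.1, h.2⟩

/-- From one pair (possibly complemented), an invariant subspace gets all even words. -/
theorem even_mem_of_one_pair {U : Submodule (ZMod 2) V24} (hU : Inv24 U) {p q : GolayPt}
    (hpq : p ≠ q) (h : pairW p q ∈ U ∨ pairW p q + oneW ∈ U) (v : V24) (hv : ∑ r, v r = 0) :
    v ∈ U := by
  apply even_mem_of_pairs _ v hv
  rcases h with h | h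
  · intro a b hab
    obtain ⟨g, hg, ha, hb⟩ := two_trans hpq hab
    have := hU g hg _ h
    rwa [act_pairW, ha, hb] at this
  · have key : ∀ a b : GolayPt, a ≠ b → pairW a b + oneW ∈ U := by
      intro a b hab
      obtain ⟨g, hg, ha, hb⟩ := two_trans hpq hab
      have := hU g hg _ h
      rwa [act_add, act_one, act_pairW, ha, hb] at this
    intro a b _
    obtain ⟨d, hda, hdb⟩ := exists_third a b
    rw [← pairW_chain a b d]
    exact U.add_mem (key a d (Ne.symm hda)) (key d b hdb)

theorem zmod2_add_self (x : ZMod 2) : x + x = 0 := by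
  revert x; decide

theorem eq_of_add_eq_zero {v w : V24} (h : v + w = 0) : v = w := by
  funext p
  have := congrFun h p
  simp only [Pi.add_apply, Pi.zero_apply] at this
  generalize v p = x at this
  generalize w p = y at this
  revert x y
  decide

/-- A code word moved only to itself or its complement by the stabiliser of two points
is `0` or `1`. -/
theorem eq_zero_or_one_of_stab {p q : GolayPt} (hpq : p ≠ q) {c : V24} (hc : c ∈ golayCode)
    (h : ∀ g ∈ M24, g p = p → g q = q → act g c + c = 0 ∨ act g c + c = oneW) :
    c = 0 ∨ c = oneW := by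
  by_contra hne
  push Not at hne
  have hcard := card_support_cases hc hne.1 hne.2
  set b := support₂ c with hb
  -- two points of the support other than `p`, `q`
  have h1 : 1 < ((b.erase p).erase q).card := by
    have e1 : b.card - 1 ≤ (b.erase p).card := Finset.pred_card_le_card_erase
    have e2 : (b.erase p).card - 1 ≤ ((b.erase p).erase q).card := Finset.pred_card_le_card_erase
    omega
  obtain ⟨a, ha, a2, ha2, haa⟩ := Finset.one_lt_card.mp h1
  -- a point outside the support other than `p`, `q`
  have h2 : 0 < ((bᶜ.erase p).erase q).card := by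
    have e0 : bᶜ.card = 24 - b.card := by rw [Finset.card_compl, card_golayPt]
    have e1 : bᶜ.card - 1 ≤ (bᶜ.erase p).card := Finset.pred_card_le_card_erase
    have e2 : (bᶜ.erase p).card - 1 ≤ ((bᶜ.erase p).erase q).card :=
      Finset.pred_card_le_card_erase
    omega
  obtain ⟨a', ha'⟩ := Finset.card_pos.mp h2
  simp only [Finset.mem_erase, Finset.mem_compl] at ha ha2 ha'
  obtain ⟨haq, hap, hab⟩ := ha
  obtain ⟨ha2q, ha2p, ha2b⟩ := ha2
  obtain ⟨ha'q, ha'p, ha'b⟩ := ha'
  have haa' : a ≠ a' := by rintro rfl; exact ha'b hab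
  obtain ⟨g, hg, hmap⟩ := m24_five_trans [p, q, a, a2] [p, q, a, a']
    (by simp [hpq, Ne.symm hap, Ne.symm ha2p, Ne.symm haq, Ne.symm ha2q, haa])
    (by simp [hpq, Ne.symm hap, Ne.symm ha'p, Ne.symm haq, Ne.symm ha'q, haa']) rfl (by simp)
  simp only [List.map_cons, List.map_nil, List.cons.injEq, and_true] at hmap
  obtain ⟨gp, gq, ga, ga2⟩ := hmap
  have hca : c a ≠ 0 := (mem_support₂ c a).mp hab
  have hca2 : c a2 ≠ 0 := (mem_support₂ c a2).mp ha2b
  have hca' : c a' = 0 := by
    by_contra hh
    exact ha'b ((mem_support₂ c a').mpr hh)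
  rcases h g hg gp gq with e | e
  · have e' := eq_of_add_eq_zero e
    have := congrFun e' a'
    rw [act_apply, ← ga2, Equiv.symm_apply_apply, ga2, hca'] at this
    exact hca2 this
  · have := congrFun e a
    rw [Pi.add_apply, act_apply] at this
    have hs : g.symm a = a := by rw [Equiv.symm_apply_eq, ga]
    rw [hs, zmod2_add_self] at this
    exact zero_ne_one this

/-- An invariant subspace not contained in the code contains all even words. -/
theorem even_mem_of_not_le_code {U : Submodule (ZMod 2) V24} (hU : Inv24 U)
    (hUC : ¬ U ≤ golayCode) (v : V24) (hv : ∑ r, v r = 0) : v ∈ U := by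
  -- the code words orthogonal to `U` are `0` and `1`
  have h1 : ∀ u ∈ dotB.orthogonal U, u ∈ golayCode → u = 0 ∨ u = oneW := by
    intro u hu huC
    by_contra hne
    push Not at hne
    have hle := code_le_of_mem (inv24_orthogonal hU) hu huC hne.1 hne.2
    apply hUC
    intro w hw
    rw [← orthogonal_golayCode, LinearMap.BilinForm.mem_orthogonal_iff]
    intro c hc
    have := hle hc
    rw [LinearMap.BilinForm.mem_orthogonal_iff] at this
    rw [dotB_comm]
    exact this w hw
  -- even words lie in `U ⊔ code`
  have h2 : ∀ v : V24, ∑ r, v r = 0 → v ∈ U ⊔ golayCode := by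
    intro v hv
    rw [← LinearMap.BilinForm.orthogonal_orthogonal dotB_nondegenerate dotB_isRefl (U ⊔ golayCode),
      LinearMap.BilinForm.mem_orthogonal_iff]
    intro u hu
    have huU : u ∈ dotB.orthogonal U := LinearMap.BilinForm.orthogonal_le le_sup_left hu
    have huC : u ∈ golayCode := by
      rw [← orthogonal_golayCode]
      exact LinearMap.BilinForm.orthogonal_le le_sup_right hu
    rcases h1 u huU huC with rfl | rfl
    · simp
    · rw [dotB_one_left]; exact hv
  have hpq : pt 0 ≠ pt 1 := by decide
  apply even_mem_of_one_pair hU hpq _ v hv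
  obtain ⟨w, hw, c, hc, hwc⟩ := Submodule.mem_sup.mp (h2 _ (sum_pairW (pt 0) (pt 1)))
  by_cases hCU : golayCode ≤ U
  · left
    rw [← hwc]
    exact U.add_mem hw (hCU hc)
  · have h3 : ∀ u ∈ U, u ∈ golayCode → u = 0 ∨ u = oneW := by
      intro u hu huC
      by_contra hne
      push Not at hne
      exact hCU (code_le_of_mem hU hu huC hne.1 hne.2)
    have hc01 : c = 0 ∨ c = oneW := by
      apply eq_zero_or_one_of_stab hpq hc
      intro g hg gp gq
      apply h3
      · have e1 : act g (w + c) = w + c := by
          rw [hwc, act_pairW, gp, gq]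
        have e2 : act g c + c = act g w + w := by
          rw [act_add] at e1
          funext r
          have := congrFun e1 r
          simp only [Pi.add_apply] at this ⊢
          generalize act g w r = x1 at this ⊢
          generalize act g c r = x2 at this ⊢
          generalize w r = x3 at this ⊢
          generalize c r = x4 at this ⊢
          revert x1 x2 x3 x4
          decide
        rw [e2]
        exact U.add_mem (hU g hg w hw) hw
      · exact golayCode.add_mem (act_mem_golayCode hg hc) hc
    rcases hc01 with rfl | rfl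
    · left
      rw [← hwc, add_zero]; exact hw
    · right
      rw [← hwc, add_oneW_add_oneW]; exact hw

/-- Invariant subspaces of the code. -/
theorem inv24_le_code {U : Submodule (ZMod 2) V24} (hU : Inv24 U) (hUC : U ≤ golayCode) :
    U = ⊥ ∨ U = Submodule.span (ZMod 2) {oneW} ∨ U = golayCode := by
  by_cases h : ∃ c ∈ U, c ≠ 0 ∧ c ≠ oneW
  · obtain ⟨c, hc, h0, h1⟩ := h
    exact Or.inr (Or.inr (le_antisymm hUC (code_le_of_mem hU hc (hUC hc) h0 h1)))
  · push Not at h
    by_cases h1 : oneW ∈ U
    · right; left
      apply le_antisymm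
      · intro c hc
        by_cases h0 : c = 0
        · rw [h0]; exact Submodule.zero_mem _
        · rw [h c hc h0]; exact Submodule.subset_span rfl
      · rw [Submodule.span_le]
        intro x hx
        rw [Set.mem_singleton_iff.mp hx]; exact h1
    · left
      rw [Submodule.eq_bot_iff]
      intro c hc
      by_contra h0
      apply h1
      rw [← h c hc h0]; exact hc

/-- Subspaces containing all even words. -/
theorem even_or_top {U : Submodule (ZMod 2) V24} (hU : ∀ v : V24, ∑ r, v r = 0 → v ∈ U) :
    (U : Set V24) = {w | ∑ p, w p = 0} ∨ U = ⊤ := by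
  by_cases h : ∃ w ∈ U, ∑ p, w p ≠ 0
  · right
    obtain ⟨w, hw, hsw⟩ := h
    rw [Submodule.eq_top_iff']
    intro v
    by_cases hv : ∑ p, v p = 0
    · exact hU v hv
    · have hvw : ∑ p, (v + w) p = 0 := by
        simp only [Pi.add_apply, Finset.sum_add_distrib]
        generalize ∑ p, v p = x at hv
        generalize ∑ p, w p = y at hsw
        revert x y
        decide
      have : v = (v + w) - w := by abel
      rw [this]
      exact U.sub_mem (hU _ hvw) hw
  · left
    push Not at h
    ext v
    exact ⟨fun hv => h v hv, fun hv => hU v hv⟩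

end Cfsg.Agent.Helper91
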