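import Cfsg.Agent.Lib.Helper7.Code

set_option autoImplicit false

namespace Cfsg.Agent.Helper91

open Cfsg Cfsg.Agent.Helper7

/-- The bit of `n` at the position of the power of two `k`. -/
def b2 (n k : ℕ) : ℕ := Nat.mod (Nat.div n k) 2

/-- Kernel-friendly population count of the low 24 bits. -/
def popc (n : ℕ) : ℕ :=
  Nat.add (Nat.add (Nat.add (Nat.add (Nat.add (Nat.add (Nat.add (Nat.add (Nat.add (Nat.add (Nat.add (Nat.add
  (Nat.add (Nat.add (Nat.add (Nat.add (Nat.add (Nat.add (Nat.add (Nat.add (Nat.add (Nat.add (Nat.add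
  (b2 n 1) (b2 n 2)) (b2 n 4)) (b2 n 8)) (b2 n 16)) (b2 n 32)) (b2 n 64)) (b2 n 128))
  (b2 n 256)) (b2 n 512)) (b2 n 1024)) (b2 n 2048)) (b2 n 4096)) (b2 n 8192))
  (b2 n 16384)) (b2 n 32768)) (b2 n 65536)) (b2 n 131072)) (b2 n 262144))
  (b2 n 524288)) (b2 n 1048576)) (b2 n 2097152)) (b2 n 4194304)) (b2 n 8388608)

theorem ite_testBit (n i : ℕ) : (if n.testBit i = true then 1 else 0) = b2 n (2 ^ i) := by
  rw [Nat.testBit_eq_decide_div_mod_eq]
  show _ = n / 2 ^ i % 2
  rcases Nat.mod_two_eq_zero_or_one (n / 2 ^ i) with h | h <;> simp [h]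

theorem card_ofMask (n : ℕ) : (ofMask n).card = popc n := by
  unfold ofMask
  rw [Finset.card_filter, Fintype.sum_option]
  have h1 : (∑ a : ZMod 23, if n.testBit (idx (some a)) = true then 1 else 0)
      = ∑ i ∈ Finset.range 23, if n.testBit i = true then 1 else 0 :=
    Fin.sum_univ_eq_sum_range (fun i => if n.testBit i = true then 1 else 0) 23
  rw [h1]
  have h2 : idx none = 23 := rfl
  rw [h2]
  simp only [ite_testBit, Finset.sum_range_succ, Finset.sum_range_zero]
  norm_num [popc]
  ring

/-- All `2^k` xor-combinations of the first `k` basis masks. -/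
def spanL : ℕ → List ℕ
  | 0 => [0]
  | k + 1 => spanL k ++ (spanL k).map (fun w => Nat.xor w (bm k))

theorem xorUpTo_mem_spanL (g : ℕ → Bool) (k : ℕ) :
    xorUpTo (fun i => if g i then bm i else 0) k ∈ spanL k := by
  induction k with
  | zero => simp [xorUpTo, spanL]
  | succ k ih =>
    rw [xorUpTo, spanL, List.mem_append]
    by_cases h : g k = true
    · right
      rw [List.mem_map]
      refine ⟨_, ih, ?_⟩
      simp [h]
    · left
      simp only [h, Bool.false_eq_true, if_false, Nat.xor_zero]
      exact ih

theorem encMask_mem_spanL (a : ℕ) : encMask a ∈ spanL 12 :=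
  xorUpTo_mem_spanL (fun i => a.testBit i) 12

def okT : List Bool := [true,false,false,false,false,false,false,false,true,false,false,false,true,
  false,false,false,true,false,false,false,false,false,false,false,true]

set_option maxRecDepth 100000 in
theorem spanL_all : (spanL 12).all (fun w => okT.getD (popc w) false) = true := by
  decide +kernel

theorem okT_spec (w : ℕ) (h : okT.getD w false = true) :
    w = 0 ∨ w = 8 ∨ w = 12 ∨ w = 16 ∨ w = 24 := by
  by_cases hw : w < 25
  · revert h
    revert w
    decide
  · exfalso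
    have : okT.getD w false = false := by
      apply List.getD_eq_default
      simp [okT]; omega
    rw [this] at h
    exact Bool.false_ne_true h

theorem popc_encMask (a : ℕ) : popc (encMask a) = 0 ∨ popc (encMask a) = 8 ∨
    popc (encMask a) = 12 ∨ popc (encMask a) = 16 ∨ popc (encMask a) = 24 := by
  apply okT_spec
  exact (List.all_eq_true.mp spanL_all) _ (encMask_mem_spanL a)

/-- The weight distribution support of the code. -/
theorem card_of_mem_supports (b : Finset GolayPt)
    (hb : b ∈ supports (golayCode : Set (GolayPt → ZMod 2))) :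
    b.card = 0 ∨ b.card = 8 ∨ b.card = 12 ∨ b.card = 16 ∨ b.card = 24 := by
  refine forall_code (fun b => b.card = 0 ∨ b.card = 8 ∨ b.card = 12 ∨ b.card = 16 ∨ b.card = 24) ?_ b hb
  intro a _
  simp only [card_ofMask]
  exact popc_encMask a

theorem card_support_of_mem (w : GolayPt → ZMod 2) (hw : w ∈ golayCode) :
    (support₂ w).card = 0 ∨ (support₂ w).card = 8 ∨ (support₂ w).card = 12 ∨
      (support₂ w).card = 16 ∨ (support₂ w).card = 24 :=
  card_of_mem_supports _ ⟨w, hw, rfl⟩

theorem four_dvd_card_support (w : GolayPt → ZMod 2) (hw : w ∈ golayCode) :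
    4 ∣ (support₂ w).card := by
  rcases card_support_of_mem w hw with h | h | h | h | h <;> rw [h] <;> decide

theorem eight_le_card_support (w : GolayPt → ZMod 2) (hw : w ∈ golayCode) (h0 : w ≠ 0) :
    8 ≤ (support₂ w).card := by
  have hne : (support₂ w).card ≠ 0 := by
    intro h
    apply h0
    have he := Finset.card_eq_zero.mp h
    funext p
    by_contra hp
    have : p ∈ support₂ w := by rw [mem_support₂]; exact hp
    rw [he] at this
    exact absurd this (Finset.notMem_empty p)
  rcases card_support_of_mem w hw with h | h | h | h | h <;> omega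

end Cfsg.Agent.Helper91
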