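import Mathlib
import Cfsg.Agent.Lib.Helper20.IPBasics
import Cfsg.Agent.Lib.Helper79.Orthogonality
import Cfsg.Agent.Lib.Helper80.CharBasic
import Cfsg.Agent.Lib.Helper78.CharOrtho
import Cfsg.Agent.Lib.Helper81.CharFrob
import Cfsg.Agent.Lib.Helper91.BLeFour

/-!
# helper91: IP server (S4463, Isaacs 12.23), part (II): the quotient `Q = G/K` with `Q'` NONABELIAN

`K ⊴ G` maximal with `G/K` nonabelian, `Q = G/K`: every nontrivial normal subgroup of `Q` contains `Q'`.
If `Q'` is nonabelian then `C_Q(Q') = 1`, the centraliser of every `x ≠ 1` is core-free, `Q` is not solvable,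
class counting gives `x ≠ 1` with `|Q : C_Q(x)| ≤ b²`; with `H` the preimage of `C_Q(x)` either every irreducible
character of `H` has degree `< b` (Lemma L) or `|G : K| ≤ b⁴` (Lemma A' of `Helper20.IP`), and `5 ≤ b`.
-/

set_option autoImplicit false
set_option linter.unusedSectionVars false
set_option linter.style.haveILetI false

namespace Cfsg.Agent.Helper91.IP

open Cfsg
open scoped commutatorElement

universe u

section GroupTheory

variable {Q : Type u} [Group Q]

/-- `C_Q(Q') = 1` when every nontrivial normal subgroup contains `Q'` and `Q'` is nonabelian. -/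
theorem centralizer_commutator_eq_bot
    (hmin : ∀ N : Subgroup Q, N.Normal → N ≠ ⊥ → commutator Q ≤ N)
    (hna : ¬ ∀ x ∈ commutator Q, ∀ y ∈ commutator Q, x * y = y * x) :
    Subgroup.centralizer (commutator Q : Set Q) = ⊥ := by
  by_contra hne
  have hnorm : (Subgroup.centralizer (commutator Q : Set Q)).Normal := inferInstance
  have hle := hmin _ hnorm hne
  apply hna
  intro x hx y hy
  have h1 := hle hy
  rw [Subgroup.mem_centralizer_iff] at h1
  exact h1 x hx

/-- the centraliser of a nonidentity element is core-free -/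
theorem normalCore_centralizer_eq_bot
    (hmin : ∀ N : Subgroup Q, N.Normal → N ≠ ⊥ → commutator Q ≤ N)
    (hna : ¬ ∀ x ∈ commutator Q, ∀ y ∈ commutator Q, x * y = y * x)
    (x : Q) (hx : x ≠ 1) :
    (Subgroup.centralizer ({x} : Set Q)).normalCore = ⊥ := by
  by_contra hne
  have hle := hmin _ inferInstance hne
  apply hx
  have hxc : x ∈ Subgroup.centralizer (commutator Q : Set Q) := by
    rw [Subgroup.mem_centralizer_iff]
    intro m hm
    have h1 := Subgroup.normalCore_le _ (hle hm)
    rw [Subgroup.mem_centralizer_iff] at h1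
    exact (h1 x rfl).symm
  rw [centralizer_commutator_eq_bot hmin hna] at hxc
  exact Subgroup.mem_bot.1 hxc

/-- `Q` is not solvable -/
theorem not_isSolvable
    (hmin : ∀ N : Subgroup Q, N.Normal → N ≠ ⊥ → commutator Q ≤ N)
    (hna : ¬ ∀ x ∈ commutator Q, ∀ y ∈ commutator Q, x * y = y * x) :
    ¬ Group.IsSolvable Q := by
  intro hs
  -- `Q'' ≠ ⊥` since `Q'` is nonabelian
  have h2 : ⁅commutator Q, commutator Q⁆ ≠ ⊥ := by
    intro h0
    apply hna
    intro x hx y hy
    have h1 : ⁅x, y⁆ ∈ ⁅commutator Q, commutator Q⁆ := Subgroup.commutator_mem_commutator hx hy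
    rw [h0, Subgroup.mem_bot] at h1
    exact commutatorElement_eq_one_iff_mul_comm.1 h1
  have hle : commutator Q ≤ ⁅commutator Q, commutator Q⁆ := hmin _ inferInstance h2
  have heq : ⁅commutator Q, commutator Q⁆ = commutator Q :=
    le_antisymm (Subgroup.commutator_le_left _ _) hle
  -- the derived series is constant from step 1 on
  have hconst : ∀ n : ℕ, derivedSeries Q (n + 1) = commutator Q := by
    intro n
    induction n with
    | zero => rw [derivedSeries_succ, derivedSeries_zero]; rfl
    | succ n ih => rw [derivedSeries_succ, ih, heq]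
  obtain ⟨n, hn⟩ := hs.solvable
  have h3 : derivedSeries Q (n + 1) = ⊥ := by
    rw [derivedSeries_succ, hn]
    exact Subgroup.commutator_bot_left _
  rw [hconst n] at h3
  apply h2
  rw [h3]
  exact Subgroup.commutator_bot_left _

end GroupTheory

section Counting

variable {Q : Type u} [Group Q] [Finite Q]

/-- class size = index of the centraliser -/
theorem ncard_carrier_eq_index (x : Q) :
    (ConjClasses.mk x).carrier.ncard = (Subgroup.centralizer ({x} : Set Q)).index := by
  have h1 : Nat.card (ConjClasses.mk x).carrier * Nat.card (Subgroup.centralizer ({x} : Set Q)) =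
      Nat.card Q := by
    rw [Subgroup.nat_card_centralizer_nat_card_stabilizer, ← ConjAct.orbit_eq_carrier_conjClasses,
      Nat.card_coe_set_eq, ← MulAction.index_stabilizer, mul_comm, Subgroup.card_mul_index]
    exact Nat.card_congr ConjAct.ofConjAct.toEquiv
  have h2 := Subgroup.card_mul_index (Subgroup.centralizer ({x} : Set Q))
  have h3 : 0 < Nat.card (Subgroup.centralizer ({x} : Set Q)) := Nat.card_pos
  rw [Nat.card_coe_set_eq] at h1
  have h4 : (ConjClasses.mk x).carrier.ncard * Nat.card (Subgroup.centralizer ({x} : Set Q)) =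
      (Subgroup.centralizer ({x} : Set Q)).index * Nat.card (Subgroup.centralizer ({x} : Set Q)) := by
    rw [h1, ← h2, mul_comm]
  exact Nat.eq_of_mul_eq_mul_right h3 h4

/-- **class counting**: if all irreducible degrees are `≤ b`, some `x ≠ 1` has at most `b²` conjugates. -/
theorem exists_small_class [Nontrivial Q] (b : ℕ)
    (hb : ∀ χ : IrrCharacter Q, charDegree (χ : Q → ℂ) ≤ b) :
    ∃ x : Q, x ≠ 1 ∧ (Subgroup.centralizer ({x} : Set Q)).index ≤ b ^ 2 := by
  classical
  by_contra hcon
  push Not at hcon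
  haveI : Fintype Q := Fintype.ofFinite Q
  haveI : Fintype (ConjClasses Q) := Fintype.ofFinite _
  -- class side
  have hsum := Group.sum_card_conj_classes_eq_card Q
  rw [finsum_eq_sum_of_fintype] at hsum
  have hA : 1 + (Fintype.card (ConjClasses Q) - 1) * (b ^ 2 + 1) ≤ Nat.card Q := by
    rw [← hsum, ← Finset.add_sum_erase Finset.univ _ (Finset.mem_univ (ConjClasses.mk (1 : Q)))]
    have h1 : (ConjClasses.mk (1 : Q)).carrier.ncard = 1 := by
      rw [ncard_carrier_eq_index]
      have : Subgroup.centralizer ({1} : Set Q) = ⊤ := by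
        ext y
        simp [Subgroup.mem_centralizer_iff]
      rw [this, Subgroup.index_top]
    have h2 : (Fintype.card (ConjClasses Q) - 1) * (b ^ 2 + 1) ≤
        ∑ c ∈ Finset.univ.erase (ConjClasses.mk (1 : Q)), c.carrier.ncard := by
      have h3 := Finset.card_nsmul_le_sum (Finset.univ.erase (ConjClasses.mk (1 : Q)))
        (fun c => c.carrier.ncard) (b ^ 2 + 1) (by
          intro c hc
          obtain ⟨x, rfl⟩ := ConjClasses.exists_rep c
          have hx : x ≠ 1 := by
            rintro rfl
            simp at hc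
          show b ^ 2 + 1 ≤ (ConjClasses.mk x).carrier.ncard
          rw [ncard_carrier_eq_index]
          exact hcon x hx)
      rw [Finset.card_erase_of_mem (Finset.mem_univ _), Finset.card_univ, smul_eq_mul] at h3
      exact h3
    rw [h1]
    omega
  -- character side
  have hdeg := Cfsg.Agent.Helper79.sum_sq_degree_nat (G := Q)
  let χ₀ : IrrCharacter Q := ⟨fun _ => 1, Cfsg.Agent.Helper81.isIrrCharacter_one⟩
  have hχ₀ : charDegree (χ₀ : Q → ℂ) = 1 := by
    have h1 := (Cfsg.Agent.Helper79.irr_one_eq χ₀).1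
    have h2 : (χ₀ : Q → ℂ) 1 = 1 := rfl
    rw [h2] at h1
    exact_mod_cast h1.symm
  have hB : Nat.card Q ≤ 1 + (Fintype.card (IrrCharacter Q) - 1) * b ^ 2 := by
    rw [← hdeg, ← Finset.add_sum_erase Finset.univ _ (Finset.mem_univ χ₀), hχ₀]
    have h3 := Finset.sum_le_card_nsmul (Finset.univ.erase χ₀)
      (fun χ : IrrCharacter Q => charDegree (χ : Q → ℂ) ^ 2) (b ^ 2)
      (fun χ _ => Nat.pow_le_pow_left (hb χ) 2)
    rw [Finset.card_erase_of_mem (Finset.mem_univ _), Finset.card_univ, smul_eq_mul] at h3
    omega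
  have hkk : Fintype.card (IrrCharacter Q) = Fintype.card (ConjClasses Q) := by
    rw [← Nat.card_eq_fintype_card, ← Nat.card_eq_fintype_card]
    exact Cfsg.Agent.Helper80.card_irr
  rw [hkk] at hB
  have hk : Fintype.card (ConjClasses Q) - 1 = 0 := by
    set m := Fintype.card (ConjClasses Q) - 1 with hm
    have h5 : m * (b ^ 2 + 1) = m * b ^ 2 + m := by ring
    omega
  have hk1 : Fintype.card (ConjClasses Q) ≤ 1 := by omega
  have hsub : Subsingleton (ConjClasses Q) := Fintype.card_le_one_iff_subsingleton.1 hk1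
  obtain ⟨x, hx⟩ := exists_ne (1 : Q)
  apply hx
  have h6 : ConjClasses.mk x = ConjClasses.mk 1 := Subsingleton.elim _ _
  rw [ConjClasses.mk_eq_mk_iff_isConj] at h6
  exact isConj_one_left.1 h6

end Counting

section Main

variable {G : Type u} [Group G] [Finite G]

/-- degrees of a quotient are degrees of the group -/
theorem degree_le_quotient (b : ℕ) (hb : ∀ χ : IrrCharacter G, charDegree (χ : G → ℂ) ≤ b)
    (K : Subgroup G) [K.Normal] (ψ : IrrCharacter (G ⧸ K)) :
    charDegree (ψ : G ⧸ K → ℂ) ≤ b := by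
  have hd : charDegree (Cfsg.Agent.Helper79.inflate K ψ : G → ℂ) =
      charDegree (ψ : G ⧸ K → ℂ) := by
    unfold charDegree
    rw [Cfsg.Agent.Helper79.inflate_apply]
    rfl
  rw [← hd]
  exact hb _

/-- if `ψ ∈ Irr(H)` has the maximal degree `b` then `|H : core_G(H)| ≤ b²` (Lemma A' + `|ψ| ≤ b`) -/
theorem card_le_of_max_degree (b : ℕ) (hb : ∀ χ : IrrCharacter G, charDegree (χ : G → ℂ) ≤ b)
    (H : Subgroup G) (ψ : IrrCharacter H) (hψ : charDegree (ψ : H → ℂ) = b) :
    Nat.card H ≤ Nat.card H.normalCore * b ^ 2 := by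
  classical
  haveI : Fintype G := Fintype.ofFinite G
  haveI : Fintype H := Fintype.ofFinite H
  have hvan := (Cfsg.Agent.Helper20.IP.extends_and_vanishes b hb H ψ hψ).2
  have hself := Cfsg.Agent.Helper78.classInner_irr_self ψ
  unfold classInner at hself
  have hH0 : (Nat.card H : ℂ) ≠ 0 := by exact_mod_cast Nat.card_pos.ne'
  have hsum : ∑ h : H, (ψ : H → ℂ) h * (starRingEnd ℂ) ((ψ : H → ℂ) h) = (Nat.card H : ℂ) := by
    field_simp at hself
    exact hself
  have hsumR : ∑ h : H, ‖(ψ : H → ℂ) h‖ ^ 2 = (Nat.card H : ℝ) := by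
    have h1 : ((∑ h : H, ‖(ψ : H → ℂ) h‖ ^ 2 : ℝ) : ℂ) = ((Nat.card H : ℝ) : ℂ) := by
      push_cast
      rw [← hsum]
      apply Finset.sum_congr rfl
      intro h _
      rw [Complex.mul_conj']
    exact_mod_cast h1
  have hle : ∀ h : H, ‖(ψ : H → ℂ) h‖ ^ 2 ≤
      if (h : G) ∈ H.normalCore then (b : ℝ) ^ 2 else 0 := by
    intro h
    split_ifs with hk
    · have h1 := Cfsg.Agent.Helper79.irr_norm_le ψ h
      rw [hψ] at h1
      exact pow_le_pow_left₀ (norm_nonneg _) h1 2
    · have h0 : (ψ : H → ℂ) h = 0 := by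
        by_contra hne
        exact hk (fun g => hvan h hne g)
      rw [h0]
      simp
  have h2 : (Nat.card H : ℝ) ≤ ∑ h : H, (if (h : G) ∈ H.normalCore then (b : ℝ) ^ 2 else 0) := by
    rw [← hsumR]
    exact Finset.sum_le_sum (fun h _ => hle h)
  rw [Finset.sum_ite, Finset.sum_const, Finset.sum_const_zero, add_zero, nsmul_eq_mul] at h2
  have hcard : (Finset.univ.filter (fun h : H => (h : G) ∈ H.normalCore)).card =
      Nat.card H.normalCore := by
    rw [← Fintype.card_subtype, ← Nat.card_eq_fintype_card]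
    exact Nat.card_congr (Subgroup.subgroupOfEquivOfLe (Subgroup.normalCore_le H)).toEquiv
  rw [hcard] at h2
  exact_mod_cast h2

/-- **Case (II)** of the Isaacs–Passman induction: `Q = G/K`, every nontrivial normal subgroup of `Q` contains `Q'`,
and `Q'` is nonabelian.  Then `5 ≤ b` and either Lemma L holds (a subgroup of index `≤ b²` all of whose irreducible
characters have degree `< b`) or `|G : K| ≤ b⁴`. -/
theorem caseII (b : ℕ) (hb : ∀ χ : IrrCharacter G, charDegree (χ : G → ℂ) ≤ b)
    (K : Subgroup G) [K.Normal]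
    (hmin : ∀ N : Subgroup (G ⧸ K), N.Normal → N ≠ ⊥ → commutator (G ⧸ K) ≤ N)
    (hna : ¬ ∀ x ∈ commutator (G ⧸ K), ∀ y ∈ commutator (G ⧸ K), x * y = y * x) :
    5 ≤ b ∧
      ((∃ H : Subgroup G, H.index ≤ b ^ 2 ∧ ∀ ψ : IrrCharacter H, charDegree (ψ : H → ℂ) < b) ∨
        K.index ≤ b ^ 4) := by
  classical
  constructor
  · have hns : ¬ Group.IsSolvable G := by
      intro hs
      exact not_isSolvable hmin hna inferInstance
    obtain ⟨χ, hχ⟩ := Cfsg.Agent.Helper91.BLeFour.exists_degree_ge_five hns
    exact le_trans hχ (hb χ)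
  · haveI : Nontrivial (G ⧸ K) := by
      by_contra hnt
      rw [not_nontrivial_iff_subsingleton] at hnt
      exact hna (fun x _ y _ => Subsingleton.elim _ _)
    obtain ⟨x, hx1, hxi⟩ := exists_small_class (Q := G ⧸ K) b (degree_le_quotient b hb K)
    set C := Subgroup.centralizer ({x} : Set (G ⧸ K)) with hC
    set H := C.comap (QuotientGroup.mk' K) with hH
    have hHi : H.index = C.index :=
      Subgroup.index_comap_of_surjective C (QuotientGroup.mk'_surjective K)
    have hKH : K ≤ H := by
      intro k hk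
      rw [hH, Subgroup.mem_comap]
      have : (QuotientGroup.mk' K) k = 1 := by
        rw [QuotientGroup.mk'_apply, QuotientGroup.eq_one_iff]; exact hk
      rw [this]
      exact C.one_mem
    have hcore : H.normalCore = K := by
      apply le_antisymm
      · have hmapn : (H.normalCore.map (QuotientGroup.mk' K)).Normal :=
          Subgroup.Normal.map inferInstance _ (QuotientGroup.mk'_surjective K)
        have hmaple : H.normalCore.map (QuotientGroup.mk' K) ≤ C := by
          rw [Subgroup.map_le_iff_le_comap]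
          exact Subgroup.normalCore_le H
        have h1 : H.normalCore.map (QuotientGroup.mk' K) ≤ C.normalCore :=
          (@Subgroup.normal_le_normalCore _ _ C _ hmapn).2 hmaple
        rw [normalCore_centralizer_eq_bot hmin hna x hx1, le_bot_iff] at h1
        intro g hg
        have h2 : (QuotientGroup.mk' K) g ∈ H.normalCore.map (QuotientGroup.mk' K) :=
          Subgroup.mem_map_of_mem _ hg
        rw [h1, Subgroup.mem_bot, QuotientGroup.mk'_apply, QuotientGroup.eq_one_iff] at h2
        exact h2
      · exact (Subgroup.normal_le_normalCore).2 hKH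
    by_cases hL : ∀ ψ : IrrCharacter H, charDegree (ψ : H → ℂ) < b
    · left
      exact ⟨H, by rw [hHi]; exact hxi, hL⟩
    · right
      push Not at hL
      obtain ⟨ψ, hψ⟩ := hL
      have hψb : charDegree (ψ : H → ℂ) = b :=
        le_antisymm (Cfsg.Agent.Helper20.IP.degree_le_of_subgroup b hb H ψ) hψ
      have h1 := card_le_of_max_degree b hb H ψ hψb
      rw [hcore] at h1
      have h2 := Subgroup.card_mul_index K
      have h3 := Subgroup.card_mul_index H
      have hK0 : 0 < Nat.card K := Nat.card_pos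
      have hHi2 : H.index ≤ b ^ 2 := by rw [hHi]; exact hxi
      have h4 : Nat.card K * K.index ≤ Nat.card K * b ^ 4 := by
        rw [h2, ← h3]
        calc Nat.card H * H.index ≤ (Nat.card K * b ^ 2) * b ^ 2 := Nat.mul_le_mul h1 hHi2
          _ = Nat.card K * b ^ 4 := by ring
      exact Nat.le_of_mul_le_mul_left h4 hK0

end Main

end Cfsg.Agent.Helper91.IP
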