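import Cfsg.Agent.Lib.Helper91.GenTabs

set_option autoImplicit false

namespace Cfsg.Agent.Helper91
open Cfsg Cfsg.Agent.Helper7
open scoped Pointwise

/-! ### Permutation tables packed into a single natural number (base 32) -/

/-- Entry `j` of a packed table. -/
def kget (k j : ℕ) : ℕ := Nat.mod (Nat.div k (Nat.pow 32 j)) 32

/-- The table packed in `k`. -/
def ktab (k : ℕ) : List ℕ := (List.range 24).map (kget k)

/-- Packing of a table. -/
def enkey : List ℕ → ℕ
  | [] => 0
  | x :: xs => x + 32 * enkey xs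

/-- Product of packed tables (unrolled, for fast kernel evaluation). -/
def kmul (k1 k2 : ℕ) : ℕ :=
  kget k1 (kget k2 0) + 32 * (kget k1 (kget k2 1) + 32 * (kget k1 (kget k2 2) + 32 * (kget k1 (kget k2 3) + 32 * (kget k1 (kget k2 4) + 32 * (kget k1 (kget k2 5) + 32 * (kget k1 (kget k2 6) + 32 * (kget k1 (kget k2 7) + 32 * (kget k1 (kget k2 8) + 32 * (kget k1 (kget k2 9) + 32 * (kget k1 (kget k2 10) + 32 * (kget k1 (kget k2 11) + 32 * (kget k1 (kget k2 12) + 32 * (kget k1 (kget k2 13) + 32 * (kget k1 (kget k2 14) + 32 * (kget k1 (kget k2 15) + 32 * (kget k1 (kget k2 16) + 32 * (kget k1 (kget k2 17) + 32 * (kget k1 (kget k2 18) + 32 * (kget k1 (kget k2 19) + 32 * (kget k1 (kget k2 20) + 32 * (kget k1 (kget k2 21) + 32 * (kget k1 (kget k2 22) + 32 * (kget k1 (kget k2 23) + 32 * 0)))))))))))))))))))))))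

theorem kmul_eq (k1 k2 : ℕ) :
    kmul k1 k2 = enkey ((List.range 24).map fun i => kget k1 (kget k2 i)) := rfl

/-- The packed identity table. -/
def kid : ℕ := enkey idTab

theorem ktab_length (k : ℕ) : (ktab k).length = 24 := by simp [ktab]

theorem ktab_getD (k j : ℕ) (hj : j < 24) : (ktab k).getD j 0 = kget k j := by
  rw [ktab, List.getD_eq_getElem _ _ (by simpa using hj)]
  simp

theorem kget_lt (k j : ℕ) : kget k j < 32 := Nat.mod_lt _ (by norm_num)

theorem map_kget_enkey (l : List ℕ) (h : ∀ x ∈ l, x < 32) :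
    (List.range l.length).map (kget (enkey l)) = l := by
  induction l with
  | nil => rfl
  | cons x xs ih =>
    have hx : x < 32 := h x (by simp)
    have hxs : ∀ y ∈ xs, y < 32 := fun y hy => h y (by simp [hy])
    rw [List.length_cons, List.range_succ_eq_map, List.map_cons, List.map_map]
    congr 1
    · show (x + 32 * enkey xs) / 32 ^ 0 % 32 = x
      rw [pow_zero, Nat.div_one, Nat.add_mul_mod_self_left, Nat.mod_eq_of_lt hx]
    · have e : List.map (kget (enkey (x :: xs)) ∘ Nat.succ) (List.range xs.length) =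
          List.map (kget (enkey xs)) (List.range xs.length) := by
        apply List.map_congr_left
        intro i _
        show (x + 32 * enkey xs) / 32 ^ (i + 1) % 32 = enkey xs / 32 ^ i % 32
        rw [pow_succ, mul_comm (32 ^ i) 32, ← Nat.div_div_eq_div_mul,
          Nat.add_mul_div_left _ _ (by norm_num : 0 < 32), Nat.div_eq_of_lt hx, zero_add]
      rw [e]
      exact ih hxs

theorem ktab_enkey (l : List ℕ) (hlen : l.length = 24) (h : ∀ x ∈ l, x < 32) :
    ktab (enkey l) = l := by
  have := map_kget_enkey l h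
  rw [hlen] at this
  exact this

theorem ktab_kid : ktab kid = idTab := ktab_enkey idTab rfl (by decide)

/-- `k` is the packed table of `σ`. -/
def KTab (σ : Equiv.Perm GolayPt) (k : ℕ) : Prop := Tab σ (ktab k)

theorem KTab.one : KTab 1 kid := by
  rw [KTab, ktab_kid]
  exact tab_one

theorem KTab.kget_lt {σ : Equiv.Perm GolayPt} {k : ℕ} (h : KTab σ k) (i : ℕ) (hi : i < 24) :
    kget k i < 24 := by
  have := Tab.lt h i hi
  rwa [ktab_getD k i hi] at this

theorem ktab_kmul {σ2 : Equiv.Perm GolayPt} (k1 : ℕ) {k2 : ℕ} (h2 : KTab σ2 k2) :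
    ktab (kmul k1 k2) = mulTab (ktab k1) (ktab k2) := by
  have e : ((List.range 24).map fun i => kget k1 (kget k2 i)) = mulTab (ktab k1) (ktab k2) := by
    show _ = ((List.range 24).map (kget k2)).map (fun x => (ktab k1).getD x 0)
    rw [List.map_map]
    apply List.map_congr_left
    intro i hi
    rw [List.mem_range] at hi
    show kget k1 (kget k2 i) = (ktab k1).getD (kget k2 i) 0
    rw [ktab_getD k1 (kget k2 i) (h2.kget_lt i hi)]
  rw [kmul_eq, e]
  apply ktab_enkey
  · rw [mulTab_length, ktab_length]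
  · intro x hx
    rw [← e, List.mem_map] at hx
    obtain ⟨i, _, rfl⟩ := hx
    exact kget_lt _ _

theorem KTab.mul {σ1 σ2 : Equiv.Perm GolayPt} {k1 k2 : ℕ} (h1 : KTab σ1 k1) (h2 : KTab σ2 k2) :
    KTab (σ1 * σ2) (kmul k1 k2) := by
  rw [KTab, ktab_kmul k1 h2]
  exact Tab.mul h1 h2 (ktab_length k2)

theorem KTab.unique {σ τ : Equiv.Perm GolayPt} {k : ℕ} (h1 : KTab σ k) (h2 : KTab τ k) : σ = τ :=
  tab_unique h1 h2

theorem KTab.eq_one {σ : Equiv.Perm GolayPt} (h : KTab σ kid) : σ = 1 := h.unique KTab.one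

theorem KTab.ne_one {σ : Equiv.Perm GolayPt} {k : ℕ} (h : KTab σ k)
    (hne : tabBeq (ktab k) idTab = false) : σ ≠ 1 := by
  rintro rfl
  have := tab_list_unique h tab_one (ktab_length k) rfl
  rw [← tabBeq_iff, hne] at this
  exact absurd this (by simp)

/-- Packed table of a list table. -/
theorem KTab.of_tab {σ : Equiv.Perm GolayPt} {l : List ℕ} (h : Tab σ l) (hlen : l.length = 24) :
    KTab σ (enkey l) := by
  rw [KTab, ktab_enkey l hlen]
  · exact h
  · intro x hx
    obtain ⟨i, hi, rfl⟩ := List.getElem_of_mem hx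
    have hi24 : i < 24 := by rw [hlen] at hi; exact hi
    have := Tab.lt h i hi24
    rw [List.getD_eq_getElem _ _ hi] at this
    omega

end Cfsg.Agent.Helper91
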