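import Cfsg.Agent.Lib.Helper91.GolayWeights

set_option autoImplicit false

namespace Cfsg.Agent.Helper91

open Cfsg Cfsg.Agent.Helper7

/-- Reduction of an integer vector modulo 2. -/
def red (a : GolayPt → ℤ) : GolayPt → ZMod 2 := fun p => ((a p : ℤ) : ZMod 2)

theorem red_add (a b : GolayPt → ℤ) : red (a + b) = red a + red b := by
  funext p; simp [red]

theorem red_neg (a : GolayPt → ℤ) : red (-a) = -red a := by
  funext p; simp [red]

theorem red_zero : red 0 = 0 := by
  funext p; simp [red]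

theorem red_apply_eq_zero_iff (a : GolayPt → ℤ) (p : GolayPt) : red a p = 0 ↔ Even (a p) := by
  unfold red
  rw [ZMod.intCast_zmod_eq_zero_iff_dvd]
  exact even_iff_two_dvd.symm

theorem mem_support₂_red (a : GolayPt → ℤ) (p : GolayPt) : p ∈ support₂ (red a) ↔ Odd (a p) := by
  rw [mem_support₂, Ne, red_apply_eq_zero_iff, Int.not_even_iff_odd]

theorem one_mem_golayCode : (1 : GolayPt → ZMod 2) ∈ golayCode :=
  Submodule.subset_span (Set.mem_union_right _ rfl)

theorem red_const_add (k : ℤ) (a : GolayPt → ℤ) (ha : red a ∈ golayCode) :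
    red (fun p => k + a p) ∈ golayCode := by
  have : red (fun p => k + a p) = ((k : ℤ) : ZMod 2) • (1 : GolayPt → ZMod 2) + red a := by
    funext p
    simp [red]
  rw [this]
  exact Submodule.add_mem _ (Submodule.smul_mem _ _ one_mem_golayCode) ha

/-- The membership predicate: `x = m + 2a` with `a mod 2` a codeword and `∑ x ≡ 4m (mod 8)`. -/
def LP (x : GolayPt → ℤ) : Prop :=
  ∃ (m : ℤ) (a : GolayPt → ℤ), (∀ i, x i = m + 2 * a i) ∧ red a ∈ golayCode ∧
    (∑ i, x i) ≡ 4 * m [ZMOD 8]

theorem LP_zero : LP 0 := by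
  refine ⟨0, 0, fun i => by simp, ?_, by simp⟩
  rw [red_zero]; exact Submodule.zero_mem _

theorem LP_add {x y : GolayPt → ℤ} (hx : LP x) (hy : LP y) : LP (x + y) := by
  obtain ⟨m, a, h1, h2, h3⟩ := hx
  obtain ⟨n, b, k1, k2, k3⟩ := hy
  refine ⟨m + n, a + b, fun i => ?_, ?_, ?_⟩
  · simp only [Pi.add_apply, h1 i, k1 i]; ring
  · rw [red_add]; exact Submodule.add_mem _ h2 k2
  · simp only [Pi.add_apply, Finset.sum_add_distrib]
    have := Int.ModEq.add h3 k3
    rw [mul_add]
    exact this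

theorem LP_neg {x : GolayPt → ℤ} (hx : LP x) : LP (-x) := by
  obtain ⟨m, a, h1, h2, h3⟩ := hx
  refine ⟨-m, -a, fun i => ?_, ?_, ?_⟩
  · simp only [Pi.neg_apply, h1 i]; ring
  · rw [red_neg]; exact Submodule.neg_mem _ h2
  · simp only [Pi.neg_apply, Finset.sum_neg_distrib]
    have := Int.ModEq.neg h3
    rw [mul_neg]
    exact this

theorem LP_of_mem_leechSet {x : GolayPt → ℤ} (hx : x ∈ leechSet) : LP x := by
  obtain ⟨m, hpar, hsum, hcode⟩ := hx
  -- a i = (x i - m) / 2
  have hdiv : ∀ i, (2 : ℤ) ∣ x i - m := fun i => (Int.modEq_iff_dvd.mp (hpar i).symm)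
  refine ⟨m, fun i => (x i - m) / 2, fun i => ?_, ?_, hsum⟩
  · have := Int.mul_ediv_cancel' (hdiv i)
    linarith
  · obtain ⟨w, hw, hsupp⟩ := hcode (m + 2)
    have : red (fun i => (x i - m) / 2) = w := by
      apply support₂_injective
      rw [hsupp]
      ext p
      rw [mem_support₂_red, Finset.mem_filter]
      simp only [Finset.mem_univ, true_and]
      obtain ⟨c, hc⟩ := hdiv p
      rw [hc, Int.mul_ediv_cancel_left _ (by norm_num : (2 : ℤ) ≠ 0)]
      have hxp : x p = m + 2 * c := by linarith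
      rw [hxp]
      constructor
      · rintro ⟨d, rfl⟩
        rw [Int.modEq_iff_dvd]
        exact ⟨-d, by ring⟩
      · intro h
        rw [Int.modEq_iff_dvd] at h
        obtain ⟨e, he⟩ := h
        rw [Int.odd_iff]
        omega
    rw [this]
    exact hw

theorem LP_of_mem_leechLattice {x : GolayPt → ℤ} (hx : x ∈ leechLattice) : LP x := by
  refine AddSubgroup.closure_induction (p := fun x _ => LP x) ?_ ?_ ?_ ?_ hx
  · intro y hy; exact LP_of_mem_leechSet hy
  · exact LP_zero
  · intro y z _ _ hy hz; exact LP_add hy hz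
  · intro y _ hy; exact LP_neg hy

theorem card_golayPt_sum : (∑ _i : GolayPt, (1 : ℤ)) = 24 := by
  simp

theorem LP_normalize {x : GolayPt → ℤ} (hx : LP x) :
    ∃ (m : ℤ) (a : GolayPt → ℤ), (m = 0 ∨ m = 1) ∧ (∀ i, x i = m + 2 * a i) ∧ red a ∈ golayCode ∧
      (∑ i, x i) ≡ 4 * m [ZMOD 8] := by
  obtain ⟨m, a, h1, h2, h3⟩ := hx
  refine ⟨m % 2, fun p => m / 2 + a p, ?_, fun i => ?_, red_const_add _ _ h2, ?_⟩
  · omega
  · rw [h1 i]
    have := Int.emod_add_mul_ediv m 2
    linarith
  · refine h3.trans ?_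
    rw [Int.modEq_iff_dvd]
    have := Int.emod_add_mul_ediv m 2
    exact ⟨-(m / 2), by linarith⟩

theorem sqNorm_even_case (x a : GolayPt → ℤ) (hx0 : x ≠ 0) (h1 : ∀ i, x i = 2 * a i)
    (h2 : red a ∈ golayCode) (h3 : (∑ i, x i) ≡ 0 [ZMOD 8]) : 32 ≤ sqNorm x := by
  have hsq : sqNorm x = 4 * ∑ i, (a i) ^ 2 := by
    unfold sqNorm
    rw [Finset.mul_sum]
    apply Finset.sum_congr rfl
    intro i _
    rw [h1 i]; ring
  have hsum : (∑ i, x i) = 2 * ∑ i, a i := by
    rw [Finset.mul_sum]
    exact Finset.sum_congr rfl (fun i _ => h1 i)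
  by_cases hr : red a = 0
  · -- all even
    have hev : ∀ i, Even (a i) := by
      intro i
      rw [← red_apply_eq_zero_iff, hr]; rfl
    -- b = a / 2
    have hb : ∀ i, a i = 2 * (a i / 2) := by
      intro i
      obtain ⟨c, hc⟩ := hev i
      omega
    set b : GolayPt → ℤ := fun i => a i / 2 with hbdef
    have hsq2 : (∑ i, (a i) ^ 2) = 4 * ∑ i, (b i) ^ 2 := by
      rw [Finset.mul_sum]
      apply Finset.sum_congr rfl
      intro i _
      have := hb i
      simp only [hbdef]
      generalize a i / 2 = c at this ⊢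
      rw [this]; ring
    have hsum2 : (∑ i, a i) = 2 * ∑ i, b i := by
      rw [Finset.mul_sum]
      exact Finset.sum_congr rfl (fun i _ => hb i)
    -- parity
    have hpar : (∑ i, (b i) ^ 2) ≡ ∑ i, b i [ZMOD 2] := by
      rw [Int.modEq_iff_dvd, ← Finset.sum_sub_distrib]
      apply Finset.dvd_sum
      intro i _
      have : Even (b i * (b i - 1)) := Int.even_mul_pred_self (b i)
      obtain ⟨c, hc⟩ := this
      exact ⟨-c, by nlinarith⟩
    have hbe : (∑ i, b i) ≡ 0 [ZMOD 2] := by
      rw [hsum, hsum2] at h3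
      rw [Int.modEq_iff_dvd] at h3 ⊢
      obtain ⟨c, hc⟩ := h3
      exact ⟨c, by linarith⟩
    have hbne : ∃ j, b j ≠ 0 := by
      by_contra hcon
      push Not at hcon
      apply hx0
      funext i
      rw [h1 i, hb i]
      simp only [hbdef] at hcon
      rw [hcon i]; rfl
    obtain ⟨j, hj⟩ := hbne
    have hge1 : 1 ≤ ∑ i, (b i) ^ 2 := by
      have h1' : (b j) ^ 2 ≤ ∑ i, (b i) ^ 2 :=
        Finset.single_le_sum (f := fun i => b i ^ 2) (fun i _ => by positivity) (Finset.mem_univ j)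
      have : 0 < (b j) ^ 2 := by positivity
      omega
    have hev2 : (∑ i, (b i) ^ 2) ≡ 0 [ZMOD 2] := hpar.trans hbe
    rw [Int.modEq_iff_dvd] at hev2
    obtain ⟨c, hc⟩ := hev2
    omega
  · have h8 := eight_le_card_support (red a) h2 hr
    have hle : ((support₂ (red a)).card : ℤ) ≤ ∑ i, (a i) ^ 2 := by
      have h1' : ∑ i ∈ support₂ (red a), (1 : ℤ) ≤ ∑ i ∈ support₂ (red a), (a i) ^ 2 := by
        apply Finset.sum_le_sum
        intro i hi
        rw [mem_support₂_red] at hi
        obtain ⟨c, hc⟩ := hi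
        have : a i ≠ 0 := by omega
        have : 0 < (a i) ^ 2 := by positivity
        omega
      have h2' : ∑ i ∈ support₂ (red a), (a i) ^ 2 ≤ ∑ i, (a i) ^ 2 :=
        Finset.sum_le_sum_of_subset_of_nonneg (Finset.subset_univ _) (fun i _ _ => by positivity)
      simp only [Finset.sum_const, nsmul_eq_mul, mul_one] at h1'
      linarith
    have : (8 : ℤ) ≤ ((support₂ (red a)).card : ℤ) := by exact_mod_cast h8
    omega

theorem sqNorm_odd_case (x a : GolayPt → ℤ) (h1 : ∀ i, x i = 1 + 2 * a i)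
    (h2 : red a ∈ golayCode) (h3 : (∑ i, x i) ≡ 4 [ZMOD 8]) : 32 ≤ sqNorm x := by
  have hsq : sqNorm x = 24 + 4 * ∑ i, a i * (a i + 1) := by
    unfold sqNorm
    rw [← card_golayPt_sum, Finset.mul_sum, ← Finset.sum_add_distrib]
    apply Finset.sum_congr rfl
    intro i _
    rw [h1 i]; ring
  have hsum : (∑ i, x i) = 24 + 2 * ∑ i, a i := by
    rw [← card_golayPt_sum, Finset.mul_sum, ← Finset.sum_add_distrib]
    exact Finset.sum_congr rfl (fun i _ => h1 i)
  have hnn : ∀ i, 0 ≤ a i * (a i + 1) := by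
    intro i
    rcases le_or_gt 0 (a i) with h | h
    · positivity
    · have : a i + 1 ≤ 0 := by omega
      nlinarith
  have hS0 : 0 ≤ ∑ i, a i * (a i + 1) := Finset.sum_nonneg (fun i _ => hnn i)
  have hSe : (2 : ℤ) ∣ ∑ i, a i * (a i + 1) := by
    apply Finset.dvd_sum
    intro i _
    exact (Int.even_mul_succ_self (a i)).two_dvd
  by_cases hS : (∑ i, a i * (a i + 1)) = 0
  · exfalso
    have hall : ∀ i, a i * (a i + 1) = 0 := by
      intro i
      exact (Finset.sum_eq_zero_iff_of_nonneg (fun i _ => hnn i)).mp hS i (Finset.mem_univ i)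
    have hval : ∀ i, a i = 0 ∨ a i = -1 := by
      intro i
      rcases mul_eq_zero.mp (hall i) with h | h
      · left; exact h
      · right; omega
    have hai : ∀ i, a i = -(if Odd (a i) then 1 else 0) := by
      intro i
      rcases hval i with h | h <;> rw [h] <;> simp
    have hsuma : (∑ i, a i) = -((support₂ (red a)).card : ℤ) := by
      have hT : support₂ (red a) = Finset.univ.filter (fun i => Odd (a i)) := by
        ext p
        rw [mem_support₂_red]; simp
      rw [hT, ← Finset.sum_boole, ← Finset.sum_neg_distrib]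
      exact Finset.sum_congr rfl (fun i _ => hai i)
    obtain ⟨c, hc⟩ := four_dvd_card_support (red a) h2
    rw [hsum, hsuma, hc] at h3
    rw [Int.modEq_iff_dvd] at h3
    obtain ⟨d, hd⟩ := h3
    push_cast at hd
    omega
  · obtain ⟨c, hc⟩ := hSe
    omega

/-- Minimal norm of the lattice. -/
theorem leech_min_norm (x : GolayPt → ℤ) (hx : x ∈ leechLattice) (h0 : x ≠ 0) : 32 ≤ sqNorm x := by
  obtain ⟨m, a, hm, h1, h2, h3⟩ := LP_normalize (LP_of_mem_leechLattice hx)
  rcases hm with rfl | rfl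
  · apply sqNorm_even_case x a h0 (fun i => by rw [h1 i]; ring) h2
    simpa using h3
  · apply sqNorm_odd_case x a h1 h2
    simpa using h3

end Cfsg.Agent.Helper91
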