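import Cfsg.Agent.Lib.Helper91.M22Data

set_option autoImplicit false

namespace Cfsg.Agent.Helper91
open Cfsg Cfsg.Agent.Helper7
open scoped Pointwise

/-! ### Kernel checks on the data of `M22Data` -/

/-- Packed tables of the powers of a packed table. -/
def kpowAux (a : ℕ) : ℕ → ℕ → List ℕ
  | 0, _ => []
  | n + 1, k => k :: kpowAux a n (kmul a k)

/-- Packed tables of the powers `a^0, …, a^10` (literal). -/
def m22aPow : List ℕ := [984818244535754528103549039458486304, 983435072843990828779021698901151808, 980668730378935070469623699575545984, 975166140090675008210365318152896768, 965063883269089610517257152230401536, 973782968399780250007192978068752672, 962298451038133363011374430748423744, 969184212989482915311201746032266656, 982051901153124072706648311500937312, 977903326592794432676351619257413824, 970567384681219435340729552166356352]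

theorem m22aPow_eq : m22aPow = kpowAux m22aK 11 kid := by decide +kernel

/-- Packed tables of the powers `b^0, …, b^4`. -/
def m22bPow : List ℕ := kpowAux m22bK 5 kid

/-- The packed table of the word `(r a^{e₁}) (r a^{e₂}) ⋯`. -/
def m22Word (r : ℕ) : List ℕ → ℕ
  | [] => kid
  | e :: es => kmul (kmul r (m22aPow.getD e kid)) (m22Word r es)

/-- Seventh power of a packed table. -/
def m22pow7 (w : ℕ) : ℕ :=
  kmul (kmul (kmul (kmul w w) w) (kmul (kmul w w) w)) w

/-- The packed table is that of an element of order 7. -/
def m22isOrd7 (w : ℕ) : Bool := !Nat.beq (kmul w kid) kid && Nat.beq (m22pow7 w) kid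

/-- Check of one certificate. -/
def m22chkOne (t s : ℕ) (es : List ℕ) : Bool :=
  match es with
  | [] => Nat.beq (pm (ktab (kmul t s)) sqMask) sqMask
  | _ => m22isOrd7 (m22Word (kmul t s) es)

/-- Check of a coset. -/
def m22chk (t : ℕ) (cs : List (List ℕ)) : Bool :=
  (List.zip m22g20K cs).all fun p => m22chkOne t p.1 p.2

theorem m22chk0 : m22chk (m22tK.getD 0 kid) m22cert0 = true := by decide +kernel
theorem m22chk1 : m22chk (m22tK.getD 1 kid) m22cert1 = true := by decide +kernel
theorem m22chk2 : m22chk (m22tK.getD 2 kid) m22cert2 = true := by decide +kernel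
theorem m22chk3 : m22chk (m22tK.getD 3 kid) m22cert3 = true := by decide +kernel
theorem m22chk4 : m22chk (m22tK.getD 4 kid) m22cert4 = true := by decide +kernel
theorem m22chk5 : m22chk (m22tK.getD 5 kid) m22cert5 = true := by decide +kernel
theorem m22chk6 : m22chk (m22tK.getD 6 kid) m22cert6 = true := by decide +kernel
theorem m22chk7 : m22chk (m22tK.getD 7 kid) m22cert7 = true := by decide +kernel
theorem m22chk8 : m22chk (m22tK.getD 8 kid) m22cert8 = true := by decide +kernel
theorem m22chk9 : m22chk (m22tK.getD 9 kid) m22cert9 = true := by decide +kernel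

theorem m22cert_len : m22cert0.length = 960 ∧ m22cert1.length = 960 ∧ m22cert2.length = 960 ∧
    m22cert3.length = 960 ∧ m22cert4.length = 960 ∧ m22cert5.length = 960 ∧
    m22cert6.length = 960 ∧ m22cert7.length = 960 ∧ m22cert8.length = 960 ∧
    m22cert9.length = 960 := by decide +kernel

/-- Check of a straight-line program against the literal list `L`: element number `n` is the
product of two earlier elements. -/
def slpChk (L : List ℕ) : ℕ → List ℕ → List (ℕ × ℕ) → Bool
  | _, [], [] => true
  | n, k :: ks, p :: ps => Nat.blt p.1 n && Nat.blt p.2 n &&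
      Nat.beq (kmul (L.getD p.1 kid) (L.getD p.2 kid)) k && slpChk L (n + 1) ks ps
  | _, _, _ => false

theorem m22slp_ok : slpChk m22g20K 3 (m22g20K.drop 3) m22slp = true := by decide +kernel

/-- Boolean test that a list of numbers has no repetition. -/
def nodupNatB : List ℕ → Bool
  | [] => true
  | x :: xs => !(xs.any (Nat.beq x)) && nodupNatB xs

theorem m22g20K_nodupNatB : nodupNatB m22g20K = true := by decide +kernel

theorem m22g20K_canon : m22g20K.all (fun k => Nat.blt k (32 ^ 24)) = true := by decide +kernel

theorem m22g20K_length : m22g20K.length = 960 := by decide +kernel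

/-- The table fixes `∞, 0, 1, 5`. -/
def m22fix4 (k : ℕ) : Bool :=
  Nat.beq (kget k 23) 23 && Nat.beq (kget k 0) 0 && Nat.beq (kget k 1) 1 && Nat.beq (kget k 5) 5

theorem m22gens_ok : (m22g20K.take 3).all (fun k => m24TabOK (ktab k) && m22fix4 k) = true := by
  decide +kernel

theorem m22ab_ok : m24TabOK (ktab m22aK) = true ∧ m24TabOK (ktab m22bK) = true := by
  decide +kernel

theorem m22tK_ok : m22tK.all (fun k => m24TabOK (ktab k) && Nat.beq (kget k 23) 23 &&
    Nat.beq (kget k 0) 0) = true := by decide +kernel

/-- The transversal reaches every admissible pair of images of `(1, 5)`. -/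
theorem m22tK_cover : ([1, 5] : List ℕ).all (fun x => ([1, 2, 3, 5, 7, 14] : List ℕ).all (fun y =>
    Nat.beq x y || m22tK.any (fun t => Nat.beq (kget t 1) x && Nat.beq (kget t 5) y))) = true := by
  decide +kernel

/-- Facts on `a` and `b`: fixed points, `b a = a³ b`, `a b = b a⁴`, the dodecad of squares. -/
theorem m22ab_facts : kget m22aK 23 = 23 ∧ kget m22aK 0 = 0 ∧ kget m22bK 23 = 23 ∧
    kget m22bK 0 = 0 ∧ kget m22bK 1 = 1 ∧ kget m22bK 5 = 5 ∧
    kmul m22bK m22aK = kmul (m22aPow.getD 3 kid) m22bK ∧
    kmul m22aK m22bK = kmul m22bK (m22aPow.getD 4 kid) ∧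
    pm (ktab m22aK) sqMask = sqMask ∧ pm (ktab m22bK) sqMask = sqMask ∧
    kmul m22aK (m22aPow.getD 10 kid) = kid := by decide +kernel

/-- Every point other than `∞, 0` is moved to `1` or `5` by a power of `a`. -/
theorem m22a_orbits : (List.range 24).all (fun y => Nat.beq y 23 || Nat.beq y 0 ||
    (List.range 11).any (fun i => Nat.beq (kget (m22aPow.getD i kid) y) 1 ||
      Nat.beq (kget (m22aPow.getD i kid) y) 5)) = true := by decide +kernel

/-- Every point other than `∞, 0` is moved into the list of representatives by a power
of `b`. -/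
theorem m22b_orbits : (List.range 24).all (fun y => Nat.beq y 23 || Nat.beq y 0 ||
    (List.range 5).any (fun i => ([1, 2, 3, 5, 7, 14] : List ℕ).any
      (Nat.beq (kget (m22bPow.getD i kid) y)))) = true := by decide +kernel

end Cfsg.Agent.Helper91
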