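import Cfsg.Agent.Lib.Helper91.M22Cert
import Cfsg.Agent.Lib.Helper7.M24Stab

set_option autoImplicit false

namespace Cfsg.Agent.Helper91
open Cfsg Cfsg.Agent.Helper7
open scoped Pointwise

/-! ### From packed tables to permutations -/

theorem KTab.apply {σ : Equiv.Perm GolayPt} {k : ℕ} (h : KTab σ k) (i : ℕ) (hi : i < 24) :
    σ (pt i) = pt (kget k i) := by
  have := Tab.apply h i hi
  rwa [ktab_getD k i hi] at this

theorem KTab.exists_of_ok {k : ℕ} (h : m24TabOK (ktab k) = true) : ∃ σ ∈ M24, KTab σ k := by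
  obtain ⟨hok, hmem⟩ := m24TabOK_spec h
  exact ⟨_, hmem, tab_permOfTab _ hok⟩

theorem KTab.smul_ofMask {σ : Equiv.Perm GolayPt} {k : ℕ} (h : KTab σ k) (m : ℕ) :
    σ • ofMask m = ofMask (pm (ktab k) m) := by
  rw [Helper7.smul_ofMask h, pm_eq _ (ktab_length k)]

theorem kpowAux_tab {σ : Equiv.Perm GolayPt} {a : ℕ} (ha : KTab σ a) :
    ∀ (n : ℕ) (τ : Equiv.Perm GolayPt) (k : ℕ), KTab τ k → ∀ i < n,
      KTab (σ ^ i * τ) ((kpowAux a n k).getD i kid) := by
  intro n
  induction n with
  | zero => intro τ k _ i hi; omega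
  | succ n ih =>
    intro τ k hk i hi
    cases i with
    | zero =>
      rw [pow_zero, one_mul]
      exact hk
    | succ j =>
      have := ih (σ * τ) (kmul a k) (ha.mul hk) j (by omega)
      rw [pow_succ, mul_assoc]
      exact this

/-- The element `a` of order 11. -/
def m22α : Equiv.Perm GolayPt := permOfTab (ktab m22aK) (m24TabOK_spec m22ab_ok.1).choose

/-- The element `b` of order 5. -/
def m22β : Equiv.Perm GolayPt := permOfTab (ktab m22bK) (m24TabOK_spec m22ab_ok.2).choose

theorem m22α_mem : m22α ∈ M24 := (m24TabOK_spec m22ab_ok.1).choose_spec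
theorem m22β_mem : m22β ∈ M24 := (m24TabOK_spec m22ab_ok.2).choose_spec
theorem m22α_tab : KTab m22α m22aK := tab_permOfTab _ _
theorem m22β_tab : KTab m22β m22bK := tab_permOfTab _ _

theorem m22α_pow_tab (i : ℕ) (hi : i < 11) : KTab (m22α ^ i) (m22aPow.getD i kid) := by
  have := kpowAux_tab m22α_tab 11 1 kid KTab.one i hi
  rwa [mul_one, ← m22aPow_eq] at this

theorem m22β_pow_tab (i : ℕ) (hi : i < 5) : KTab (m22β ^ i) (m22bPow.getD i kid) := by
  have := kpowAux_tab m22β_tab 5 1 kid KTab.one i hi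
  rwa [mul_one] at this

/-! ### Uniqueness of canonical keys, counting -/

theorem enkey_map_kget (n k : ℕ) (hk : k < 32 ^ n) :
    enkey ((List.range n).map (kget k)) = k := by
  induction n generalizing k with
  | zero =>
    have : k = 0 := by simpa using hk
    subst this
    rfl
  | succ n ih =>
    rw [List.range_succ_eq_map, List.map_cons, List.map_map]
    have e : List.map (kget k ∘ Nat.succ) (List.range n) =
        List.map (kget (k / 32)) (List.range n) := by
      apply List.map_congr_left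
      intro i _
      show k / 32 ^ (i + 1) % 32 = k / 32 / 32 ^ i % 32
      rw [pow_succ, mul_comm, Nat.div_div_eq_div_mul]
    have hk' : k / 32 < 32 ^ n := by
      rw [pow_succ, mul_comm] at hk
      exact Nat.div_lt_of_lt_mul hk
    rw [e]
    show kget k 0 + 32 * enkey _ = k
    rw [ih (k / 32) hk']
    show k / 32 ^ 0 % 32 + 32 * (k / 32) = k
    rw [pow_zero, Nat.div_one]
    exact Nat.mod_add_div k 32

theorem KTab.key_unique {σ : Equiv.Perm GolayPt} {k k' : ℕ} (h : KTab σ k) (h' : KTab σ k')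
    (hk : k < 32 ^ 24) (hk' : k' < 32 ^ 24) : k = k' := by
  have e : ktab k = ktab k' := tab_list_unique h h' (ktab_length k) (ktab_length k')
  rw [← enkey_map_kget 24 k hk, ← enkey_map_kget 24 k' hk']
  exact congrArg enkey e

theorem nodup_of_nodupNatB : ∀ L : List ℕ, nodupNatB L = true → L.Nodup
  | [], _ => List.nodup_nil
  | x :: xs, h => by
    rw [nodupNatB, Bool.and_eq_true, Bool.not_eq_true', ← Bool.not_eq_true, List.any_eq_true] at h
    refine List.nodup_cons.mpr ⟨fun hx => h.1 ⟨x, hx, Nat.beq_refl x⟩, nodup_of_nodupNatB xs h.2⟩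

/-- If a list of distinct canonical keys of elements of `H` is as long as `H` is large, every
element of `H` has its key in the list. -/
theorem exists_key_of_card {H : Subgroup (Equiv.Perm GolayPt)} {L : List ℕ}
    (hgood : ∀ k ∈ L, ∃ σ ∈ H, KTab σ k) (hnd : L.Nodup) (hcanon : ∀ k ∈ L, k < 32 ^ 24)
    (hcard : Nat.card ↥H ≤ L.length) : ∀ x ∈ H, ∃ k ∈ L, KTab x k := by
  classical
  have hL : Nat.card ↥L.toFinset = L.length := by
    rw [Nat.card_eq_fintype_card, Fintype.card_coe, List.toFinset_card_of_nodup hnd]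
  let f : ↥L.toFinset → ↥H := fun k =>
    ⟨(hgood k.1 (List.mem_toFinset.mp k.2)).choose,
      (hgood k.1 (List.mem_toFinset.mp k.2)).choose_spec.1⟩
  have hf : Function.Injective f := by
    intro k k' hkk
    have h1 := (hgood k.1 (List.mem_toFinset.mp k.2)).choose_spec.2
    have h2 := (hgood k'.1 (List.mem_toFinset.mp k'.2)).choose_spec.2
    have e : (hgood k.1 (List.mem_toFinset.mp k.2)).choose =
        (hgood k'.1 (List.mem_toFinset.mp k'.2)).choose := congrArg Subtype.val hkk
    rw [e] at h1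
    exact Subtype.ext (h1.key_unique h2 (hcanon _ (List.mem_toFinset.mp k.2))
      (hcanon _ (List.mem_toFinset.mp k'.2)))
  have hb := hf.bijective_of_nat_card_le (by rw [hL]; exact hcard)
  intro x hx
  obtain ⟨k, hk⟩ := hb.2 ⟨x, hx⟩
  refine ⟨k.1, List.mem_toFinset.mp k.2, ?_⟩
  have := (hgood k.1 (List.mem_toFinset.mp k.2)).choose_spec.2
  have e : (hgood k.1 (List.mem_toFinset.mp k.2)).choose = x := congrArg Subtype.val hk
  rwa [e] at this

/-! ### Straight-line programs -/

theorem slpChk_good (P : ℕ → Prop) (hmul : ∀ a b, P a → P b → P (kmul a b)) (L : List ℕ) :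
    ∀ (ks : List ℕ) (n : ℕ) (ps : List (ℕ × ℕ)), slpChk L n ks ps = true → L.drop n = ks →
      (∀ m < n, P (L.getD m kid)) → ∀ m < L.length, P (L.getD m kid) := by
  intro ks
  induction ks with
  | nil =>
    intro n ps _ hdrop hP m hm
    have : L.length ≤ n := List.drop_eq_nil_iff.mp hdrop
    exact hP m (by omega)
  | cons k ks ih =>
    intro n ps h hdrop hP
    cases ps with
    | nil => simp [slpChk] at h
    | cons p ps =>
      simp only [slpChk, Bool.and_eq_true, Nat.blt_eq, Nat.beq_eq] at h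
      obtain ⟨⟨⟨h1, h2⟩, h3⟩, h4⟩ := h
      have hk : L.getD n kid = k := by
        have : (L.drop n)[0]? = some k := by rw [hdrop]; rfl
        rw [List.getElem?_drop, Nat.add_zero] at this
        rw [List.getD_eq_getElem?_getD, this]
        rfl
      have hdrop' : L.drop (n + 1) = ks := by
        have : (L.drop n).drop 1 = ks := by rw [hdrop]; rfl
        rwa [List.drop_drop] at this
      apply ih (n + 1) ps h4 hdrop'
      intro m hm
      rcases Nat.lt_succ_iff_lt_or_eq.mp hm with h | rfl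
      · exact hP m h
      · rw [hk, ← h3]
        exact hmul _ _ (hP _ h1) (hP _ h2)

/-! ### The four-point stabiliser -/

/-- The four-point stabiliser of `M24` has order `960`. -/
theorem card_stab4 (p q r s : GolayPt) (hpq : p ≠ q) (hpr : p ≠ r) (hps : p ≠ s) (hqr : q ≠ r)
    (hqs : q ≠ s) (hrs : r ≠ s) : Nat.card ↥(stabL M24 [p, q, r, s]) = 960 := by
  have h := card_eq_mul_of_orbit (stabL M24 [p, q, r]) s
    (((Finset.univ.erase p).erase q).erase r) (by
    intro s'
    rw [Finset.mem_erase, Finset.mem_erase, Finset.mem_erase]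
    simp only [Finset.mem_univ, and_true]
    constructor
    · rintro ⟨h1, h2, h3⟩
      obtain ⟨g, hg, hgq⟩ := m24_five_trans [p, q, r, s] [p, q, r, s']
        (by simp [hpq, hpr, hps, hqr, hqs, hrs])
        (by simp [hpq, hpr, hqr, Ne.symm h1, Ne.symm h2, Ne.symm h3]) rfl (by simp)
      simp only [List.map_cons, List.map_nil, List.cons.injEq, and_true] at hgq
      refine ⟨g, mem_stabL.mpr ⟨hg, ?_⟩, hgq.2.2.2⟩
      intro b hb
      simp only [List.mem_cons, List.not_mem_nil, or_false] at hb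
      rcases hb with rfl | rfl | rfl
      · exact hgq.1
      · exact hgq.2.1
      · exact hgq.2.2.1
    · rintro ⟨g, hg, rfl⟩
      rw [mem_stabL] at hg
      have e1 := hg.2 p (by simp)
      have e2 := hg.2 q (by simp)
      have e3 := hg.2 r (by simp)
      refine ⟨?_, ?_, ?_⟩
      · intro h
        apply hrs
        apply g.injective
        rw [e3, h]
      · intro h
        apply hqs
        apply g.injective
        rw [e2, h]
      · intro h
        apply hps
        apply g.injective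
        rw [e1, h])
  rw [card_stab3 p q r hpq hpr hqr, Finset.card_erase_of_mem (by simp [hpr.symm, hqr.symm]),
    Finset.card_erase_of_mem (by simp [hpq.symm]),
    Finset.card_erase_of_mem (Finset.mem_univ p), card_univ_golayPt] at h
  have : stabIn (stabL M24 [p, q, r]) s = stabL M24 [p, q, r, s] := by
    rw [← stabL_append]; rfl
  rw [this] at h
  omega

/-- The pointwise stabiliser of `∞, 0, 1, 5`. -/
abbrev m22G20 : Subgroup (Equiv.Perm GolayPt) := stabL M24 [pt 23, pt 0, pt 1, pt 5]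

theorem card_m22G20 : Nat.card ↥m22G20 = 960 :=
  card_stab4 _ _ _ _ (by decide) (by decide) (by decide) (by decide) (by decide) (by decide)

theorem m22fix4_spec {σ : Equiv.Perm GolayPt} {k : ℕ} (h : KTab σ k) (hσ : σ ∈ M24)
    (hf : m22fix4 k = true) : σ ∈ m22G20 := by
  simp only [m22fix4, Bool.and_eq_true, Nat.beq_eq] at hf
  obtain ⟨⟨⟨h1, h2⟩, h3⟩, h4⟩ := hf
  rw [mem_stabL]
  refine ⟨hσ, ?_⟩
  intro b hb
  simp only [List.mem_cons, List.not_mem_nil, or_false] at hb
  rcases hb with rfl | rfl | rfl | rfl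
  · rw [h.apply 23 (by norm_num), h1]
  · rw [h.apply 0 (by norm_num), h2]
  · rw [h.apply 1 (by norm_num), h3]
  · rw [h.apply 5 (by norm_num), h4]

theorem m22g20K_good : ∀ k ∈ m22g20K, ∃ σ ∈ m22G20, KTab σ k := by
  have key : ∀ m < m22g20K.length, ∃ σ ∈ m22G20, KTab σ (m22g20K.getD m kid) := by
    apply slpChk_good (fun k => ∃ σ ∈ m22G20, KTab σ k) ?_ m22g20K (m22g20K.drop 3) 3 m22slp
      m22slp_ok rfl
    · intro m hm
      have hall := List.all_eq_true.mp m22gens_ok
      have hmem : m22g20K.getD m kid ∈ m22g20K.take 3 := by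
        have hlen : m < (m22g20K.take 3).length := by
          rw [List.length_take, m22g20K_length]; omega
        have : (m22g20K.take 3)[m]'hlen = m22g20K.getD m kid := by
          rw [List.getElem_take, List.getD_eq_getElem _ _ (by rw [m22g20K_length]; omega)]
        rw [← this]
        exact List.getElem_mem hlen
      have := hall _ hmem
      rw [Bool.and_eq_true] at this
      obtain ⟨σ, hσ, hk⟩ := KTab.exists_of_ok this.1
      exact ⟨σ, m22fix4_spec hk hσ this.2, hk⟩
    · rintro a b ⟨σ, hσ, ha⟩ ⟨τ, hτ, hb⟩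
      exact ⟨σ * τ, Subgroup.mul_mem _ hσ hτ, ha.mul hb⟩
  intro k hk
  obtain ⟨m, hm, rfl⟩ := List.getElem_of_mem hk
  have := key m hm
  rwa [List.getD_eq_getElem _ _ hm] at this

/-- Every element of the four-point stabiliser has its key in the list. -/
theorem m22G20_key (x : Equiv.Perm GolayPt) (hx : x ∈ m22G20) : ∃ k ∈ m22g20K, KTab x k := by
  apply exists_key_of_card m22g20K_good (nodup_of_nodupNatB _ m22g20K_nodupNatB) ?_ ?_ x hx
  · intro k hk
    have := List.all_eq_true.mp m22g20K_canon k hk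
    simpa [Nat.blt_eq] using this
  · rw [card_m22G20, m22g20K_length]

/-! ### The certificates -/

/-- What a verified certificate says of the packed table `r`. -/
def M22Good (r : ℕ) : Prop :=
  pm (ktab r) sqMask = sqMask ∨ ∃ es : List ℕ, es ≠ [] ∧ m22isOrd7 (m22Word r es) = true

theorem m22chkOne_good {t s : ℕ} {es : List ℕ} (h : m22chkOne t s es = true) :
    M22Good (kmul t s) := by
  cases es with
  | nil =>
    left
    simpa [m22chkOne, Nat.beq_eq] using h
  | cons e es =>
    right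
    exact ⟨e :: es, by simp, h⟩

theorem all_zip_mem {α β : Type} (L : List α) (cs : List β) (f : α × β → Bool)
    (h : (List.zip L cs).all f = true) (hlen : L.length = cs.length) :
    ∀ s ∈ L, ∃ c, f (s, c) = true := by
  intro s hs
  obtain ⟨n, hn, rfl⟩ := List.getElem_of_mem hs
  have hn' : n < cs.length := by rw [← hlen]; exact hn
  have hz : n < (List.zip L cs).length := by rw [List.length_zip]; omega
  have hmem : (L[n], cs[n]) ∈ List.zip L cs := by
    have e : (List.zip L cs)[n] = (L[n], cs[n]) := List.getElem_zip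
    rw [← e]
    exact List.getElem_mem hz
  exact ⟨cs[n], List.all_eq_true.mp h _ hmem⟩

theorem m22chk_good {t : ℕ} {cs : List (List ℕ)} (hlen : cs.length = 960)
    (h : m22chk t cs = true) : ∀ s ∈ m22g20K, M22Good (kmul t s) := by
  intro s hs
  obtain ⟨c, hc⟩ := all_zip_mem m22g20K cs (fun p => m22chkOne t p.1 p.2) h
    (by rw [hlen]; exact m22g20K_length) s hs
  exact m22chkOne_good hc

theorem m22tK_good : ∀ t ∈ m22tK, ∀ s ∈ m22g20K, M22Good (kmul t s) := by
  intro t ht
  obtain ⟨j, hj, rfl⟩ := List.getElem_of_mem ht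
  rw [← List.getD_eq_getElem _ kid hj]
  have hj' : j < 10 := hj
  obtain ⟨h0, h1, h2, h3, h4, h5, h6, h7, h8, h9⟩ := m22cert_len
  interval_cases j
  · exact m22chk_good h0 m22chk0
  · exact m22chk_good h1 m22chk1
  · exact m22chk_good h2 m22chk2
  · exact m22chk_good h3 m22chk3
  · exact m22chk_good h4 m22chk4
  · exact m22chk_good h5 m22chk5
  · exact m22chk_good h6 m22chk6
  · exact m22chk_good h7 m22chk7
  · exact m22chk_good h8 m22chk8
  · exact m22chk_good h9 m22chk9

/-! ### Facts on `a` and `b` -/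

theorem m22α_fix23 : m22α (pt 23) = pt 23 := by
  rw [m22α_tab.apply 23 (by norm_num), m22ab_facts.1]

theorem m22α_fix0 : m22α (pt 0) = pt 0 := by
  rw [m22α_tab.apply 0 (by norm_num), m22ab_facts.2.1]

theorem m22β_fix23 : m22β (pt 23) = pt 23 := by
  rw [m22β_tab.apply 23 (by norm_num), m22ab_facts.2.2.1]

theorem m22β_fix0 : m22β (pt 0) = pt 0 := by
  rw [m22β_tab.apply 0 (by norm_num), m22ab_facts.2.2.2.1]

theorem m22β_fix1 : m22β (pt 1) = pt 1 := by
  rw [m22β_tab.apply 1 (by norm_num), m22ab_facts.2.2.2.2.1]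

theorem m22β_fix5 : m22β (pt 5) = pt 5 := by
  rw [m22β_tab.apply 5 (by norm_num), m22ab_facts.2.2.2.2.2.1]

theorem m22αβ : m22α * m22β = m22β * m22α ^ 4 := by
  have h1 : KTab (m22α * m22β) (kmul m22aK m22bK) := m22α_tab.mul m22β_tab
  have h2 : KTab (m22β * m22α ^ 4) (kmul m22bK (m22aPow.getD 4 kid)) :=
    m22β_tab.mul (m22α_pow_tab 4 (by norm_num))
  rw [← m22ab_facts.2.2.2.2.2.2.2.1] at h2
  exact h1.unique h2

theorem m22α_smul : m22α • ofMask sqMask = ofMask sqMask := by
  rw [m22α_tab.smul_ofMask, m22ab_facts.2.2.2.2.2.2.2.2.1]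

theorem m22β_smul : m22β • ofMask sqMask = ofMask sqMask := by
  rw [m22β_tab.smul_ofMask, m22ab_facts.2.2.2.2.2.2.2.2.2.1]

theorem m22β_conj_mem (x : Equiv.Perm GolayPt) (hx : x ∈ Subgroup.zpowers m22α) :
    m22β⁻¹ * x * m22β ∈ Subgroup.zpowers m22α := by
  obtain ⟨n, rfl⟩ := Subgroup.mem_zpowers_iff.mp hx
  have e : m22β⁻¹ * m22α * m22β = m22α ^ 4 := by
    rw [mul_assoc, m22αβ, ← mul_assoc, inv_mul_cancel, one_mul]
  have : m22β⁻¹ * m22α ^ n * m22β = (m22α ^ 4) ^ n := by
    rw [← e]
    have := conj_zpow (a := m22β⁻¹) (b := m22α) (i := n)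
    rw [inv_inv] at this
    exact this.symm
  rw [this]
  exact Subgroup.zpow_mem _ (Subgroup.pow_mem _ (Subgroup.mem_zpowers _) 4) n

theorem m22β_pow_conj_mem (k : ℕ) (x : Equiv.Perm GolayPt) (hx : x ∈ Subgroup.zpowers m22α) :
    (m22β ^ k)⁻¹ * x * m22β ^ k ∈ Subgroup.zpowers m22α := by
  induction k generalizing x with
  | zero => simpa using hx
  | succ k ih =>
    have := m22β_conj_mem _ (ih x hx)
    have e : (m22β ^ (k + 1))⁻¹ * x * m22β ^ (k + 1) =
        m22β⁻¹ * ((m22β ^ k)⁻¹ * x * m22β ^ k) * m22β := by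
      rw [pow_succ]; group
    rw [e]
    exact this

theorem closure_conj_mem {G : Type*} [Group G] (a g1 c : G)
    (hc : c⁻¹ * a * c ∈ Subgroup.zpowers a) :
    ∀ x ∈ Subgroup.closure ({a, c * g1 * c⁻¹} : Set G),
      c⁻¹ * x * c ∈ Subgroup.closure ({a, g1} : Set G) := by
  intro x hx
  induction hx using Subgroup.closure_induction with
  | mem y hy =>
    rcases hy with rfl | hy
    · have : Subgroup.zpowers y ≤ Subgroup.closure ({y, g1} : Set G) := by
        rw [Subgroup.zpowers_le]
        exact Subgroup.subset_closure (by simp)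
      exact this hc
    · rw [Set.mem_singleton_iff.mp hy]
      have : c⁻¹ * (c * g1 * c⁻¹) * c = g1 := by group
      rw [this]
      exact Subgroup.subset_closure (by simp)
  | one => simp
  | mul y z _ _ hy hz =>
    have : c⁻¹ * (y * z) * c = (c⁻¹ * y * c) * (c⁻¹ * z * c) := by group
    rw [this]
    exact Subgroup.mul_mem _ hy hz
  | inv y _ hy =>
    have : c⁻¹ * y⁻¹ * c = (c⁻¹ * y * c)⁻¹ := by group
    rw [this]
    exact Subgroup.inv_mem _ hy

theorem orderOf_conj_eq {G : Type*} [Group G] (c x : G) : orderOf (c⁻¹ * x * c) = orderOf x := by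
  have := MulEquiv.orderOf_eq (MulAut.conj c⁻¹) x
  rwa [MulAut.conj_apply, inv_inv] at this

/-! ### Words and elements of order 7 -/

/-- `a^e` for `e < 11`, the identity otherwise (what `m22aPow.getD e kid` tabulates). -/
def m22apow (e : ℕ) : Equiv.Perm GolayPt := if e < 11 then m22α ^ e else 1

theorem m22apow_tab (e : ℕ) : KTab (m22apow e) (m22aPow.getD e kid) := by
  unfold m22apow
  split
  · rename_i h
    exact m22α_pow_tab e h
  · rename_i h
    have hlen : m22aPow.length = 11 := rfl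
    rw [List.getD_eq_default _ _ (by omega)]
    exact KTab.one

theorem m22apow_mem (e : ℕ) (g : Equiv.Perm GolayPt) :
    m22apow e ∈ Subgroup.closure ({m22α, g} : Set (Equiv.Perm GolayPt)) := by
  unfold m22apow
  split
  · exact Subgroup.pow_mem _ (Subgroup.subset_closure (by simp)) _
  · exact Subgroup.one_mem _

/-- The permutation of a word. -/
def m22wordPerm (g : Equiv.Perm GolayPt) : List ℕ → Equiv.Perm GolayPt
  | [] => 1
  | e :: es => (g * m22apow e) * m22wordPerm g es

theorem m22wordPerm_tab {g : Equiv.Perm GolayPt} {r : ℕ} (h : KTab g r) :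
    ∀ es, KTab (m22wordPerm g es) (m22Word r es)
  | [] => KTab.one
  | e :: es => (h.mul (m22apow_tab e)).mul (m22wordPerm_tab h es)

theorem m22wordPerm_mem (g : Equiv.Perm GolayPt) :
    ∀ es, m22wordPerm g es ∈ Subgroup.closure ({m22α, g} : Set (Equiv.Perm GolayPt))
  | [] => Subgroup.one_mem _
  | e :: es => Subgroup.mul_mem _ (Subgroup.mul_mem _ (Subgroup.subset_closure (by simp))
      (m22apow_mem e g)) (m22wordPerm_mem g es)

theorem kget_of_tab_one {w : ℕ} (h : KTab 1 w) (i : ℕ) (hi : i < 24) : kget w i = i := by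
  have e1 : ktab w = idTab := tab_list_unique h tab_one (ktab_length w) rfl
  rw [← ktab_getD w i hi, e1, idTab, List.getD_eq_getElem _ _ (by simpa using hi)]
  simp

theorem kmul_kid_of_one {w : ℕ} (h : KTab 1 w) : kmul w kid = kid := by
  rw [kmul_eq]
  have : ((List.range 24).map fun i => kget w (kget kid i)) = idTab := by
    rw [idTab]
    conv_rhs => rw [← List.map_id (List.range 24)]
    apply List.map_congr_left
    intro i hi
    rw [List.mem_range] at hi
    rw [kget_of_tab_one KTab.one i hi, kget_of_tab_one h i hi]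
    rfl
  rw [this]
  rfl

theorem m22isOrd7_spec {σ : Equiv.Perm GolayPt} {w : ℕ} (h : KTab σ w)
    (h7 : m22isOrd7 w = true) : orderOf σ = 7 := by
  rw [m22isOrd7, Bool.and_eq_true, Bool.not_eq_true', Nat.beq_eq] at h7
  obtain ⟨hne, h7⟩ := h7
  have hσ1 : σ ≠ 1 := by
    rintro rfl
    rw [kmul_kid_of_one h, Nat.beq_refl] at hne
    exact absurd hne (by simp)
  have hp : KTab (σ * σ * σ * (σ * σ * σ) * σ) (m22pow7 w) :=
    (((h.mul h).mul h).mul ((h.mul h).mul h)).mul h
  rw [h7] at hp
  have h7' : σ ^ 7 = 1 := by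
    rw [← hp.eq_one]
    simp only [pow_succ, pow_zero, one_mul, mul_assoc]
  have : Fact (Nat.Prime 7) := ⟨by norm_num⟩
  exact orderOf_eq_prime h7' hσ1

/-! ### Specifications of the Boolean checks -/

theorem m22a_orbit_spec (y : ℕ) (hy : y < 24) (h23 : y ≠ 23) (h0 : y ≠ 0) :
    ∃ i < 11, kget (m22aPow.getD i kid) y = 1 ∨ kget (m22aPow.getD i kid) y = 5 := by
  have := List.all_eq_true.mp m22a_orbits y (List.mem_range.mpr hy)
  simp only [Bool.or_eq_true, Nat.beq_eq, List.any_eq_true, List.mem_range] at this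
  rcases this with (h | h) | ⟨i, hi, h⟩
  · exact absurd h h23
  · exact absurd h h0
  · exact ⟨i, hi, h⟩

theorem m22b_orbit_spec (y : ℕ) (hy : y < 24) (h23 : y ≠ 23) (h0 : y ≠ 0) :
    ∃ i < 5, kget (m22bPow.getD i kid) y ∈ ([1, 2, 3, 5, 7, 14] : List ℕ) := by
  have := List.all_eq_true.mp m22b_orbits y (List.mem_range.mpr hy)
  simp only [Bool.or_eq_true, Nat.beq_eq, List.any_eq_true, List.mem_range] at this
  rcases this with (h | h) | ⟨i, hi, z, hz, h⟩
  · exact absurd h h23
  · exact absurd h h0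
  · exact ⟨i, hi, by rw [h]; exact hz⟩

theorem m22tK_cover_spec (x y : ℕ) (hx : x ∈ ([1, 5] : List ℕ))
    (hy : y ∈ ([1, 2, 3, 5, 7, 14] : List ℕ)) (hxy : x ≠ y) :
    ∃ t ∈ m22tK, kget t 1 = x ∧ kget t 5 = y := by
  have := List.all_eq_true.mp (List.all_eq_true.mp m22tK_cover x hx) y hy
  simp only [Bool.or_eq_true, Nat.beq_eq, List.any_eq_true, Bool.and_eq_true] at this
  rcases this with h | ⟨t, ht, h1, h5⟩
  · exact absurd h hxy
  · exact ⟨t, ht, h1, h5⟩

theorem m22tK_spec (t : ℕ) (ht : t ∈ m22tK) :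
    ∃ τ ∈ M24, KTab τ t ∧ τ (pt 23) = pt 23 ∧ τ (pt 0) = pt 0 := by
  have := List.all_eq_true.mp m22tK_ok t ht
  simp only [Bool.and_eq_true, Nat.beq_eq] at this
  obtain ⟨⟨h1, h2⟩, h3⟩ := this
  obtain ⟨τ, hτ, hk⟩ := KTab.exists_of_ok h1
  exact ⟨τ, hτ, hk, by rw [hk.apply 23 (by norm_num), h2], by rw [hk.apply 0 (by norm_num), h3]⟩

theorem idx_image_ne {σ : Equiv.Perm GolayPt} {j : ℕ} (hj : j < 24) (a : ℕ) (ha : a < 24)
    (hfix : σ (pt a) = pt a) (hja : j ≠ a) : idx (σ (pt j)) ≠ a := by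
  intro h
  have h1 : σ (pt j) = pt a := by rw [← pt_idx (σ (pt j)), h]
  rw [← hfix] at h1
  have h2 := congrArg idx (σ.injective h1)
  rw [idx_pt j hj, idx_pt a ha] at h2
  exact hja h2

/-! ### The main computation -/

theorem pow_fix {σ : Equiv.Perm GolayPt} {p : GolayPt} (h : σ p = p) (n : ℕ) : (σ ^ n) p = p :=
  Equiv.Perm.pow_apply_eq_self_of_apply_eq_self h n

theorem inv_fix {σ : Equiv.Perm GolayPt} {p : GolayPt} (h : σ p = p) : σ⁻¹ p = p := by
  rw [Equiv.Perm.inv_eq_iff_eq, h]

/-- An element of the two-point stabiliser either preserves the dodecad of squares, or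
generates together with `a` a subgroup containing elements of order 7. -/
theorem m22_core (g : Equiv.Perm GolayPt) (hg : g ∈ stabL M24 [pt 23, pt 0]) :
    g • ofMask sqMask = ofMask sqMask ∨
      ∃ x ∈ Subgroup.closure ({m22α, g} : Set (Equiv.Perm GolayPt)), orderOf x = 7 := by
  rw [mem_stabL] at hg
  obtain ⟨hgM, hgfix⟩ := hg
  have g23 : g (pt 23) = pt 23 := hgfix _ (by simp)
  have g0 : g (pt 0) = pt 0 := hgfix _ (by simp)
  -- first normalisation
  obtain ⟨i, hi, hx⟩ := m22a_orbit_spec (idx (g (pt 1))) (idx_lt _)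
    (idx_image_ne (by norm_num) 23 (by norm_num) g23 (by norm_num))
    (idx_image_ne (by norm_num) 0 (by norm_num) g0 (by norm_num))
  set x := kget (m22aPow.getD i kid) (idx (g (pt 1))) with hx_def
  have hx' : x ∈ ([1, 5] : List ℕ) := by
    rcases hx with h | h <;> simp [h]
  set g1 := m22α ^ i * g with hg1
  have g1M : g1 ∈ M24 := M24.mul_mem (M24.pow_mem m22α_mem _) hgM
  have g1_23 : g1 (pt 23) = pt 23 := by
    rw [hg1, Equiv.Perm.mul_apply, g23, pow_fix m22α_fix23]
  have g1_0 : g1 (pt 0) = pt 0 := by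
    rw [hg1, Equiv.Perm.mul_apply, g0, pow_fix m22α_fix0]
  have g1_1 : g1 (pt 1) = pt x := by
    rw [hg1, Equiv.Perm.mul_apply, ← pt_idx (g (pt 1)),
      (m22α_pow_tab i hi).apply _ (idx_lt _)]
  -- second normalisation
  obtain ⟨k, hk, hy⟩ := m22b_orbit_spec (idx (g1 (pt 5))) (idx_lt _)
    (idx_image_ne (by norm_num) 23 (by norm_num) g1_23 (by norm_num))
    (idx_image_ne (by norm_num) 0 (by norm_num) g1_0 (by norm_num))
  set y := kget (m22bPow.getD k kid) (idx (g1 (pt 5))) with hy_def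
  set c := m22β ^ k with hc
  set g2 := c * g1 * c⁻¹ with hg2
  have c23 : c (pt 23) = pt 23 := pow_fix m22β_fix23 k
  have c0 : c (pt 0) = pt 0 := pow_fix m22β_fix0 k
  have c1 : c (pt 1) = pt 1 := pow_fix m22β_fix1 k
  have c5 : c (pt 5) = pt 5 := pow_fix m22β_fix5 k
  have cx : c (pt x) = pt x := by
    rcases hx with h | h <;> rw [h]
    · exact c1
    · exact c5
  have cM : c ∈ M24 := M24.pow_mem m22β_mem _
  have g2M : g2 ∈ M24 := M24.mul_mem (M24.mul_mem cM g1M) (M24.inv_mem cM)
  have g2_23 : g2 (pt 23) = pt 23 := by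
    rw [hg2, Equiv.Perm.mul_apply, Equiv.Perm.mul_apply, inv_fix c23, g1_23, c23]
  have g2_0 : g2 (pt 0) = pt 0 := by
    rw [hg2, Equiv.Perm.mul_apply, Equiv.Perm.mul_apply, inv_fix c0, g1_0, c0]
  have g2_1 : g2 (pt 1) = pt x := by
    rw [hg2, Equiv.Perm.mul_apply, Equiv.Perm.mul_apply, inv_fix c1, g1_1, cx]
  have g2_5 : g2 (pt 5) = pt y := by
    rw [hg2, Equiv.Perm.mul_apply, Equiv.Perm.mul_apply, inv_fix c5, ← pt_idx (g1 (pt 5)),
      (m22β_pow_tab k hk).apply _ (idx_lt _)]
  have hy24 : y < 24 := by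
    simp only [List.mem_cons, List.not_mem_nil, or_false] at hy
    omega
  have hx24 : x < 24 := by
    rcases hx with h | h <;> omega
  have hxy : x ≠ y := by
    intro h
    have : g2 (pt 1) = g2 (pt 5) := by rw [g2_1, g2_5, h]
    have := congrArg idx (g2.injective this)
    rw [idx_pt 1 (by norm_num), idx_pt 5 (by norm_num)] at this
    exact absurd this (by norm_num)
  -- the transversal element
  obtain ⟨t, ht, ht1, ht5⟩ := m22tK_cover_spec x y hx' hy hxy
  obtain ⟨τ, hτM, hτ, τ23, τ0⟩ := m22tK_spec t ht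
  have τ1 : τ (pt 1) = pt x := by rw [hτ.apply 1 (by norm_num), ht1]
  have τ5 : τ (pt 5) = pt y := by rw [hτ.apply 5 (by norm_num), ht5]
  have hs' : τ⁻¹ * g2 ∈ m22G20 := by
    rw [mem_stabL]
    refine ⟨M24.mul_mem (M24.inv_mem hτM) g2M, ?_⟩
    intro b hb
    simp only [List.mem_cons, List.not_mem_nil, or_false] at hb
    rcases hb with rfl | rfl | rfl | rfl
    · rw [Equiv.Perm.mul_apply, g2_23, inv_fix τ23]
    · rw [Equiv.Perm.mul_apply, g2_0, inv_fix τ0]
    · rw [Equiv.Perm.mul_apply, g2_1, Equiv.Perm.inv_eq_iff_eq, τ1]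
    · rw [Equiv.Perm.mul_apply, g2_5, Equiv.Perm.inv_eq_iff_eq, τ5]
  obtain ⟨s, hs, hsK⟩ := m22G20_key _ hs'
  have hg2K : KTab g2 (kmul t s) := by
    have := hτ.mul hsK
    rwa [mul_inv_cancel_left] at this
  -- the stabiliser of the dodecad of squares contains `a` and `b`
  have hαQ : m22α ∈ MulAction.stabilizer (Equiv.Perm GolayPt) (ofMask sqMask) := m22α_smul
  have hβQ : m22β ∈ MulAction.stabilizer (Equiv.Perm GolayPt) (ofMask sqMask) := m22β_smul
  rcases m22tK_good t ht s hs with hQ | ⟨es, _, h7⟩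
  · left
    have hg2Q : g2 ∈ MulAction.stabilizer (Equiv.Perm GolayPt) (ofMask sqMask) := by
      rw [MulAction.mem_stabilizer_iff, hg2K.smul_ofMask, hQ]
    have e : g = (m22α ^ i)⁻¹ * (c⁻¹ * g2 * c) := by
      rw [hg2, hg1]; group
    have : g ∈ MulAction.stabilizer (Equiv.Perm GolayPt) (ofMask sqMask) := by
      rw [e]
      exact Subgroup.mul_mem _ (Subgroup.inv_mem _ (Subgroup.pow_mem _ hαQ _))
        (Subgroup.mul_mem _ (Subgroup.mul_mem _ (Subgroup.inv_mem _ (Subgroup.pow_mem _ hβQ _)) hg2Q)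
          (Subgroup.pow_mem _ hβQ _))
    exact this
  · right
    have hord := m22isOrd7_spec (m22wordPerm_tab hg2K es) h7
    have hmem := m22wordPerm_mem g2 es
    have hconj := closure_conj_mem m22α g1 c
      (m22β_pow_conj_mem k _ (Subgroup.mem_zpowers _)) _ hmem
    refine ⟨c⁻¹ * m22wordPerm g2 es * c, ?_, by rw [orderOf_conj_eq]; exact hord⟩
    have hle : Subgroup.closure ({m22α, g1} : Set (Equiv.Perm GolayPt)) ≤
        Subgroup.closure ({m22α, g} : Set (Equiv.Perm GolayPt)) := by
      rw [Subgroup.closure_le]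
      rintro z (rfl | hz)
      · exact Subgroup.subset_closure (by simp)
      · rw [Set.mem_singleton_iff.mp hz, hg1]
        exact Subgroup.mul_mem _ (Subgroup.pow_mem _ (Subgroup.subset_closure (by simp)) _)
          (Subgroup.subset_closure (by simp))
    exact hle hconj

end Cfsg.Agent.Helper91
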