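import Mathlib
import Cfsg.Agent.Lib.Helper65.Stem

/-!
# Stem extensions: reduction to kernels of prime exponent and the transfer criterion

* `pow_index_mem_commutator`: for a central element `a` of `Γ` lying in the commutator subgroup
  and in a subgroup `L`, `a ^ [Γ : L]` lies in `⁅L, L⁆` (transfer into the abelianization of `L`).
* `trivial_of_primes`: a finite group has trivial multiplier as soon as, for every prime `p`, every
  finite stem extension whose kernel has exponent `p` is trivial.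
-/

set_option autoImplicit false

namespace Cfsg.Agent.Helper91.StemRed

open Subgroup
open scoped commutatorElement

universe u

/-- Transfer: a central element of `Γ` in the commutator subgroup, lying in `L`, has its
`[Γ : L]`-th power in the commutator subgroup of `L`. -/
theorem pow_index_mem_commutator {Γ : Type*} [Group Γ] [Finite Γ] (L : Subgroup Γ) (a : Γ)
    (hac : a ∈ center Γ) (hacomm : a ∈ commutator Γ) (_haL : a ∈ L) :
    a ^ L.index ∈ ⁅L, L⁆ := by
  have key : ∀ (k : ℕ) (g₀ : Γ), g₀⁻¹ * a ^ k * g₀ ∈ L → g₀⁻¹ * a ^ k * g₀ = a ^ k := by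
    intro k g₀ _
    have hk : a ^ k ∈ center Γ := (center Γ).pow_mem hac k
    rw [mem_center_iff] at hk
    rw [mul_assoc, ← hk g₀, ← mul_assoc, inv_mul_cancel, one_mul]
  have h1 := MonoidHom.transfer_eq_pow (Abelianization.of : L →* Abelianization L) a key
  have h2 : MonoidHom.transfer (Abelianization.of : L →* Abelianization L) a = 1 := by
    have := Abelianization.commutator_subset_ker
      (MonoidHom.transfer (Abelianization.of : L →* Abelianization L))
    exact MonoidHom.mem_ker.1 (this hacomm)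
  rw [h2] at h1
  have h3 : (⟨a ^ L.index, MonoidHom.transfer_eq_pow_aux a key⟩ : L) ∈
      (Abelianization.of : L →* Abelianization L).ker := MonoidHom.mem_ker.2 h1.symm
  rw [Abelianization.ker_of] at h3
  rw [← Subgroup.map_subtype_commutator]
  exact ⟨_, h3, rfl⟩

/-- Transfer criterion for stem extensions. -/
theorem pow_index_eq_one {Γ G : Type*} [Group Γ] [Group G] [Finite Γ] (σ : Γ →* G)
    (hσ : Cfsg.IsStemExtension σ) (L : Subgroup Γ) (hAL : σ.ker ≤ L)
    (hL : ⁅L, L⁆ ⊓ σ.ker = ⊥) (a : Γ) (ha : a ∈ σ.ker) : a ^ L.index = 1 := by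
  have h := pow_index_mem_commutator L a (hσ.2.1 ha) (hσ.2.2 ha) (hAL ha)
  have h' : a ^ L.index ∈ ⁅L, L⁆ ⊓ σ.ker := ⟨h, σ.ker.pow_mem ha _⟩
  rw [hL, mem_bot] at h'
  exact h'

/-- Index form: if some `L ≥ ker σ` has index prime to `p`, `⁅L, L⁆ ⊓ ker σ = ⊥` and `ker σ` has
exponent `p`, then `ker σ = ⊥`. -/
theorem ker_eq_bot_of_index {Γ G : Type*} [Group Γ] [Group G] [Finite Γ] (σ : Γ →* G)
    (hσ : Cfsg.IsStemExtension σ) {p : ℕ} (hp : p.Prime) (hexp : ∀ a ∈ σ.ker, a ^ p = 1)
    (L : Subgroup Γ) (hAL : σ.ker ≤ L) (hL : ⁅L, L⁆ ⊓ σ.ker = ⊥) (hidx : ¬ p ∣ L.index) :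
    σ.ker = ⊥ := by
  rw [eq_bot_iff]
  intro a ha
  rw [mem_bot]
  have h1 := pow_index_eq_one σ hσ L hAL hL a ha
  have h2 := hexp a ha
  have hcop : Nat.Coprime L.index p := ((Nat.Prime.coprime_iff_not_dvd hp).2 hidx).symm
  have h3 : a ^ Nat.gcd L.index p = 1 := pow_gcd_eq_one.2 ⟨h1, h2⟩
  rw [hcop, pow_one] at h3
  exact h3

/-- The index of the full preimage of a subgroup under a surjection. -/
theorem index_comap_surj {Γ G : Type*} [Group Γ] [Group G] (σ : Γ →* G)
    (hs : Function.Surjective σ) (P : Subgroup G) : (P.comap σ).index = P.index :=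
  Subgroup.index_comap_of_surjective P hs

section Reduction

variable {Γ G : Type u} [Group Γ] [Group G]

/-- the subgroup of `p`-th powers of the (central) kernel -/
def powSub (σ : Γ →* G) (hcen : σ.ker ≤ center Γ) (p : ℕ) : Subgroup Γ where
  carrier := {b | ∃ a ∈ σ.ker, a ^ p = b}
  one_mem' := ⟨1, σ.ker.one_mem, one_pow p⟩
  mul_mem' := by
    rintro _ _ ⟨a, ha, rfl⟩ ⟨b, hb, rfl⟩
    refine ⟨a * b, σ.ker.mul_mem ha hb, ?_⟩
    have hab : Commute a b := by
      have := hcen ha
      rw [mem_center_iff] at this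
      exact (this b).symm
    exact hab.mul_pow p
  inv_mem' := by
    rintro _ ⟨a, ha, rfl⟩
    exact ⟨a⁻¹, σ.ker.inv_mem ha, inv_pow a p⟩

theorem powSub_le_ker (σ : Γ →* G) (hcen : σ.ker ≤ center Γ) (p : ℕ) :
    powSub σ hcen p ≤ σ.ker := by
  rintro _ ⟨a, ha, rfl⟩
  exact σ.ker.pow_mem ha p

theorem powSub_le_center (σ : Γ →* G) (hcen : σ.ker ≤ center Γ) (p : ℕ) :
    powSub σ hcen p ≤ center Γ := (powSub_le_ker σ hcen p).trans hcen

instance powSub_normal (σ : Γ →* G) (hcen : σ.ker ≤ center Γ) (p : ℕ) :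
    (powSub σ hcen p).Normal := by
  constructor
  intro n hn g
  have := powSub_le_center σ hcen p hn
  rw [mem_center_iff] at this
  rw [this g, mul_inv_cancel_right]
  exact hn

end Reduction

/-- **Reduction to prime exponent.** -/
theorem trivial_of_primes {G : Type u} [Group G] [Finite G]
    (h : ∀ p : ℕ, p.Prime → ∀ (Γ : Type u) [Group Γ] [Finite Γ] (σ : Γ →* G),
      Cfsg.IsStemExtension σ → (∀ a ∈ σ.ker, a ^ p = 1) → σ.ker = ⊥) :
    Cfsg.HasCyclicSchurMultiplier G 1 := by
  apply Cfsg.Agent.Helper65.trivial_multiplier_of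
  intro Γ _ _ σ hσ
  by_contra hne
  obtain ⟨hsurj, hcen, hcomm⟩ := hσ
  -- a prime dividing the order of the kernel
  have hcard : Nat.card σ.ker ≠ 1 := by
    intro h1
    exact hne ((Subgroup.card_eq_one).1 h1)
  obtain ⟨p, hp, hpd⟩ := Nat.exists_prime_and_dvd hcard
  have : Fact p.Prime := ⟨hp⟩
  obtain ⟨a0, ha0⟩ := exists_prime_orderOf_dvd_card' p hpd
  set B := powSub σ hcen p with hB
  have hBker : B ≤ σ.ker := powSub_le_ker σ hcen p
  let σ' : Γ ⧸ B →* G := QuotientGroup.lift B σ (fun b hb => MonoidHom.mem_ker.1 (hBker hb))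
  have hσ'mk : ∀ g : Γ, σ' (QuotientGroup.mk g) = σ g := fun g => rfl
  have hker' : ∀ x : Γ ⧸ B, x ∈ σ'.ker → ∃ a ∈ σ.ker, (QuotientGroup.mk a : Γ ⧸ B) = x := by
    intro x hx
    obtain ⟨g, rfl⟩ := QuotientGroup.mk_surjective x
    refine ⟨g, ?_, rfl⟩
    rw [MonoidHom.mem_ker] at hx ⊢
    rw [← hσ'mk]; exact hx
  have hstem : Cfsg.IsStemExtension σ' := by
    refine ⟨?_, ?_, ?_⟩
    · intro g
      obtain ⟨γ, rfl⟩ := hsurj g
      exact ⟨QuotientGroup.mk γ, rfl⟩
    · intro x hx
      obtain ⟨a, ha, rfl⟩ := hker' x hx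
      rw [mem_center_iff]
      intro y
      obtain ⟨g, rfl⟩ := QuotientGroup.mk_surjective y
      have := hcen ha
      rw [mem_center_iff] at this
      rw [← QuotientGroup.mk_mul, ← QuotientGroup.mk_mul, this g]
    · intro x hx
      obtain ⟨a, ha, rfl⟩ := hker' x hx
      have h1 : a ∈ commutator Γ := hcomm ha
      have h2 : (commutator Γ).map (QuotientGroup.mk' B) = commutator (Γ ⧸ B) := by
        rw [commutator_def, commutator_def, Subgroup.map_commutator]
        have htop : (⊤ : Subgroup Γ).map (QuotientGroup.mk' B) = ⊤ := by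
          rw [← MonoidHom.range_eq_map, MonoidHom.range_eq_top]
          exact QuotientGroup.mk'_surjective B
        rw [htop]
      rw [← h2]
      exact ⟨a, h1, rfl⟩
  have hexp : ∀ x ∈ σ'.ker, x ^ p = 1 := by
    intro x hx
    obtain ⟨a, ha, rfl⟩ := hker' x hx
    rw [← QuotientGroup.mk_pow, QuotientGroup.eq_one_iff]
    exact ⟨a, ha, rfl⟩
  have hbot := h p hp (Γ ⧸ B) σ' hstem hexp
  -- hence every element of the kernel is a `p`-th power of an element of the kernel
  have hpow : ∀ a ∈ σ.ker, ∃ b ∈ σ.ker, b ^ p = a := by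
    intro a ha
    have h1 : (QuotientGroup.mk a : Γ ⧸ B) ∈ σ'.ker := by
      rw [MonoidHom.mem_ker, hσ'mk]; exact MonoidHom.mem_ker.1 ha
    rw [hbot, mem_bot, QuotientGroup.eq_one_iff] at h1
    exact h1
  -- the `p`-th power map on the kernel is surjective, hence injective
  let f : σ.ker → σ.ker := fun a => a ^ p
  have hfs : Function.Surjective f := by
    intro a
    obtain ⟨b, hb, hba⟩ := hpow a a.2
    exact ⟨⟨b, hb⟩, Subtype.ext hba⟩
  have hfi : Function.Injective f := Finite.injective_iff_surjective.2 hfs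
  have h1 : f a0 = f 1 := by
    simp only [f, one_pow]
    rw [← ha0, pow_orderOf_eq_one]
  have h2 := hfi h1
  rw [h2, orderOf_one] at ha0
  exact hp.one_lt.ne ha0

end Cfsg.Agent.Helper91.StemRed
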