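import Mathlib
import Cfsg.Agent.Lib.Helper91.StemRed

/-!
# Local criteria killing the `p`-part of the kernel of a stem extension

General tools (`commutator_closure_le`, `comap_closure_le`) and the cases
* cyclic subgroup of index prime to `p` (`ker_eq_bot_of_zpowers`);
* `p = 3`, an extraspecial group `⟨x, y⟩` of order `27` inverted by an involution
  (`ker_eq_bot_three_extraspecial`);
* `p = 3`, an abelian group `⟨x, y⟩` with a "reflection" involution
  (`ker_eq_bot_three_abelian`).
-/

set_option autoImplicit false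

namespace Cfsg.Agent.Helper91.StemLocal

open Subgroup
open scoped commutatorElement

section General

variable {Γ G : Type*} [Group Γ] [Group G]

/-- If a subgroup `Z` is centralized by a generating set `T` and contains all commutators of
elements of `T`, it contains the commutator subgroup of `closure T`. -/
theorem commutator_closure_le (T : Set Γ) (Z : Subgroup Γ)
    (hcen : ∀ s ∈ T, ∀ w ∈ Z, s * w = w * s) (hcomm : ∀ s ∈ T, ∀ t ∈ T, ⁅s, t⁆ ∈ Z) :
    ⁅closure T, closure T⁆ ≤ Z := by
  have hC : closure T ≤ centralizer (Z : Set Γ) := by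
    rw [closure_le]
    intro s hs
    rw [SetLike.mem_coe, mem_centralizer_iff]
    intro w hw
    exact (hcen s hs w hw).symm
  have hC' : ∀ g ∈ closure T, ∀ w ∈ Z, g * w = w * g := by
    intro g hg w hw
    have := hC hg
    rw [mem_centralizer_iff] at this
    exact (this w hw).symm
  -- the elements whose commutator with a fixed `h` (centralizing `Z`) lies in `Z`
  have key : ∀ h : Γ, (∀ s ∈ T, ⁅s, h⁆ ∈ Z) → ∀ g ∈ closure T, ⁅g, h⁆ ∈ Z := by
    intro h hh g hg
    induction hg using closure_induction with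
    | mem s hs => exact hh s hs
    | one => rw [commutatorElement_one_left]; exact Z.one_mem
    | mul g1 g2 hg1 hg2 ih1 ih2 =>
      have e : ⁅g1 * g2, h⁆ = g1 * ⁅g2, h⁆ * g1⁻¹ * ⁅g1, h⁆ := by
        simp only [commutatorElement_def]; group
      rw [e, hC' g1 hg1 _ ih2, mul_inv_cancel_right]
      exact Z.mul_mem ih2 ih1
    | inv g hg ih =>
      have e : ⁅g⁻¹, h⁆ = g⁻¹ * ⁅g, h⁆⁻¹ * g := by
        simp only [commutatorElement_def]; group
      rw [e, mul_assoc, ← hC' g hg _ (Z.inv_mem ih), ← mul_assoc, inv_mul_cancel, one_mul]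
      exact Z.inv_mem ih
  rw [commutator_le]
  intro g hg h hh
  -- swap roles: `⁅g, h⁆ = ⁅h, g⁆⁻¹`
  have h1 : ∀ s ∈ T, ⁅s, g⁆ ∈ Z := by
    intro s hs
    have h2 : ⁅g, s⁆ ∈ Z := key s (fun s' hs' => hcomm s' hs' s hs) g hg
    rw [← commutatorElement_inv]
    exact Z.inv_mem h2
  have h3 := key g h1 h hh
  rw [← commutatorElement_inv]
  exact Z.inv_mem h3

/-- The full preimage of `closure (σ '' T)` is generated by `T` and the kernel. -/
theorem comap_closure_le (σ : Γ →* G) (T : Set Γ) :
    (closure (σ '' T)).comap σ ≤ closure T ⊔ σ.ker := by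
  intro γ hγ
  rw [mem_comap, ← MonoidHom.map_closure] at hγ
  obtain ⟨δ, hδ, hδγ⟩ := hγ
  have h1 : δ⁻¹ * γ ∈ σ.ker := by
    rw [MonoidHom.mem_ker, map_mul, map_inv, hδγ, inv_mul_cancel]
  have h2 : γ = δ * (δ⁻¹ * γ) := by group
  rw [h2]
  exact (closure T ⊔ σ.ker).mul_mem (mem_sup_left hδ) (mem_sup_right h1)

/-- `closure T ⊔ K` as a closure. -/
theorem closure_sup_eq (T : Set Γ) (K : Subgroup Γ) :
    closure T ⊔ K = closure (T ∪ (K : Set Γ)) := by
  rw [Subgroup.closure_union, closure_eq]

end General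

section Cases

variable {Γ G : Type*} [Group Γ] [Group G] [Finite Γ] (σ : Γ →* G)
  (hσ : Cfsg.IsStemExtension σ)
include hσ

/-- Generic form: `T` a set of elements of `Γ`, `Z` a subgroup centralized by `T` containing the
commutators of `T`, meeting the kernel trivially; the image of `T` generates a subgroup of index
prime to `p`. -/
theorem ker_eq_bot_of_generators {p : ℕ} (hp : p.Prime) (hexp : ∀ a ∈ σ.ker, a ^ p = 1)
    (T : Set Γ) (Z : Subgroup Γ) (hcen : ∀ s ∈ T, ∀ w ∈ Z, s * w = w * s)
    (hcomm : ∀ s ∈ T, ∀ t ∈ T, ⁅s, t⁆ ∈ Z) (hZ : Z ⊓ σ.ker = ⊥)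
    (hidx : ¬ p ∣ (closure (σ '' T)).index) : σ.ker = ⊥ := by
  obtain ⟨hsurj, hcen', hcomm''⟩ := hσ
  set L := (closure (σ '' T)).comap σ with hL
  have hAL : σ.ker ≤ L := by
    intro a ha
    rw [hL, mem_comap, MonoidHom.mem_ker.1 ha]
    exact one_mem _
  have hLle : L ≤ closure (T ∪ (σ.ker : Set Γ)) := by
    rw [← closure_sup_eq]
    exact comap_closure_le σ T
  have hcomm' : ⁅closure (T ∪ (σ.ker : Set Γ)), closure (T ∪ (σ.ker : Set Γ))⁆ ≤ Z := by
    apply commutator_closure_le
    · rintro s (hs | hs) w hw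
      · exact hcen s hs w hw
      · have := hcen' hs
        rw [mem_center_iff] at this
        exact (this w).symm
    · rintro s (hs | hs) t (ht | ht)
      · exact hcomm s hs t ht
      · have := hcen' ht
        rw [mem_center_iff] at this
        rw [commutatorElement_def, this s, mul_inv_cancel_right, mul_inv_cancel]
        exact Z.one_mem
      · have := hcen' hs
        rw [mem_center_iff] at this
        rw [commutatorElement_def, ← this t, mul_inv_cancel_right, mul_inv_cancel]
        exact Z.one_mem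
      · have := hcen' hs
        rw [mem_center_iff] at this
        rw [commutatorElement_def, ← this t, mul_inv_cancel_right, mul_inv_cancel]
        exact Z.one_mem
  have hLL : ⁅L, L⁆ ⊓ σ.ker = ⊥ := by
    rw [eq_bot_iff, ← hZ]
    exact inf_le_inf_right _ ((commutator_mono hLle hLle).trans hcomm')
  apply StemRed.ker_eq_bot_of_index σ ⟨hsurj, hcen', hcomm''⟩ hp hexp L hAL hLL
  rw [hL, Subgroup.index_comap_of_surjective _ hsurj]
  exact hidx

/-- Cyclic subgroup of index prime to `p`. -/
theorem ker_eq_bot_of_zpowers {p : ℕ} (hp : p.Prime) (hexp : ∀ a ∈ σ.ker, a ^ p = 1)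
    (g : G) (hidx : ¬ p ∣ (zpowers g).index) : σ.ker = ⊥ := by
  obtain ⟨γ, rfl⟩ := hσ.1 g
  apply ker_eq_bot_of_generators σ hσ hp hexp {γ} ⊥
  · intro s _ w hw
    rw [mem_bot] at hw
    rw [hw, mul_one, one_mul]
  · intro s hs t ht
    rw [Set.mem_singleton_iff] at hs ht
    rw [hs, ht, commutatorElement_self]
    exact one_mem _
  · exact bot_inf_eq _
  · rw [Set.image_singleton, ← zpowers_eq_closure]
    exact hidx

/-- A prime whose square does not divide the order of `G` does not divide the order of the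
kernel. -/
theorem ker_eq_bot_of_not_sq_dvd {p : ℕ} (hp : p.Prime) (hexp : ∀ a ∈ σ.ker, a ^ p = 1)
    (h : ¬ p ^ 2 ∣ Nat.card G) : σ.ker = ⊥ := by
  have : Finite G := Finite.of_surjective σ hσ.1
  by_cases hd : p ∣ Nat.card G
  · have := Fact.mk hp
    obtain ⟨g, hg⟩ := exists_prime_orderOf_dvd_card' p hd
    apply ker_eq_bot_of_zpowers σ hσ hp hexp g
    intro hdiv
    apply h
    have h1 := Subgroup.index_mul_card (zpowers g)
    rw [Nat.card_zpowers, hg] at h1
    rw [← h1, pow_two]
    exact Nat.mul_dvd_mul_right hdiv p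
  · apply ker_eq_bot_of_zpowers σ hσ hp hexp 1
    rw [zpowers_one_eq_bot, index_bot]
    exact hd

end Cases

/-- The index of an overgroup of a subgroup of known order. -/
theorem not_dvd_index_of_le {G : Type*} [Group G] {P K : Subgroup G} (hPK : P ≤ K) {p n m : ℕ}
    (hP : Nat.card P = m) (hG : Nat.card G = n) (hm : 0 < m) (h : ¬ p ∣ n / m) :
    ¬ p ∣ K.index := by
  intro hd
  apply h
  have h1 := Subgroup.index_mul_card P
  rw [hP, hG] at h1
  have h2 : n / m = P.index := Nat.div_eq_of_eq_mul_left hm h1.symm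
  rw [h2]
  exact hd.trans (Subgroup.index_dvd_of_le hPK)

end Cfsg.Agent.Helper91.StemLocal
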