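import Mathlib
import Cfsg.Agent.Lib.Helper91.StemLocal

/-!
# The prime `3`: two local criteria for stem extensions
-/

set_option autoImplicit false

namespace Cfsg.Agent.Helper91.StemThree

open Subgroup
open scoped commutatorElement

section Central

variable {Γ : Type*} [Group Γ]

theorem central_comm {a : Γ} (ha : a ∈ center Γ) (g : Γ) : a * g = g * a :=
  ((mem_center_iff.1 ha) g).symm

/-- conjugation by `g * a`, `a` central -/
theorem conj_mul_central {a : Γ} (ha : a ∈ center Γ) (g k : Γ) :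
    (g * a) * k * (g * a)⁻¹ = g * k * g⁻¹ := by
  have h := central_comm ha k
  calc (g * a) * k * (g * a)⁻¹ = g * (a * k) * a⁻¹ * g⁻¹ := by group
    _ = g * (k * a) * a⁻¹ * g⁻¹ := by rw [h]
    _ = g * k * g⁻¹ := by group

theorem conj_central {a : Γ} (ha : a ∈ center Γ) (g : Γ) : g * a * g⁻¹ = a := by
  rw [← central_comm ha g, mul_inv_cancel_right]

theorem comm_mul_central {a b : Γ} (ha : a ∈ center Γ) (hb : b ∈ center Γ) (g h : Γ) :
    ⁅g * a, h * b⁆ = ⁅g, h⁆ := by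
  rw [commutatorElement_def, conj_mul_central ha, commutatorElement_def]
  have h1 := conj_central hb g
  calc g * (h * b) * g⁻¹ * (h * b)⁻¹ = g * h * g⁻¹ * (g * b * g⁻¹) * b⁻¹ * h⁻¹ := by group
    _ = g * h * g⁻¹ * b * b⁻¹ * h⁻¹ := by rw [h1]
    _ = g * h * g⁻¹ * h⁻¹ := by group

theorem comm_central_right {a : Γ} (ha : a ∈ center Γ) (g : Γ) : ⁅g, a⁆ = 1 := by
  rw [commutatorElement_def, conj_central ha, mul_inv_cancel]

theorem comm_central_left {a : Γ} (ha : a ∈ center Γ) (g : Γ) : ⁅a, g⁆ = 1 := by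
  rw [← commutatorElement_inv, comm_central_right ha, inv_one]

/-- `⁅g, h⁻¹⁆ = ⁅g, h⁆⁻¹` when `⁅g, h⁆` is central -/
theorem comm_inv_right_of_central {g h : Γ} (hc : ⁅g, h⁆ ∈ center Γ) : ⁅g, h⁻¹⁆ = ⁅g, h⁆⁻¹ := by
  have e : ⁅g, h⁻¹⁆ = h⁻¹ * ⁅g, h⁆⁻¹ * h := by
    simp only [commutatorElement_def]; group
  have h1 := conj_central ((center Γ).inv_mem hc) h⁻¹
  rw [inv_inv] at h1
  rw [e, h1]

/-- `⁅g⁻¹, h⁆ = ⁅g, h⁆⁻¹` when `⁅g, h⁆` is central -/
theorem comm_inv_left_of_central {g h : Γ} (hc : ⁅g, h⁆ ∈ center Γ) : ⁅g⁻¹, h⁆ = ⁅g, h⁆⁻¹ := by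
  have e : ⁅g⁻¹, h⁆ = g⁻¹ * ⁅g, h⁆⁻¹ * g := by
    simp only [commutatorElement_def]; group
  have h1 := conj_central ((center Γ).inv_mem hc) g⁻¹
  rw [inv_inv] at h1
  rw [e, h1]

/-- an element with `e ^ 2 = 1` and `e ^ 3 = 1` is trivial -/
theorem eq_one_of_sq_cube {e : Γ} (h2 : e ^ 2 = 1) (h3 : e ^ 3 = 1) : e = 1 := by
  have : e ^ 3 = e ^ 2 * e := pow_succ e 2
  rw [h3, h2, one_mul] at this
  exact this.symm

end Central

section Abelian

variable {Γ G : Type*} [Group Γ] [Group G] [Finite Γ] (σ : Γ →* G)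
  (hσ : Cfsg.IsStemExtension σ)
include hσ

/-- `p = 3`: `⟨x, y⟩` abelian of index prime to `3`, with an element `u` centralizing `x` and
inverting `y`. -/
theorem ker_eq_bot_three_abelian (hexp : ∀ a ∈ σ.ker, a ^ 3 = 1) (x y u : G)
    (hxy : x * y = y * x) (hux : u * x * u⁻¹ = x) (huy : u * y * u⁻¹ = y⁻¹)
    (hidx : ¬ 3 ∣ (closure ({x, y} : Set G)).index) : σ.ker = ⊥ := by
  obtain ⟨x', rfl⟩ := hσ.1 x
  obtain ⟨y', rfl⟩ := hσ.1 y
  obtain ⟨u', rfl⟩ := hσ.1 u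
  have hcen := hσ.2.1
  have hz : ⁅x', y'⁆ ∈ σ.ker := by
    rw [MonoidHom.mem_ker, map_commutatorElement, commutatorElement_def, hxy]; group
  have hzc : ⁅x', y'⁆ ∈ center Γ := hcen hz
  -- the central correction terms
  have ha1 : x'⁻¹ * (u' * x' * u'⁻¹) ∈ σ.ker := by
    rw [MonoidHom.mem_ker]
    simp only [map_mul, map_inv]
    rw [hux, inv_mul_cancel]
  have ha2 : y' * (u' * y' * u'⁻¹) ∈ σ.ker := by
    rw [MonoidHom.mem_ker]
    simp only [map_mul, map_inv]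
    rw [huy, mul_inv_cancel]
  have e1 : u' * x' * u'⁻¹ = x' * (x'⁻¹ * (u' * x' * u'⁻¹)) := by group
  have e2 : u' * y' * u'⁻¹ = y'⁻¹ * (y' * (u' * y' * u'⁻¹)) := by group
  have h1 : u' * ⁅x', y'⁆ * u'⁻¹ = ⁅u' * x' * u'⁻¹, u' * y' * u'⁻¹⁆ := by
    simp only [commutatorElement_def]; group
  rw [conj_central hzc, e1, e2, comm_mul_central (hcen ha1) (hcen ha2),
    comm_inv_right_of_central hzc] at h1
  have hz2 : ⁅x', y'⁆ ^ 2 = 1 := by
    rw [pow_two]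
    nth_rewrite 1 [h1]
    exact inv_mul_cancel _
  have hz1 : ⁅x', y'⁆ = 1 := eq_one_of_sq_cube hz2 (hexp _ hz)
  apply StemLocal.ker_eq_bot_of_generators σ hσ Nat.prime_three hexp {x', y'} ⊥
  · intro s _ w hw
    rw [mem_bot] at hw
    rw [hw, mul_one, one_mul]
  · intro s hs t ht
    rw [mem_bot]
    rcases hs with rfl | hs <;> rcases ht with rfl | ht
    · exact commutatorElement_self _
    · rw [Set.mem_singleton_iff] at ht; rw [ht]; exact hz1
    · rw [Set.mem_singleton_iff] at hs; rw [hs, ← commutatorElement_inv, hz1, inv_one]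
    · rw [Set.mem_singleton_iff] at hs ht; rw [hs, ht]; exact commutatorElement_self _
  · exact bot_inf_eq _
  · rw [Set.image_pair]
    exact hidx

end Abelian

section Extraspecial

variable {Γ G : Type*} [Group Γ] [Group G]

/-- powers on the left of a commutator, when the commutator commutes with the base -/
theorem comm_pow_left {g h : Γ} (hc : Commute ⁅g, h⁆ g) (n : ℕ) : ⁅g ^ n, h⁆ = ⁅g, h⁆ ^ n := by
  induction n with
  | zero => rw [pow_zero, pow_zero, commutatorElement_one_left]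
  | succ n ih =>
    have e : ⁅g ^ (n + 1), h⁆ = g * ⁅g ^ n, h⁆ * g⁻¹ * ⁅g, h⁆ := by
      rw [pow_succ']
      simp only [commutatorElement_def]; group
    have hc' : Commute (⁅g, h⁆ ^ n) g := hc.pow_left n
    rw [e, ih, ← hc'.eq, mul_inv_cancel_right, pow_succ]

/-- in `G`: if `z = ⁅x, y⁆` commutes with `x` and `y` then `⁅x⁻¹, y⁻¹⁆ = z` -/
theorem comm_inv_inv {x y : G} (hzx : Commute ⁅x, y⁆ x) (hzy : Commute ⁅x, y⁆ y) :
    ⁅x⁻¹, y⁻¹⁆ = ⁅x, y⁆ := by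
  have h1 : Commute ⁅x, y⁆ (x⁻¹ * y⁻¹) := (hzx.inv_right).mul_right (hzy.inv_right)
  have e1 : ⁅x⁻¹, y⁻¹⁆ = (x⁻¹ * y⁻¹) * ⁅x, y⁆ * (y * x) := by
    simp only [commutatorElement_def]; group
  rw [e1, ← h1.eq]
  group

variable [Finite Γ] (σ : Γ →* G) (hσ : Cfsg.IsStemExtension σ)
include hσ

/-- `p = 3`: `x`, `y` of order `3` with `⁅x, y⁆ ≠ 1` commuting with both, inverted by an
involution `t`, generating a subgroup of index prime to `3`. -/
theorem ker_eq_bot_three_extraspecial (hexp : ∀ a ∈ σ.ker, a ^ 3 = 1) (x y t : G)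
    (hx3 : x ^ 3 = 1) (hy3 : y ^ 3 = 1) (ht2 : t * t = 1)
    (htx : t * x * t⁻¹ = x⁻¹) (hty : t * y * t⁻¹ = y⁻¹)
    (hzx : Commute ⁅x, y⁆ x) (hzy : Commute ⁅x, y⁆ y) (hz1 : ⁅x, y⁆ ≠ 1)
    (hidx : ¬ 3 ∣ (closure ({x, y} : Set G)).index) : σ.ker = ⊥ := by
  obtain ⟨u, hu⟩ := hσ.1 x
  obtain ⟨v, hv⟩ := hσ.1 y
  obtain ⟨τ0, hτ0⟩ := hσ.1 t
  have hcen := hσ.2.1
  -- an involution lifting `t`
  set τ := τ0 ^ 3 with hτdef
  have htinv : t⁻¹ = t := inv_eq_of_mul_eq_one_left ht2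
  have hστ : σ τ = t := by
    rw [hτdef, map_pow, hτ0, pow_succ, pow_two, ht2, one_mul]
  have hτ2 : τ * τ = 1 := by
    have h1 : τ0 ^ 2 ∈ σ.ker := by
      rw [MonoidHom.mem_ker, map_pow, hτ0, pow_two, ht2]
    have h2 := hexp _ h1
    rw [hτdef, ← pow_add]
    rw [← pow_mul] at h2
    exact h2
  have hτinv : τ⁻¹ = τ := inv_eq_of_mul_eq_one_left hτ2
  -- lifts inverted by `τ`
  have key : ∀ (w : Γ) (g : G), σ w = g → g ^ 3 = 1 → t * g * t⁻¹ = g⁻¹ →
      ∃ w' : Γ, σ w' = g ∧ τ * w' * τ⁻¹ = w'⁻¹ ∧ w' ^ 3 = 1 := by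
    intro w g hw hg3 htg
    refine ⟨w⁻¹ * (τ * w * τ⁻¹), ?_, ?_, ?_⟩
    · simp only [map_mul, map_inv, hw, hστ]
      rw [htg]
      have : g ^ 3 = g * (g * g) := by rw [pow_succ', pow_two]
      rw [this] at hg3
      calc g⁻¹ * g⁻¹ = g⁻¹ * g⁻¹ * (g * (g * g)) := by rw [hg3, mul_one]
        _ = g := by group
    · rw [hτinv]
      calc τ * (w⁻¹ * (τ * w * τ)) * τ = τ * w⁻¹ * τ * w * (τ * τ) := by group
        _ = τ * w⁻¹ * τ * w := by rw [hτ2, mul_one]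
        _ = (w⁻¹ * (τ * w * τ))⁻¹ := by
          have : (w⁻¹ * (τ * w * τ))⁻¹ = τ⁻¹ * w⁻¹ * τ⁻¹ * w := by group
          rw [this, hτinv]
    · set w' := w⁻¹ * (τ * w * τ⁻¹) with hw'
      have hinv : τ * w' * τ⁻¹ = w'⁻¹ := by
        rw [hw', hτinv]
        calc τ * (w⁻¹ * (τ * w * τ)) * τ = τ * w⁻¹ * τ * w * (τ * τ) := by group
          _ = τ * w⁻¹ * τ * w := by rw [hτ2, mul_one]
          _ = (w⁻¹ * (τ * w * τ))⁻¹ := by
            have : (w⁻¹ * (τ * w * τ))⁻¹ = τ⁻¹ * w⁻¹ * τ⁻¹ * w := by group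
            rw [this, hτinv]
      have hσw' : σ w' = g := by
        rw [hw']
        simp only [map_mul, map_inv, hw, hστ]
        rw [htg]
        have : g ^ 3 = g * (g * g) := by rw [pow_succ', pow_two]
        rw [this] at hg3
        calc g⁻¹ * g⁻¹ = g⁻¹ * g⁻¹ * (g * (g * g)) := by rw [hg3, mul_one]
          _ = g := by group
      have h3k : w' ^ 3 ∈ σ.ker := by
        rw [MonoidHom.mem_ker, map_pow, hσw', hg3]
      have h3c := hcen h3k
      have e1 : τ * w' ^ 3 * τ⁻¹ = (w' ^ 3)⁻¹ := by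
        have : τ * w' ^ 3 * τ⁻¹ = (τ * w' * τ⁻¹) ^ 3 := by
          simp only [pow_succ, pow_zero, one_mul]; group
        rw [this, hinv, inv_pow]
      rw [conj_central h3c] at e1
      have h2 : (w' ^ 3) ^ 2 = 1 := by
        rw [pow_two]
        nth_rewrite 1 [e1]
        exact inv_mul_cancel _
      exact eq_one_of_sq_cube h2 (hexp _ h3k)
  obtain ⟨x', hσx, hxinv, hx'3⟩ := key u x hu hx3 htx
  obtain ⟨y', hσy, hyinv, hy'3⟩ := key v y hv hy3 hty
  set z' := ⁅x', y'⁆ with hz'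
  have hσz : σ z' = ⁅x, y⁆ := by rw [hz', map_commutatorElement, hσx, hσy]
  -- `τ z' τ⁻¹ = z' * a'` with `a'` in the kernel
  have hτz : τ * z' * τ⁻¹ = ⁅x'⁻¹, y'⁻¹⁆ := by
    rw [← hxinv, ← hyinv, hz']
    simp only [commutatorElement_def]; group
  have ha' : z'⁻¹ * ⁅x'⁻¹, y'⁻¹⁆ ∈ σ.ker := by
    rw [MonoidHom.mem_ker, map_mul, map_inv, hσz, map_commutatorElement, map_inv, map_inv, hσx,
      hσy, comm_inv_inv hzx hzy, inv_mul_cancel]
  have hτz' : τ * z' * τ⁻¹ = z' * (z'⁻¹ * ⁅x'⁻¹, y'⁻¹⁆) := by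
    rw [hτz]; group
  -- `z'` commutes with `x'` and `y'`
  have comm_key : ∀ (w : Γ) (g : G), σ w = g → Commute ⁅x, y⁆ g → τ * w * τ⁻¹ = w⁻¹ →
      Commute z' w := by
    intro w g hw hcg hwinv
    have hb : ⁅z', w⁆ ∈ σ.ker := by
      rw [MonoidHom.mem_ker, map_commutatorElement, hσz, hw, commutatorElement_def, hcg.eq]
      group
    have hbc := hcen hb
    have e1 : τ * ⁅z', w⁆ * τ⁻¹ = ⁅τ * z' * τ⁻¹, τ * w * τ⁻¹⁆ := by
      simp only [commutatorElement_def]; group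
    have e2 : ⁅z' * (z'⁻¹ * ⁅x'⁻¹, y'⁻¹⁆), w⁻¹ * 1⁆ = ⁅z', w⁻¹⁆ :=
      comm_mul_central (hcen ha') (center Γ).one_mem z' w⁻¹
    rw [mul_one] at e2
    rw [conj_central hbc, hτz', hwinv, e2, comm_inv_right_of_central hbc] at e1
    have h2 : ⁅z', w⁆ ^ 2 = 1 := by
      rw [pow_two]
      nth_rewrite 1 [e1]
      exact inv_mul_cancel _
    have h1 : ⁅z', w⁆ = 1 := eq_one_of_sq_cube h2 (hexp _ hb)
    exact commutatorElement_eq_one_iff_commute.1 h1
  have hcx : Commute z' x' := comm_key x' x hσx hzx hxinv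
  have hcy : Commute z' y' := comm_key y' y hσy hzy hyinv
  have hz'3 : z' ^ 3 = 1 := by
    rw [hz', ← comm_pow_left hcx 3, hx'3, commutatorElement_one_left]
  -- order of `⁅x, y⁆`
  have hord : orderOf ⁅x, y⁆ = 3 := by
    apply orderOf_eq_prime
    · rw [← hσz, ← map_pow, hz'3, map_one]
    · exact hz1
  apply StemLocal.ker_eq_bot_of_generators σ hσ Nat.prime_three hexp {x', y'} (zpowers z')
  · intro s hs w hw
    obtain ⟨k, rfl⟩ := mem_zpowers_iff.1 hw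
    rcases hs with rfl | hs
    · exact ((hcx.zpow_left k).eq).symm
    · rw [Set.mem_singleton_iff] at hs
      rw [hs]
      exact ((hcy.zpow_left k).eq).symm
  · intro s hs t' ht'
    rcases hs with rfl | hs <;> rcases ht' with rfl | ht'
    · rw [commutatorElement_self]; exact one_mem _
    · rw [Set.mem_singleton_iff] at ht'; rw [ht']; exact mem_zpowers z'
    · rw [Set.mem_singleton_iff] at hs
      rw [hs, ← commutatorElement_inv]
      exact (zpowers z').inv_mem (mem_zpowers z')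
    · rw [Set.mem_singleton_iff] at hs ht'; rw [hs, ht', commutatorElement_self]; exact one_mem _
  · rw [eq_bot_iff]
    rintro w ⟨hw1, hw2⟩
    obtain ⟨k, rfl⟩ := mem_zpowers_iff.1 hw1
    rw [mem_bot]
    have h1 : ⁅x, y⁆ ^ k = 1 := by
      have := MonoidHom.mem_ker.1 hw2
      rw [map_zpow, hσz] at this
      exact this
    have h2 : (orderOf ⁅x, y⁆ : ℤ) ∣ k := orderOf_dvd_iff_zpow_eq_one.2 h1
    rw [hord] at h2
    obtain ⟨m, rfl⟩ := h2
    rw [zpow_mul]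
    have : z' ^ ((3 : ℕ) : ℤ) = 1 := by rw [zpow_natCast, hz'3]
    rw [this, one_zpow]
  · rw [Set.image_pair, hσx, hσy]
    exact hidx

end Extraspecial

end Cfsg.Agent.Helper91.StemThree
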