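import Mathlib
import Cfsg.Agent.Lib.Helper91.StemThree

/-!
# The prime `2`, part one: involutions lift to involutions

For a central extension `σ : Γ → G` whose kernel has exponent `2`, the square of a lift of an
involution of `G` depends only on the `G`-class of the involution; on an elementary abelian
subgroup of rank `3` it is a "quadratic form", which forces the product of the seven squares to
be `1`.  Hence a class containing all involutions of some `2³` lifts to involutions.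
-/

set_option autoImplicit false

namespace Cfsg.Agent.Helper91.StemTwo

open Subgroup
open scoped commutatorElement
open Cfsg.Agent.Helper91.StemThree

variable {Γ G : Type*} [Group Γ] [Group G] (σ : Γ →* G)

/-- two lifts of the same element have the same square -/
theorem sq_lift_unique (hcen : σ.ker ≤ center Γ) (hexp : ∀ a ∈ σ.ker, a * a = 1)
    {γ δ : Γ} (h : σ γ = σ δ) : γ * γ = δ * δ := by
  have ha : δ⁻¹ * γ ∈ σ.ker := by
    rw [MonoidHom.mem_ker, map_mul, map_inv, h, inv_mul_cancel]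
  have hc := hcen ha
  have h1 : γ = δ * (δ⁻¹ * γ) := by group
  have h2 := central_comm hc δ
  calc γ * γ = δ * (δ⁻¹ * γ) * (δ * (δ⁻¹ * γ)) := by rw [← h1]
    _ = δ * ((δ⁻¹ * γ) * δ) * (δ⁻¹ * γ) := by group
    _ = δ * (δ * (δ⁻¹ * γ)) * (δ⁻¹ * γ) := by rw [h2]
    _ = δ * δ * ((δ⁻¹ * γ) * (δ⁻¹ * γ)) := by group
    _ = δ * δ := by rw [hexp _ ha, mul_one]

/-- lifts of conjugate elements have the same square, when that square is central -/
theorem sq_lift_conj (hsurj : Function.Surjective σ) (hcen : σ.ker ≤ center Γ)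
    (hexp : ∀ a ∈ σ.ker, a * a = 1) {γ δ : Γ} {g : G} (hδ : δ * δ ∈ σ.ker)
    (h : σ γ = g * σ δ * g⁻¹) : γ * γ = δ * δ := by
  obtain ⟨η, rfl⟩ := hsurj g
  have h1 : σ γ = σ (η * δ * η⁻¹) := by rw [h, map_mul, map_mul, map_inv]
  rw [sq_lift_unique σ hcen hexp h1]
  have h2 := conj_central (hcen hδ) η
  calc η * δ * η⁻¹ * (η * δ * η⁻¹) = η * (δ * δ) * η⁻¹ := by group
    _ = δ * δ := h2

/-- the square of a product, for a central commutator of order at most `2` -/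
theorem sq_mul {g h : Γ} (hc : ⁅g, h⁆ ∈ center Γ) (h2 : ⁅g, h⁆ * ⁅g, h⁆ = 1) :
    (g * h) * (g * h) = ⁅g, h⁆ * (g * g) * (h * h) := by
  have hinv : ⁅g, h⁆⁻¹ = ⁅g, h⁆ := inv_eq_of_mul_eq_one_left h2
  have e1 : h * g = ⁅g, h⁆⁻¹ * (g * h) := by
    simp only [commutatorElement_def]; group
  rw [hinv] at e1
  have h3 := central_comm hc g
  calc (g * h) * (g * h) = g * (h * g) * h := by group
    _ = g * (⁅g, h⁆ * (g * h)) * h := by rw [e1]
    _ = (g * ⁅g, h⁆) * (g * h) * h := by group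
    _ = (⁅g, h⁆ * g) * (g * h) * h := by rw [h3]
    _ = ⁅g, h⁆ * (g * g) * (h * h) := by group

/-- an identity in a commutative group of exponent two -/
theorem seven_comm {C : Type*} [CommGroup C] (X Y W a b c : C) (hX : X * X = 1) (hY : Y * Y = 1)
    (hW : W * W = 1) (ha : a * a = 1) (hb : b * b = 1) (hc : c * c = 1) :
    X * Y * W * (a * X * Y) * (b * X * W) * (c * Y * W) * ((c * b) * (a * X * Y) * W) = 1 := by
  calc X * Y * W * (a * X * Y) * (b * X * W) * (c * Y * W) * ((c * b) * (a * X * Y) * W)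
      = (X * X) * (X * X) * ((Y * Y) * (Y * Y)) * ((W * W) * (W * W)) * (a * a) * (b * b) *
          (c * c) := by ac_rfl
    _ = 1 := by rw [hX, hY, hW, ha, hb, hc]; simp

open scoped IsMulCommutative in
/-- **The seven-square identity.** -/
theorem seven (hcen : σ.ker ≤ center Γ) (hexp : ∀ a ∈ σ.ker, a * a = 1) (x y w : Γ)
    (hx : x * x ∈ σ.ker) (hy : y * y ∈ σ.ker) (hw : w * w ∈ σ.ker)
    (hxy : ⁅x, y⁆ ∈ σ.ker) (hxw : ⁅x, w⁆ ∈ σ.ker) (hyw : ⁅y, w⁆ ∈ σ.ker) :
    (x * x) * (y * y) * (w * w) * ((x * y) * (x * y)) * ((x * w) * (x * w)) *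
      ((y * w) * (y * w)) * ((x * y * w) * (x * y * w)) = 1 := by
  have e1 := sq_mul (hcen hxy) (hexp _ hxy)
  have e2 := sq_mul (hcen hxw) (hexp _ hxw)
  have e3 := sq_mul (hcen hyw) (hexp _ hyw)
  -- the commutator `⁅x * y, w⁆`
  have e4 : ⁅x * y, w⁆ = ⁅y, w⁆ * ⁅x, w⁆ := by
    have : ⁅x * y, w⁆ = x * ⁅y, w⁆ * x⁻¹ * ⁅x, w⁆ := by
      simp only [commutatorElement_def]; group
    rw [this, conj_central (hcen hyw)]
  have h4k : ⁅x * y, w⁆ ∈ σ.ker := by rw [e4]; exact σ.ker.mul_mem hyw hxw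
  have e5 := sq_mul (hcen h4k) (hexp _ h4k)
  rw [e1, e2, e3, e5, e4, e1]
  -- now everything is central: compute in the centre
  let X : center Γ := ⟨x * x, hcen hx⟩
  let Y : center Γ := ⟨y * y, hcen hy⟩
  let W : center Γ := ⟨w * w, hcen hw⟩
  let a : center Γ := ⟨⁅x, y⁆, hcen hxy⟩
  let b : center Γ := ⟨⁅x, w⁆, hcen hxw⟩
  let c : center Γ := ⟨⁅y, w⁆, hcen hyw⟩
  have key := seven_comm X Y W a b c (Subtype.ext (hexp _ hx)) (Subtype.ext (hexp _ hy))
    (Subtype.ext (hexp _ hw)) (Subtype.ext (hexp _ hxy)) (Subtype.ext (hexp _ hxw))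
    (Subtype.ext (hexp _ hyw))
  have := congrArg Subtype.val key
  simpa [X, Y, W, a, b, c, mul_assoc] using this

/-- **Star lemma.** If all seven involutions of an elementary abelian `2³ = ⟨x, y, w⟩ ≤ G` are
conjugate to `t`, then every lift of `t` is an involution (or trivial). -/
theorem star (hsurj : Function.Surjective σ) (hcen : σ.ker ≤ center Γ)
    (hexp : ∀ a ∈ σ.ker, a * a = 1) (t x y w : G) (ht : t * t = 1)
    (hxy : x * y = y * x) (hxw : x * w = w * x) (hyw : y * w = w * y)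
    (c1 : ∃ g, x = g * t * g⁻¹) (c2 : ∃ g, y = g * t * g⁻¹) (c3 : ∃ g, w = g * t * g⁻¹)
    (c4 : ∃ g, x * y = g * t * g⁻¹) (c5 : ∃ g, x * w = g * t * g⁻¹)
    (c6 : ∃ g, y * w = g * t * g⁻¹) (c7 : ∃ g, x * y * w = g * t * g⁻¹)
    (τ : Γ) (hτ : σ τ = t) : τ * τ = 1 := by
  obtain ⟨x', rfl⟩ := hsurj x
  obtain ⟨y', rfl⟩ := hsurj y
  obtain ⟨w', rfl⟩ := hsurj w
  have hτk : τ * τ ∈ σ.ker := by rw [MonoidHom.mem_ker, map_mul, hτ, ht]
  have sq : ∀ (γ : Γ), (∃ g, σ γ = g * t * g⁻¹) → γ * γ = τ * τ := by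
    rintro γ ⟨g, hg⟩
    rw [← hτ] at hg
    exact sq_lift_conj σ hsurj hcen hexp hτk hg
  have s1 := sq x' c1
  have s2 := sq y' c2
  have s3 := sq w' c3
  have s4 := sq (x' * y') (by simpa using c4)
  have s5 := sq (x' * w') (by simpa using c5)
  have s6 := sq (y' * w') (by simpa using c6)
  have s7 := sq (x' * y' * w') (by simpa using c7)
  have k1 : x' * x' ∈ σ.ker := by rw [s1]; exact hτk
  have k2 : y' * y' ∈ σ.ker := by rw [s2]; exact hτk
  have k3 : w' * w' ∈ σ.ker := by rw [s3]; exact hτk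
  have kc : ∀ g h : Γ, σ g * σ h = σ h * σ g → ⁅g, h⁆ ∈ σ.ker := by
    intro g h hgh
    rw [MonoidHom.mem_ker, map_commutatorElement, commutatorElement_def, hgh]; group
  have h7 := seven σ hcen hexp x' y' w' k1 k2 k3 (kc _ _ hxy) (kc _ _ hxw) (kc _ _ hyw)
  rw [s1, s2, s3, s4, s5, s6, s7] at h7
  have h2 := hexp _ hτk
  -- `Ω ^ 7 = 1` and `Ω ^ 2 = 1`
  calc τ * τ = (τ * τ) * ((τ * τ) * (τ * τ)) * ((τ * τ) * (τ * τ)) * ((τ * τ) * (τ * τ)) := by
        rw [h2, mul_one, mul_one, mul_one]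
    _ = (τ * τ) * (τ * τ) * (τ * τ) * (τ * τ) * (τ * τ) * (τ * τ) * (τ * τ) := by group
    _ = 1 := h7

end Cfsg.Agent.Helper91.StemTwo
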