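import Mathlib
import Cfsg.Agent.Lib.Helper91.StemTwo

/-!
# The prime `2`, part two: the norm retraction

`Qt` is a subgroup of `Γ` of exponent `2` containing the central kernel `A`, `ζ` an element of
order `3` normalizing `Qt` whose fixed points on `Qt` lie in `A`.  Then
`norm γ = γ · γ^ζ · γ^(ζ²)` is a retraction of `Qt` onto `A`, and its kernel `Q1` is a complement
to `A` in `Qt`, invariant under every element normalizing `Qt` and `Qt⟨ζ⟩`.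
-/

set_option autoImplicit false

namespace Cfsg.Agent.Helper91.StemNorm

open Subgroup
open scoped commutatorElement
open Cfsg.Agent.Helper91.StemThree

variable {Γ : Type*} [Group Γ] (A Qt : Subgroup Γ) (ζ : Γ)

/-- the norm of `γ` under the cyclic group generated by `ζ` (of order three) -/
def norm (γ : Γ) : Γ := γ * (ζ * γ * ζ⁻¹) * (ζ * (ζ * γ * ζ⁻¹) * ζ⁻¹)

variable (hcen : A ≤ center Γ) (hexp : ∀ a ∈ A, a * a = 1) (hAQ : A ≤ Qt)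
  (hsq : ∀ γ ∈ Qt, γ * γ = 1) (hζ3 : ζ ^ 3 = 1) (hζQ : ∀ γ ∈ Qt, ζ * γ * ζ⁻¹ ∈ Qt)
  (hfix : ∀ γ ∈ Qt, ζ * γ * ζ⁻¹ = γ → γ ∈ A)

include hsq in
theorem inv_eq_self {γ : Γ} (hγ : γ ∈ Qt) : γ⁻¹ = γ := inv_eq_of_mul_eq_one_left (hsq γ hγ)

include hsq in
theorem comm {γ δ : Γ} (hγ : γ ∈ Qt) (hδ : δ ∈ Qt) : γ * δ = δ * γ := by
  have h1 := hsq _ (Qt.mul_mem hγ hδ)
  have h2 : γ * δ = (γ * δ)⁻¹ := (inv_eq_of_mul_eq_one_left h1).symm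
  rw [h2, mul_inv_rev, inv_eq_self Qt hsq hγ, inv_eq_self Qt hsq hδ]

include hζQ in
theorem norm_mem {γ : Γ} (hγ : γ ∈ Qt) : norm ζ γ ∈ Qt :=
  Qt.mul_mem (Qt.mul_mem hγ (hζQ γ hγ)) (hζQ _ (hζQ γ hγ))

include hζ3 in
theorem conj3 (γ : Γ) : ζ * (ζ * (ζ * γ * ζ⁻¹) * ζ⁻¹) * ζ⁻¹ = γ := by
  have h1 : ζ * (ζ * (ζ * γ * ζ⁻¹) * ζ⁻¹) * ζ⁻¹ = ζ ^ 3 * γ * (ζ ^ 3)⁻¹ := by
    simp only [pow_succ, pow_zero, one_mul]; group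
  rw [h1, hζ3, one_mul, inv_one, mul_one]

include hsq hζ3 hζQ in
theorem norm_fixed {γ : Γ} (hγ : γ ∈ Qt) : ζ * norm ζ γ * ζ⁻¹ = norm ζ γ := by
  have h1 : ζ * norm ζ γ * ζ⁻¹ =
      (ζ * γ * ζ⁻¹) * (ζ * (ζ * γ * ζ⁻¹) * ζ⁻¹) * (ζ * (ζ * (ζ * γ * ζ⁻¹) * ζ⁻¹) * ζ⁻¹) := by
    unfold norm; group
  rw [h1, conj3 ζ hζ3]
  unfold norm
  have hm : (ζ * γ * ζ⁻¹) * (ζ * (ζ * γ * ζ⁻¹) * ζ⁻¹) ∈ Qt :=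
    Qt.mul_mem (hζQ γ hγ) (hζQ _ (hζQ γ hγ))
  rw [comm Qt hsq hm hγ]
  group

include hsq hζ3 hζQ hfix in
theorem norm_ker {γ : Γ} (hγ : γ ∈ Qt) : norm ζ γ ∈ A :=
  hfix _ (norm_mem Qt ζ hζQ hγ) (norm_fixed Qt ζ hsq hζ3 hζQ hγ)

include hsq hζQ in
theorem norm_mul {γ δ : Γ} (hγ : γ ∈ Qt) (hδ : δ ∈ Qt) :
    norm ζ (γ * δ) = norm ζ γ * norm ζ δ := by
  have e1 : ζ * (γ * δ) * ζ⁻¹ = (ζ * γ * ζ⁻¹) * (ζ * δ * ζ⁻¹) := by group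
  have e2 : ζ * ((ζ * γ * ζ⁻¹) * (ζ * δ * ζ⁻¹)) * ζ⁻¹ =
      (ζ * (ζ * γ * ζ⁻¹) * ζ⁻¹) * (ζ * (ζ * δ * ζ⁻¹) * ζ⁻¹) := by group
  unfold norm
  rw [e1, e2]
  set γ1 := ζ * γ * ζ⁻¹
  set δ1 := ζ * δ * ζ⁻¹
  set γ2 := ζ * γ1 * ζ⁻¹
  set δ2 := ζ * δ1 * ζ⁻¹
  have hγ1 : γ1 ∈ Qt := hζQ γ hγ
  have hδ1 : δ1 ∈ Qt := hζQ δ hδ
  have hγ2 : γ2 ∈ Qt := hζQ γ1 hγ1
  have hδ2 : δ2 ∈ Qt := hζQ δ1 hδ1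
  have c1 : δ * γ1 = γ1 * δ := comm Qt hsq hδ hγ1
  have c2 : δ * γ2 = γ2 * δ := comm Qt hsq hδ hγ2
  have c3 : δ1 * γ2 = γ2 * δ1 := comm Qt hsq hδ1 hγ2
  calc γ * δ * (γ1 * δ1) * (γ2 * δ2) = γ * (δ * γ1) * δ1 * γ2 * δ2 := by group
    _ = γ * (γ1 * δ) * δ1 * γ2 * δ2 := by rw [c1]
    _ = γ * γ1 * δ * (δ1 * γ2) * δ2 := by group
    _ = γ * γ1 * δ * (γ2 * δ1) * δ2 := by rw [c3]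
    _ = γ * γ1 * (δ * γ2) * δ1 * δ2 := by group
    _ = γ * γ1 * (γ2 * δ) * δ1 * δ2 := by rw [c2]
    _ = γ * γ1 * γ2 * (δ * δ1 * δ2) := by group

include hcen hexp in
theorem norm_of_mem {a : Γ} (ha : a ∈ A) : norm ζ a = a := by
  unfold norm
  rw [conj_central (hcen ha), conj_central (hcen ha), hexp a ha, one_mul]

/-- the kernel of the norm -/
def Q1 (hsq : ∀ γ ∈ Qt, γ * γ = 1) (hζQ : ∀ γ ∈ Qt, ζ * γ * ζ⁻¹ ∈ Qt) : Subgroup Γ where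
  carrier := {γ | γ ∈ Qt ∧ norm ζ γ = 1}
  one_mem' := ⟨Qt.one_mem, by unfold norm; group⟩
  mul_mem' := by
    rintro γ δ ⟨hγ, nγ⟩ ⟨hδ, nδ⟩
    exact ⟨Qt.mul_mem hγ hδ, by rw [norm_mul Qt ζ hsq hζQ hγ hδ, nγ, nδ, one_mul]⟩
  inv_mem' := by
    rintro γ ⟨hγ, nγ⟩
    rw [inv_eq_self Qt hsq hγ]
    exact ⟨hγ, nγ⟩

theorem mem_Q1 {γ : Γ} : γ ∈ Q1 Qt ζ hsq hζQ ↔ γ ∈ Qt ∧ norm ζ γ = 1 := Iff.rfl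

include hcen hexp in
theorem Q1_inf (γ : Γ) (h1 : γ ∈ Q1 Qt ζ hsq hζQ) (h2 : γ ∈ A) : γ = 1 := by
  rw [← norm_of_mem A ζ hcen hexp h2]
  exact h1.2

include hcen hexp hAQ hζ3 hfix in
theorem mul_norm_mem {γ : Γ} (hγ : γ ∈ Qt) : γ * norm ζ γ ∈ Q1 Qt ζ hsq hζQ := by
  have hn := norm_ker A Qt ζ hsq hζ3 hζQ hfix hγ
  refine ⟨Qt.mul_mem hγ (hAQ hn), ?_⟩
  rw [norm_mul Qt ζ hsq hζQ hγ (hAQ hn), norm_of_mem A ζ hcen hexp hn]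
  exact hexp _ hn

include hζ3 in
/-- invariance of `Q1` under an element normalizing `Qt` and `Qt⟨ζ⟩` -/
theorem Q1_conj (τ : Γ) (hτQ : ∀ γ ∈ Qt, τ * γ * τ⁻¹ ∈ Qt)
    (hτζ : ∃ ξ ∈ Qt, τ⁻¹ * ζ * τ = ζ * ξ ∨ τ⁻¹ * ζ * τ = ζ⁻¹ * ξ) {γ : Γ}
    (hγ : γ ∈ Q1 Qt ζ hsq hζQ) : τ * γ * τ⁻¹ ∈ Q1 Qt ζ hsq hζQ := by
  obtain ⟨hγQ, hγn⟩ := hγ
  refine ⟨hτQ γ hγQ, ?_⟩
  obtain ⟨ξ, hξ, h | h⟩ := hτζ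
  · -- `ζ` acts on conjugates as on the original
    have key : ∀ δ ∈ Qt, ζ * (τ * δ * τ⁻¹) * ζ⁻¹ = τ * (ζ * δ * ζ⁻¹) * τ⁻¹ := by
      intro δ hδ
      have e1 : ζ * (τ * δ * τ⁻¹) * ζ⁻¹ = τ * ((τ⁻¹ * ζ * τ) * δ * (τ⁻¹ * ζ * τ)⁻¹) * τ⁻¹ := by
        group
      have e2 : ξ * δ = δ * ξ := comm Qt hsq hξ hδ
      rw [e1, h]
      have e3 : ζ * ξ * δ * (ζ * ξ)⁻¹ = ζ * (ξ * δ) * ξ⁻¹ * ζ⁻¹ := by group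
      rw [e3, e2]
      group
    unfold norm
    rw [key γ hγQ, key _ (hζQ γ hγQ)]
    have : τ * γ * τ⁻¹ * (τ * (ζ * γ * ζ⁻¹) * τ⁻¹) * (τ * (ζ * (ζ * γ * ζ⁻¹) * ζ⁻¹) * τ⁻¹) =
        τ * norm ζ γ * τ⁻¹ := by unfold norm; group
    rw [this, hγn]; group
  · have key : ∀ δ ∈ Qt, ζ * (τ * δ * τ⁻¹) * ζ⁻¹ = τ * (ζ⁻¹ * δ * ζ) * τ⁻¹ := by
      intro δ hδ
      have e1 : ζ * (τ * δ * τ⁻¹) * ζ⁻¹ = τ * ((τ⁻¹ * ζ * τ) * δ * (τ⁻¹ * ζ * τ)⁻¹) * τ⁻¹ := by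
        group
      have e2 : ξ * δ = δ * ξ := comm Qt hsq hξ hδ
      rw [e1, h]
      have e3 : ζ⁻¹ * ξ * δ * (ζ⁻¹ * ξ)⁻¹ = ζ⁻¹ * (ξ * δ) * ξ⁻¹ * ζ := by group
      rw [e3, e2]
      group
    -- `ζ⁻¹ = ζ²`
    have hinv : ζ⁻¹ = ζ * ζ := by
      apply inv_eq_of_mul_eq_one_left
      rw [← hζ3]; simp only [pow_succ, pow_zero, one_mul]
    have k1 : ∀ δ : Γ, ζ⁻¹ * δ * ζ = ζ * (ζ * δ * ζ⁻¹) * ζ⁻¹ := by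
      intro δ
      have : ζ = (ζ⁻¹)⁻¹ := (inv_inv ζ).symm
      calc ζ⁻¹ * δ * ζ = ζ⁻¹ * δ * (ζ⁻¹)⁻¹ := by rw [inv_inv]
        _ = (ζ * ζ) * δ * (ζ * ζ)⁻¹ := by rw [hinv]
        _ = ζ * (ζ * δ * ζ⁻¹) * ζ⁻¹ := by group
    have hζinvQ : ∀ δ ∈ Qt, ζ⁻¹ * δ * ζ ∈ Qt := by
      intro δ hδ
      rw [k1]
      exact hζQ _ (hζQ δ hδ)
    unfold norm
    rw [key γ hγQ, key _ (hζinvQ γ hγQ)]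
    have k2 : ζ⁻¹ * (ζ⁻¹ * γ * ζ) * ζ = ζ * γ * ζ⁻¹ := by
      rw [k1 γ, k1, conj3 ζ hζ3]
    rw [k2, k1 γ]
    have hc := comm Qt hsq (hζQ _ (hζQ γ hγQ)) (hζQ γ hγQ)
    have : τ * γ * τ⁻¹ * (τ * (ζ * (ζ * γ * ζ⁻¹) * ζ⁻¹) * τ⁻¹) * (τ * (ζ * γ * ζ⁻¹) * τ⁻¹) =
        τ * (γ * ((ζ * (ζ * γ * ζ⁻¹) * ζ⁻¹) * (ζ * γ * ζ⁻¹))) * τ⁻¹ := by group
    rw [this, hc]
    have : γ * (ζ * γ * ζ⁻¹ * (ζ * (ζ * γ * ζ⁻¹) * ζ⁻¹)) = norm ζ γ := by unfold norm; group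
    rw [this, hγn]; group

end Cfsg.Agent.Helper91.StemNorm
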