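import Mathlib
import Cfsg.Agent.Lib.Helper91.StemNorm

/-!
# The prime `2`, part three: lifting the top group `D₈ × 2` and the final criterion
-/

set_option autoImplicit false

namespace Cfsg.Agent.Helper91.StemTwoB

open Subgroup
open scoped commutatorElement
open Cfsg.Agent.Helper91.StemThree

section Top

variable {Γ : Type*} [Group Γ] (Q1 : Subgroup Γ) (σ1 σ2 κ : Γ)

/-- the normal forms `γ ρ^i σ₁^j κ^k` -/
def Tset : Set Γ := {g | ∃ γ ∈ Q1, ∃ i j k : ℕ, g = γ * (σ1 * σ2) ^ i * σ1 ^ j * κ ^ k}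

variable (h1 : σ1 * σ1 = 1) (h2 : σ2 * σ2 = 1) (hk : κ * κ = 1) (hρ : (σ1 * σ2) ^ 4 = 1)
  (hk1 : κ * σ1 = σ1 * κ) (hk2 : κ * σ2 = σ2 * κ)
  (n1 : ∀ γ ∈ Q1, σ1 * γ * σ1⁻¹ ∈ Q1) (n2 : ∀ γ ∈ Q1, σ2 * γ * σ2⁻¹ ∈ Q1)
  (nk : ∀ γ ∈ Q1, κ * γ * κ⁻¹ ∈ Q1)

include h1 h2 hρ in
theorem rho3 : (σ1 * σ2) ^ 3 = σ2 * σ1 := by
  have e : (σ1 * σ2) ^ 3 * (σ1 * σ2) = 1 := by rw [← pow_succ]; exact hρ
  have e2 : (σ2 * σ1) * (σ1 * σ2) = 1 := by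
    calc σ2 * σ1 * (σ1 * σ2) = σ2 * (σ1 * σ1) * σ2 := by group
      _ = 1 := by rw [h1, mul_one, h2]
  exact mul_right_cancel (e.trans e2.symm)

include h1 h2 hρ in
theorem semi1 (i : ℕ) : σ1 * (σ1 * σ2) ^ i = (σ1 * σ2) ^ (3 * i) * σ1 := by
  have hs : SemiconjBy σ1 (σ1 * σ2) ((σ1 * σ2) ^ 3) := by
    unfold SemiconjBy
    rw [rho3 σ1 σ2 h1 h2 hρ]
    calc σ1 * (σ1 * σ2) = (σ1 * σ1) * σ2 := by group
      _ = σ2 := by rw [h1, one_mul]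
      _ = σ2 * (σ1 * σ1) := by rw [h1, mul_one]
      _ = σ2 * σ1 * σ1 := by group
  have := (hs.pow_right i).eq
  rw [← pow_mul] at this
  exact this

include h1 h2 hρ in
theorem semi2 (i : ℕ) : σ2 * (σ1 * σ2) ^ i = (σ1 * σ2) ^ (3 * i + 3) * σ1 := by
  have hs : SemiconjBy σ2 (σ1 * σ2) ((σ1 * σ2) ^ 3) := by
    unfold SemiconjBy
    rw [rho3 σ1 σ2 h1 h2 hρ]
    group
  have := (hs.pow_right i).eq
  rw [← pow_mul] at this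
  rw [this, pow_add, rho3 σ1 σ2 h1 h2 hρ]
  calc (σ1 * σ2) ^ (3 * i) * σ2 = (σ1 * σ2) ^ (3 * i) * (σ2 * (σ1 * σ1)) := by rw [h1, mul_one]
    _ = (σ1 * σ2) ^ (3 * i) * (σ2 * σ1) * σ1 := by group

include h1 h2 hρ hk1 hk2 n1 n2 nk in
theorem left_mul {x y : Γ} (hx : x ∈ (Q1 : Set Γ) ∪ {σ1, σ2, κ}) (hy : y ∈ Tset Q1 σ1 σ2 κ) :
    x * y ∈ Tset Q1 σ1 σ2 κ := by
  obtain ⟨γ, hγ, i, j, k, rfl⟩ := hy
  rcases hx with hx | hx | hx | hx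
  · refine ⟨x * γ, Q1.mul_mem hx hγ, i, j, k, ?_⟩
    group
  · rw [hx]
    refine ⟨σ1 * γ * σ1⁻¹, n1 γ hγ, 3 * i, j + 1, k, ?_⟩
    have e := semi1 σ1 σ2 h1 h2 hρ i
    calc σ1 * (γ * (σ1 * σ2) ^ i * σ1 ^ j * κ ^ k)
        = σ1 * γ * σ1⁻¹ * (σ1 * (σ1 * σ2) ^ i) * σ1 ^ j * κ ^ k := by group
      _ = σ1 * γ * σ1⁻¹ * ((σ1 * σ2) ^ (3 * i) * σ1) * σ1 ^ j * κ ^ k := by rw [e]
      _ = σ1 * γ * σ1⁻¹ * (σ1 * σ2) ^ (3 * i) * σ1 ^ (j + 1) * κ ^ k := by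
        rw [pow_succ']; group
  · rw [hx]
    refine ⟨σ2 * γ * σ2⁻¹, n2 γ hγ, 3 * i + 3, j + 1, k, ?_⟩
    have e := semi2 σ1 σ2 h1 h2 hρ i
    calc σ2 * (γ * (σ1 * σ2) ^ i * σ1 ^ j * κ ^ k)
        = σ2 * γ * σ2⁻¹ * (σ2 * (σ1 * σ2) ^ i) * σ1 ^ j * κ ^ k := by group
      _ = σ2 * γ * σ2⁻¹ * ((σ1 * σ2) ^ (3 * i + 3) * σ1) * σ1 ^ j * κ ^ k := by rw [e]
      _ = σ2 * γ * σ2⁻¹ * (σ1 * σ2) ^ (3 * i + 3) * σ1 ^ (j + 1) * κ ^ k := by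
        rw [pow_succ' σ1 j]; group
  · rw [Set.mem_singleton_iff] at hx
    rw [hx]
    refine ⟨κ * γ * κ⁻¹, nk γ hγ, i, j, k + 1, ?_⟩
    have c1 : Commute κ σ1 := hk1
    have c2 : Commute κ σ2 := hk2
    have c3 : Commute κ ((σ1 * σ2) ^ i) := (c1.mul_right c2).pow_right i
    have c4 : Commute κ (σ1 ^ j) := c1.pow_right j
    calc κ * (γ * (σ1 * σ2) ^ i * σ1 ^ j * κ ^ k)
        = κ * γ * κ⁻¹ * (κ * (σ1 * σ2) ^ i) * σ1 ^ j * κ ^ k := by group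
      _ = κ * γ * κ⁻¹ * ((σ1 * σ2) ^ i * κ) * σ1 ^ j * κ ^ k := by rw [c3.eq]
      _ = κ * γ * κ⁻¹ * (σ1 * σ2) ^ i * (κ * σ1 ^ j) * κ ^ k := by group
      _ = κ * γ * κ⁻¹ * (σ1 * σ2) ^ i * (σ1 ^ j * κ) * κ ^ k := by rw [c4.eq]
      _ = κ * γ * κ⁻¹ * (σ1 * σ2) ^ i * σ1 ^ j * κ ^ (k + 1) := by
        rw [pow_succ' κ k]; group

include h1 h2 hk hρ hk1 hk2 n1 n2 nk in
theorem closure_subset {g : Γ} (hg : g ∈ closure ((Q1 : Set Γ) ∪ {σ1, σ2, κ})) :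
    g ∈ Tset Q1 σ1 σ2 κ := by
  induction hg using closure_induction_left with
  | one => exact ⟨1, Q1.one_mem, 0, 0, 0, by group⟩
  | mul_left x hx y _ ih => exact left_mul Q1 σ1 σ2 κ h1 h2 hρ hk1 hk2 n1 n2 nk hx ih
  | inv_mul_cancel x hx y _ ih =>
    apply left_mul Q1 σ1 σ2 κ h1 h2 hρ hk1 hk2 n1 n2 nk _ ih
    rcases hx with hx | hx | hx | hx
    · exact Or.inl (Q1.inv_mem hx)
    · rw [hx, inv_eq_of_mul_eq_one_left h1]; exact Or.inr (Or.inl rfl)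
    · rw [hx, inv_eq_of_mul_eq_one_left h2]; exact Or.inr (Or.inr (Or.inl rfl))
    · rw [Set.mem_singleton_iff] at hx
      rw [hx, inv_eq_of_mul_eq_one_left hk]; exact Or.inr (Or.inr (Or.inr rfl))

end Top

theorem pow_mod_of_pow_eq_one {M : Type*} [Monoid M] {x : M} {n : ℕ} (h : x ^ n = 1) (i : ℕ) :
    x ^ i = x ^ (i % n) := by
  conv_lhs => rw [← Nat.div_add_mod i n, pow_add, pow_mul, h, one_pow, one_mul]

section Sup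

variable {Γ : Type*} [Group Γ]

/-- commutators in `M ⊔ A`, `A` central -/
theorem commutator_sup_central (M A : Subgroup Γ) (hA : A ≤ center Γ) :
    ⁅M ⊔ A, M ⊔ A⁆ ≤ M := by
  have : A.Normal := ⟨fun n hn g => by rw [conj_central (hA hn)]; exact hn⟩
  rw [commutator_le]
  intro g hg h hh
  obtain ⟨m1, hm1, a1, ha1, rfl⟩ := mem_sup_of_normal_right.1 hg
  obtain ⟨m2, hm2, a2, ha2, rfl⟩ := mem_sup_of_normal_right.1 hh
  rw [comm_mul_central (hA ha1) (hA ha2)]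
  exact M.mul_mem (M.mul_mem (M.mul_mem hm1 hm2) (M.inv_mem hm1)) (M.inv_mem hm2)

end Sup

section Main

variable {Γ G : Type*} [Group Γ] [Group G] [Finite Γ] (σ : Γ →* G)
  (hσ : Cfsg.IsStemExtension σ)
include hσ

/-- complement criterion -/
theorem ker_eq_bot_of_complement {p : ℕ} (hp : p.Prime) (hexp : ∀ a ∈ σ.ker, a ^ p = 1)
    (M : Subgroup Γ) (hM : M ⊓ σ.ker = ⊥) (hidx : ¬ p ∣ (M.map σ).index) : σ.ker = ⊥ := by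
  apply StemRed.ker_eq_bot_of_index σ hσ hp hexp (M ⊔ σ.ker) le_sup_right
  · rw [eq_bot_iff, ← hM]
    exact inf_le_inf_right _ (commutator_sup_central M σ.ker hσ.2.1)
  · rw [← comap_map_eq, Subgroup.index_comap_of_surjective _ hσ.1]
    exact hidx

/-- **The prime `2`.** -/
theorem ker_eq_bot_two (hexp : ∀ a ∈ σ.ker, a * a = 1) (Q : Subgroup G) (z s1 s2 c : G)
    (hQstar : ∀ x ∈ Q, ∀ γ, σ γ = x → γ * γ = 1)
    (hs1star : ∀ γ, σ γ = s1 → γ * γ = 1) (hs2star : ∀ γ, σ γ = s2 → γ * γ = 1)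
    (hcstar : ∀ γ, σ γ = c → γ * γ = 1)
    (hrstar : ∀ γ, σ γ = (s1 * s2) * (s1 * s2) → γ * γ = 1)
    (hcs1star : ∀ γ, σ γ = c * s1 → γ * γ = 1) (hcs2star : ∀ γ, σ γ = c * s2 → γ * γ = 1)
    (hz3 : z ^ 3 = 1) (hzQ : ∀ x ∈ Q, z * x * z⁻¹ ∈ Q)
    (hfpf : ∀ x ∈ Q, z * x * z⁻¹ = x → x = 1)
    (hsQ : ∀ t ∈ ({s1, s2, c} : Set G), ∀ x ∈ Q, t * x * t⁻¹ ∈ Q)
    (hsz : ∀ t ∈ ({s1, s2, c} : Set G), ∃ x ∈ Q, t * z * t⁻¹ = z * x ∨ t * z * t⁻¹ = z⁻¹ * x)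
    (hnf : ∀ i j k : ℕ, i < 4 → j < 2 → k < 2 → (s1 * s2) ^ i * s1 ^ j * c ^ k ∈ Q →
      i = 0 ∧ j = 0 ∧ k = 0)
    (hidx : ¬ 2 ∣ (closure ((Q : Set G) ∪ {s1, s2, c})).index) : σ.ker = ⊥ := by
  obtain ⟨hsurj, hcen, hcomm⟩ := hσ
  set A := σ.ker with hA
  set Qt := Q.comap σ with hQt
  have hAQ : A ≤ Qt := by
    intro a ha
    rw [hQt, mem_comap, MonoidHom.mem_ker.1 ha]; exact Q.one_mem
  have hsq : ∀ γ ∈ Qt, γ * γ = 1 := fun γ hγ => hQstar (σ γ) hγ γ rfl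
  -- a lift of `z` of order three
  obtain ⟨ζ0, hζ0⟩ := hsurj z
  have hζ0k : ζ0 ^ 3 ∈ A := by rw [hA, MonoidHom.mem_ker, map_pow, hζ0, hz3]
  have hζ06 : ζ0 ^ 6 = 1 := by
    have := hexp _ hζ0k
    rw [← pow_add] at this
    exact this
  set ζ := ζ0 ^ 4 with hζdef
  have hζ3 : ζ ^ 3 = 1 := by
    rw [hζdef, ← pow_mul, show 4 * 3 = 6 * 2 from rfl, pow_mul, hζ06, one_pow]
  have hσζ : σ ζ = z := by
    rw [hζdef, map_pow, hζ0, pow_succ, hz3, one_mul]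
  have hζQ : ∀ γ ∈ Qt, ζ * γ * ζ⁻¹ ∈ Qt := by
    intro γ hγ
    rw [hQt, mem_comap, map_mul, map_mul, map_inv, hσζ]
    exact hzQ _ hγ
  have hfix : ∀ γ ∈ Qt, ζ * γ * ζ⁻¹ = γ → γ ∈ A := by
    intro γ hγ h
    have := congrArg σ h
    rw [map_mul, map_mul, map_inv, hσζ] at this
    exact MonoidHom.mem_ker.2 (hfpf _ hγ this)
  set Q1 := StemNorm.Q1 Qt ζ hsq hζQ with hQ1
  -- lifts of the top generators
  obtain ⟨σ1, hσ1⟩ := hsurj s1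
  obtain ⟨σ2, hσ2⟩ := hsurj s2
  obtain ⟨κ, hκ⟩ := hsurj c
  have h1 : σ1 * σ1 = 1 := hs1star σ1 hσ1
  have h2 : σ2 * σ2 = 1 := hs2star σ2 hσ2
  have hk : κ * κ = 1 := hcstar κ hκ
  have hρ : (σ1 * σ2) ^ 4 = 1 := by
    have := hrstar ((σ1 * σ2) * (σ1 * σ2)) (by simp only [map_mul, hσ1, hσ2])
    rw [← this]
    simp only [pow_succ, pow_zero, one_mul]; group
  have hkc : ∀ (τ : Γ), τ * τ = 1 → (κ * τ) * (κ * τ) = 1 → κ * τ = τ * κ := by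
    intro τ hτ h
    have e1 : κ * τ = (κ * τ)⁻¹ := (inv_eq_of_mul_eq_one_left h).symm
    rw [e1, mul_inv_rev, inv_eq_of_mul_eq_one_left hτ, inv_eq_of_mul_eq_one_left hk]
  have hk1 : κ * σ1 = σ1 * κ :=
    hkc σ1 h1 (hcs1star (κ * σ1) (by rw [map_mul, hκ, hσ1]))
  have hk2 : κ * σ2 = σ2 * κ :=
    hkc σ2 h2 (hcs2star (κ * σ2) (by rw [map_mul, hκ, hσ2]))
  -- the generators normalize `Q1`
  have norm_gen : ∀ (τ : Γ) (t : G), σ τ = t → τ * τ = 1 → t ∈ ({s1, s2, c} : Set G) →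
      ∀ γ ∈ Q1, τ * γ * τ⁻¹ ∈ Q1 := by
    intro τ t hτt hτ2 ht γ hγ
    have hτinv : τ⁻¹ = τ := inv_eq_of_mul_eq_one_left hτ2
    apply StemNorm.Q1_conj Qt ζ hsq hζ3 hζQ τ
    · intro δ hδ
      rw [hQt, mem_comap, map_mul, map_mul, map_inv, hτt]
      exact hsQ t ht _ hδ
    · have htinv : t⁻¹ = t := by
        apply inv_eq_of_mul_eq_one_left
        rw [← hτt, ← map_mul, hτ2, map_one]
      obtain ⟨x, hx, hcase | hcase⟩ := hsz t ht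
      · rw [htinv] at hcase
        refine ⟨ζ⁻¹ * (τ⁻¹ * ζ * τ), ?_, Or.inl (by group)⟩
        rw [hQt, mem_comap]
        have : σ (ζ⁻¹ * (τ⁻¹ * ζ * τ)) = z⁻¹ * (t * z * t) := by
          simp only [map_mul, map_inv, hσζ, hτt, htinv]
        rw [this, hcase]
        simpa using hx
      · rw [htinv] at hcase
        refine ⟨ζ * (τ⁻¹ * ζ * τ), ?_, Or.inr (by group)⟩
        rw [hQt, mem_comap]
        have : σ (ζ * (τ⁻¹ * ζ * τ)) = z * (t * z * t) := by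
          simp only [map_mul, map_inv, hσζ, hτt, htinv]
        rw [this, hcase]
        simpa using hx
    · exact hγ
  have n1 := norm_gen σ1 s1 hσ1 h1 (Or.inl rfl)
  have n2 := norm_gen σ2 s2 hσ2 h2 (Or.inr (Or.inl rfl))
  have nk := norm_gen κ c hκ hk (Or.inr (Or.inr rfl))
  -- the complement
  set M := closure ((Q1 : Set Γ) ∪ {σ1, σ2, κ}) with hM
  have hMA : M ⊓ A = ⊥ := by
    rw [eq_bot_iff]
    rintro g ⟨hgM, hgA⟩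
    rw [mem_bot]
    obtain ⟨γ, hγ, i, j, k, rfl⟩ :=
      closure_subset Q1 σ1 σ2 κ h1 h2 hk hρ hk1 hk2 n1 n2 nk hgM
    have hσ1sq : σ1 ^ 2 = 1 := by rw [pow_two]; exact h1
    have hκsq : κ ^ 2 = 1 := by rw [pow_two]; exact hk
    rw [pow_mod_of_pow_eq_one hρ i, pow_mod_of_pow_eq_one hσ1sq j,
      pow_mod_of_pow_eq_one hκsq k] at hgA ⊢
    have hker : σ γ * ((s1 * s2) ^ (i % 4) * s1 ^ (j % 2) * c ^ (k % 2)) = 1 := by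
      have := MonoidHom.mem_ker.1 hgA
      simp only [map_mul, map_pow, hσ1, hσ2, hκ] at this
      rw [← this]; group
    have hmemQ : (s1 * s2) ^ (i % 4) * s1 ^ (j % 2) * c ^ (k % 2) ∈ Q := by
      have e : (s1 * s2) ^ (i % 4) * s1 ^ (j % 2) * c ^ (k % 2) = (σ γ)⁻¹ :=
        (inv_eq_of_mul_eq_one_right hker).symm
      rw [e]
      exact Q.inv_mem hγ.1
    obtain ⟨hi, hj, hk'⟩ := hnf _ _ _ (Nat.mod_lt _ (by norm_num)) (Nat.mod_lt _ (by norm_num))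
      (Nat.mod_lt _ (by norm_num)) hmemQ
    rw [hi, hj, hk', pow_zero, pow_zero, pow_zero, mul_one, mul_one, mul_one] at hgA ⊢
    exact StemNorm.Q1_inf A Qt ζ hcen hexp hsq hζQ γ hγ hgA
  -- the image of the complement
  have himg : closure ((Q : Set G) ∪ {s1, s2, c}) ≤ M.map σ := by
    rw [closure_le]
    rintro x (hx | hx | hx | hx)
    · obtain ⟨γ, rfl⟩ := hsurj x
      have hγ : γ ∈ Qt := hx
      have hmem := StemNorm.mul_norm_mem A Qt ζ hcen hexp hAQ hsq hζ3 hζQ hfix hγ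
      have hn := StemNorm.norm_ker A Qt ζ hsq hζ3 hζQ hfix hγ
      refine ⟨γ * StemNorm.norm ζ γ, subset_closure (Or.inl hmem), ?_⟩
      rw [map_mul, MonoidHom.mem_ker.1 hn, mul_one]
    · exact ⟨σ1, subset_closure (Or.inr (Or.inl rfl)), by rw [hσ1, hx]⟩
    · exact ⟨σ2, subset_closure (Or.inr (Or.inr (Or.inl rfl))), by rw [hσ2, hx]⟩
    · rw [Set.mem_singleton_iff] at hx
      exact ⟨κ, subset_closure (Or.inr (Or.inr (Or.inr rfl))), by rw [hκ, hx]⟩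
  have hexp' : ∀ a ∈ σ.ker, a ^ 2 = 1 := fun a ha => by rw [pow_two]; exact hexp a ha
  apply ker_eq_bot_of_complement σ ⟨hsurj, hcen, hcomm⟩ Nat.prime_two hexp' M hMA
  intro hdiv
  exact hidx (dvd_trans hdiv (Subgroup.index_dvd_of_le himg))

end Main

end Cfsg.Agent.Helper91.StemTwoB
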