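import Mathlib
import Cfsg.Agent.Lib.Helper91.StemTwoB

/-!
# The prime `2`: the variant of `StemTwoB.ker_eq_bot_two` with top group `D₈`
-/

set_option autoImplicit false

namespace Cfsg.Agent.Helper91.StemTwoC

open Subgroup
open scoped commutatorElement
open Cfsg.Agent.Helper91.StemThree Cfsg.Agent.Helper91.StemTwoB

section Main

variable {Γ G : Type*} [Group Γ] [Group G] [Finite Γ] (σ : Γ →* G)
  (hσ : Cfsg.IsStemExtension σ)
include hσ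

/-- **The prime `2`, top group `D₈`.** -/
theorem ker_eq_bot_two_D8 (hexp : ∀ a ∈ σ.ker, a * a = 1) (Q : Subgroup G) (z s1 s2 : G)
    (hQstar : ∀ x ∈ Q, ∀ γ, σ γ = x → γ * γ = 1)
    (hs1star : ∀ γ, σ γ = s1 → γ * γ = 1) (hs2star : ∀ γ, σ γ = s2 → γ * γ = 1)
    (hrstar : ∀ γ, σ γ = (s1 * s2) * (s1 * s2) → γ * γ = 1)
    (hz3 : z ^ 3 = 1) (hzQ : ∀ x ∈ Q, z * x * z⁻¹ ∈ Q)
    (hfpf : ∀ x ∈ Q, z * x * z⁻¹ = x → x = 1)
    (hsQ : ∀ t ∈ ({s1, s2} : Set G), ∀ x ∈ Q, t * x * t⁻¹ ∈ Q)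
    (hsz : ∀ t ∈ ({s1, s2} : Set G), ∃ x ∈ Q, t * z * t⁻¹ = z * x ∨ t * z * t⁻¹ = z⁻¹ * x)
    (hnf : ∀ i j : ℕ, i < 4 → j < 2 → (s1 * s2) ^ i * s1 ^ j ∈ Q → i = 0 ∧ j = 0)
    (hidx : ¬ 2 ∣ (closure ((Q : Set G) ∪ {s1, s2})).index) : σ.ker = ⊥ := by
  obtain ⟨hsurj, hcen, hcomm⟩ := hσ
  set A := σ.ker with hA
  set Qt := Q.comap σ with hQt
  have hAQ : A ≤ Qt := by
    intro a ha
    rw [hQt, mem_comap, MonoidHom.mem_ker.1 ha]; exact Q.one_mem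
  have hsq : ∀ γ ∈ Qt, γ * γ = 1 := fun γ hγ => hQstar (σ γ) hγ γ rfl
  -- a lift of `z` of order three
  obtain ⟨ζ0, hζ0⟩ := hsurj z
  have hζ0k : ζ0 ^ 3 ∈ A := by rw [hA, MonoidHom.mem_ker, map_pow, hζ0, hz3]
  have hζ06 : ζ0 ^ 6 = 1 := by
    have := hexp _ hζ0k
    rw [← pow_add] at this
    exact this
  set ζ := ζ0 ^ 4 with hζdef
  have hζ3 : ζ ^ 3 = 1 := by
    rw [hζdef, ← pow_mul, show 4 * 3 = 6 * 2 from rfl, pow_mul, hζ06, one_pow]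
  have hσζ : σ ζ = z := by
    rw [hζdef, map_pow, hζ0, pow_succ, hz3, one_mul]
  have hζQ : ∀ γ ∈ Qt, ζ * γ * ζ⁻¹ ∈ Qt := by
    intro γ hγ
    rw [hQt, mem_comap, map_mul, map_mul, map_inv, hσζ]
    exact hzQ _ hγ
  have hfix : ∀ γ ∈ Qt, ζ * γ * ζ⁻¹ = γ → γ ∈ A := by
    intro γ hγ h
    have := congrArg σ h
    rw [map_mul, map_mul, map_inv, hσζ] at this
    exact MonoidHom.mem_ker.2 (hfpf _ hγ this)
  set Q1 := StemNorm.Q1 Qt ζ hsq hζQ with hQ1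
  -- lifts of the top generators
  obtain ⟨σ1, hσ1⟩ := hsurj s1
  obtain ⟨σ2, hσ2⟩ := hsurj s2
  have h1 : σ1 * σ1 = 1 := hs1star σ1 hσ1
  have h2 : σ2 * σ2 = 1 := hs2star σ2 hσ2
  have hk : (1 : Γ) * 1 = 1 := one_mul 1
  have hρ : (σ1 * σ2) ^ 4 = 1 := by
    have := hrstar ((σ1 * σ2) * (σ1 * σ2)) (by simp only [map_mul, hσ1, hσ2])
    rw [← this]
    simp only [pow_succ, pow_zero, one_mul]; group
  have hk1 : (1 : Γ) * σ1 = σ1 * 1 := by rw [one_mul, mul_one]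
  have hk2 : (1 : Γ) * σ2 = σ2 * 1 := by rw [one_mul, mul_one]
  -- the generators normalize `Q1`
  have norm_gen : ∀ (τ : Γ) (t : G), σ τ = t → τ * τ = 1 → t ∈ ({s1, s2} : Set G) →
      ∀ γ ∈ Q1, τ * γ * τ⁻¹ ∈ Q1 := by
    intro τ t hτt hτ2 ht γ hγ
    have hτinv : τ⁻¹ = τ := inv_eq_of_mul_eq_one_left hτ2
    apply StemNorm.Q1_conj Qt ζ hsq hζ3 hζQ τ
    · intro δ hδ
      rw [hQt, mem_comap, map_mul, map_mul, map_inv, hτt]
      exact hsQ t ht _ hδ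
    · have htinv : t⁻¹ = t := by
        apply inv_eq_of_mul_eq_one_left
        rw [← hτt, ← map_mul, hτ2, map_one]
      obtain ⟨x, hx, hcase | hcase⟩ := hsz t ht
      · rw [htinv] at hcase
        refine ⟨ζ⁻¹ * (τ⁻¹ * ζ * τ), ?_, Or.inl (by group)⟩
        rw [hQt, mem_comap]
        have : σ (ζ⁻¹ * (τ⁻¹ * ζ * τ)) = z⁻¹ * (t * z * t) := by
          simp only [map_mul, map_inv, hσζ, hτt, htinv]
        rw [this, hcase]
        simpa using hx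
      · rw [htinv] at hcase
        refine ⟨ζ * (τ⁻¹ * ζ * τ), ?_, Or.inr (by group)⟩
        rw [hQt, mem_comap]
        have : σ (ζ * (τ⁻¹ * ζ * τ)) = z * (t * z * t) := by
          simp only [map_mul, map_inv, hσζ, hτt, htinv]
        rw [this, hcase]
        simpa using hx
    · exact hγ
  have n1 := norm_gen σ1 s1 hσ1 h1 (Or.inl rfl)
  have n2 := norm_gen σ2 s2 hσ2 h2 (Or.inr rfl)
  have nk : ∀ γ ∈ Q1, (1 : Γ) * γ * 1⁻¹ ∈ Q1 := by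
    intro γ hγ
    rw [one_mul, inv_one, mul_one]
    exact hγ
  -- the complement
  set M := closure ((Q1 : Set Γ) ∪ {σ1, σ2, 1}) with hM
  have hMA : M ⊓ A = ⊥ := by
    rw [eq_bot_iff]
    rintro g ⟨hgM, hgA⟩
    rw [mem_bot]
    obtain ⟨γ, hγ, i, j, k, rfl⟩ :=
      closure_subset Q1 σ1 σ2 1 h1 h2 hk hρ hk1 hk2 n1 n2 nk hgM
    have hσ1sq : σ1 ^ 2 = 1 := by rw [pow_two]; exact h1
    rw [pow_mod_of_pow_eq_one hρ i, pow_mod_of_pow_eq_one hσ1sq j, one_pow, mul_one] at hgA ⊢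
    have hker : σ γ * ((s1 * s2) ^ (i % 4) * s1 ^ (j % 2)) = 1 := by
      have := MonoidHom.mem_ker.1 hgA
      simp only [map_mul, map_pow, hσ1, hσ2] at this
      rw [← this]; group
    have hmemQ : (s1 * s2) ^ (i % 4) * s1 ^ (j % 2) ∈ Q := by
      have e : (s1 * s2) ^ (i % 4) * s1 ^ (j % 2) = (σ γ)⁻¹ :=
        (inv_eq_of_mul_eq_one_right hker).symm
      rw [e]
      exact Q.inv_mem hγ.1
    obtain ⟨hi, hj⟩ := hnf _ _ (Nat.mod_lt _ (by norm_num)) (Nat.mod_lt _ (by norm_num)) hmemQ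
    rw [hi, hj, pow_zero, pow_zero, mul_one, mul_one] at hgA ⊢
    exact StemNorm.Q1_inf A Qt ζ hcen hexp hsq hζQ γ hγ hgA
  -- the image of the complement
  have himg : closure ((Q : Set G) ∪ {s1, s2}) ≤ M.map σ := by
    rw [closure_le]
    rintro x (hx | hx | hx)
    · obtain ⟨γ, rfl⟩ := hsurj x
      have hγ : γ ∈ Qt := hx
      have hmem := StemNorm.mul_norm_mem A Qt ζ hcen hexp hAQ hsq hζ3 hζQ hfix hγ
      have hn := StemNorm.norm_ker A Qt ζ hsq hζ3 hζQ hfix hγ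
      refine ⟨γ * StemNorm.norm ζ γ, subset_closure (Or.inl hmem), ?_⟩
      rw [map_mul, MonoidHom.mem_ker.1 hn, mul_one]
    · exact ⟨σ1, subset_closure (Or.inr (Or.inl rfl)), by rw [hσ1, hx]⟩
    · rw [Set.mem_singleton_iff] at hx
      exact ⟨σ2, subset_closure (Or.inr (Or.inr (Or.inl rfl))), by rw [hσ2, hx]⟩
  have hexp' : ∀ a ∈ σ.ker, a ^ 2 = 1 := fun a ha => by rw [pow_two]; exact hexp a ha
  apply ker_eq_bot_of_complement σ ⟨hsurj, hcen, hcomm⟩ Nat.prime_two hexp' M hMA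
  intro hdiv
  exact hidx (dvd_trans hdiv (Subgroup.index_dvd_of_le himg))

end Main

end Cfsg.Agent.Helper91.StemTwoC
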