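import Cfsg.Agent.Lib.Helper91.M23MultData
import Cfsg.Agent.Lib.Helper91.StemTwoC

/-!
# The Schur multiplier of `M23` is trivial

Assembly of the local criteria (`StemTwoC.ker_eq_bot_two_D8`, `StemThree.ker_eq_bot_three_abelian`,
`StemLocal.ker_eq_bot_of_not_sq_dvd`) with the table data of `M23MultData`.
-/

set_option autoImplicit false

namespace Cfsg.Agent.Helper91.M23Mult
open Cfsg Cfsg.Agent.Helper7 Cfsg.Agent.Helper91 Subgroup
open Cfsg.Agent.Helper27.M23Gen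
open scoped commutatorElement

local notation "M23" => Cfsg.Spor.M23

theorem tabM_of_ok {l : List ℕ} (h : m23TabOK l = true) : ∃ a : ↥M23, TabM a l := by
  rw [m23TabOK, Bool.and_eq_true, Nat.beq_eq] at h
  obtain ⟨h1, h2⟩ := m24TabOK_spec h.1
  have ht := tab_permOfTab l h1
  refine ⟨⟨permOfTab l h1, mem_M23.2 ⟨h2, ?_⟩⟩, ht, (tabOK_spec h1).1⟩
  rw [← pt23, ht.apply 23 (by norm_num), h.2]

theorem goodTabs_of_ok {L : List (List ℕ)} (h : L.all m23TabOK = true) : GoodTabs M23 L := by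
  intro l hl
  obtain ⟨a, ha⟩ := tabM_of_ok (List.all_eq_true.mp h l hl)
  exact ha.good

section Two

variable {Γ : Type*} [Group Γ] (σ : Γ →* ↥M23) (hsurj : Function.Surjective σ)
  (hcen : σ.ker ≤ center Γ) (hexp : ∀ a ∈ σ.ker, a * a = 1)

include hsurj hcen hexp in
/-- every lift of the representative involution is an involution -/
theorem t_lift {t : ↥M23} (ht : TabM t tT) (τ : Γ) (hτ : σ τ = t) : τ * τ = 1 := by
  have hok := e1_ok
  simp only [List.all_cons, List.all_nil, Bool.and_true, Bool.and_eq_true] at hok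
  obtain ⟨hx, hy, hw, h0, h1, h2, h3, h4, h5, h6⟩ := hok
  obtain ⟨x, hx⟩ := tabM_of_ok hx
  obtain ⟨y, hy⟩ := tabM_of_ok hy
  obtain ⟨w, hw⟩ := tabM_of_ok hw
  obtain ⟨c0, h0⟩ := tabM_of_ok h0
  obtain ⟨c1, h1⟩ := tabM_of_ok h1
  obtain ⟨c2, h2⟩ := tabM_of_ok h2
  obtain ⟨c3, h3⟩ := tabM_of_ok h3
  obtain ⟨c4, h4⟩ := tabM_of_ok h4
  obtain ⟨c5, h5⟩ := tabM_of_ok h5
  obtain ⟨c6, h6⟩ := tabM_of_ok h6
  obtain ⟨k1, k2, k3, k4, k5, k6, k7⟩ := e1_conj
  obtain ⟨m1, m2, m3⟩ := e1_comm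
  exact StemTwo.star σ hsurj hcen hexp t x y w (ht.sq_eq_one t_ok.2)
    ((hx.mul hy).eq (hy.mul hx) m1) ((hx.mul hw).eq (hw.mul hx) m2)
    ((hy.mul hw).eq (hw.mul hy) m3)
    ⟨c0, hx.conj_eq h0 ht k1⟩ ⟨c1, hy.conj_eq h1 ht k2⟩ ⟨c2, hw.conj_eq h2 ht k3⟩
    ⟨c3, (hx.mul hy).conj_eq h3 ht k4⟩ ⟨c4, (hx.mul hw).conj_eq h4 ht k5⟩
    ⟨c5, (hy.mul hw).conj_eq h5 ht k6⟩ ⟨c6, ((hx.mul hy).mul hw).conj_eq h6 ht k7⟩ τ hτ

include hsurj hcen hexp in
/-- every lift of an involution conjugate to the representative is an involution -/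
theorem invol_lift {a : ↥M23} {l : List ℕ} (ha : TabM a l) (hl : conjOK l = true)
    (γ : Γ) (hγ : σ γ = a) : γ * γ = 1 := by
  simp only [conjOK, List.any_eq_true, Bool.and_eq_true, tabBeq_iff] at hl
  obtain ⟨td, htd, e1, hc⟩ := hl
  obtain ⟨g, hg⟩ := tabM_of_ok (List.all_eq_true.mp conjL_ok td htd)
  obtain ⟨t, ht⟩ := tabM_of_ok t_ok.1
  obtain ⟨δ, hδ⟩ := hsurj t
  have hδ2 := t_lift σ hsurj hcen hexp ht δ hδ
  have e : a = g * t * g⁻¹ := ha.conj_eq hg ht hc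
  have e' : σ γ = g * σ δ * g⁻¹ := by rw [hγ, hδ, e]
  rw [StemTwo.sq_lift_conj σ hsurj hcen hexp (by rw [hδ2]; exact one_mem _) e', hδ2]

end Two

/-! ### The normal subgroup `Q` and the Sylow `2`-subgroup -/

theorem pcGens_good : GoodTabs M23 pcGens := goodTabs_of_ok pcGens_ok

theorem qGens_good : GoodTabs M23 qGens := fun l hl =>
  pcGens_good l (List.mem_append_right _ hl)

theorem qList_good : GoodTabs M23 qList := goodTabs_spanTabs qGens_good

theorem qList_mul : ∀ l1 ∈ qList, ∀ l2 ∈ qList, mulTab l1 l2 ∈ qList :=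
  spanTabs_mul_closed qGens_good (spanTabs_of_pcOK qGens_good qGens_pc).1

/-- the normal subgroup `2^4` -/
def Q : Subgroup ↥M23 := tabSubgroup M23 qList qList_good (idTab_mem_spanTabs qGens) qList_mul

theorem mem_Q (a : ↥M23) : a ∈ Q ↔ ∃ l ∈ qList, TabM a l :=
  mem_tabSubgroup_iff qList_good (idTab_mem_spanTabs qGens) qList_mul a

theorem pcList_mul : ∀ l1 ∈ spanTabs pcGens, ∀ l2 ∈ spanTabs pcGens,
    mulTab l1 l2 ∈ spanTabs pcGens :=
  spanTabs_mul_closed pcGens_good (spanTabs_of_pcOK pcGens_good pcGens_pc).1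

/-- the Sylow `2`-subgroup -/
def P2 : Subgroup ↥M23 := tabSubgroup M23 (spanTabs pcGens) (goodTabs_spanTabs pcGens_good)
  (idTab_mem_spanTabs pcGens) pcList_mul

theorem card_P2 : Nat.card ↥P2 = 128 := by
  rw [P2, card_tabSubgroup _ _ _ (spanTabs_of_pcOK pcGens_good pcGens_pc).2, length_spanTabs]
  rfl

/-- **The prime `2`.** -/
theorem ker_two {Γ : Type*} [Group Γ] [Finite Γ] (σ : Γ →* ↥M23) (hσ : IsStemExtension σ)
    (hexp : ∀ a ∈ σ.ker, a * a = 1) : σ.ker = ⊥ := by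
  have hsurj := hσ.1
  have hcen := hσ.2.1
  have hok := pcGens_ok
  simp only [pcGens, List.cons_append, List.nil_append, List.all_cons, Bool.and_eq_true] at hok
  obtain ⟨hs2, hs1, -, -⟩ := hok
  obtain ⟨s1, hs1⟩ := tabM_of_ok hs1
  obtain ⟨s2, hs2⟩ := tabM_of_ok hs2
  obtain ⟨z, hz⟩ := tabM_of_ok z3_ok
  have htop := top_conj
  simp only [List.all_cons, List.all_nil, Bool.and_true, Bool.and_eq_true] at htop
  obtain ⟨a1, a2, a3⟩ := htop
  have hr2 : TabM ((s1 * s2) * (s1 * s2)) r2T := (hs1.mul hs2).mul (hs1.mul hs2)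
  have hzinv : z⁻¹ = z * z := hz.inv_of_cube z3_cube
  have hqs := q_s
  simp only [List.all_cons, List.all_nil, Bool.and_true, Bool.and_eq_true, tabBeq_iff,
    List.all_eq_true, elemTab_iff] at hqs
  obtain ⟨⟨b1, q1⟩, ⟨b2, q2⟩⟩ := hqs
  have hs1inv : s1⁻¹ = s1 := hs1.inv_of_sq b1
  have hs2inv : s2⁻¹ = s2 := hs2.inv_of_sq b2
  apply StemTwoC.ker_eq_bot_two_D8 σ hσ hexp Q z s1 s2
  · -- hQstar
    intro x hx γ hγ
    rw [mem_Q] at hx
    obtain ⟨l, hl, hxl⟩ := hx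
    have h1 := List.all_eq_true.mp q_conj l hl
    rw [Bool.or_eq_true, tabBeq_iff] at h1
    rcases h1 with h1 | h1
    · have e : x = 1 := hxl.eq_one h1
      exact hexp γ (by rw [MonoidHom.mem_ker, hγ, e])
    · exact invol_lift σ hsurj hcen hexp hxl h1 γ hγ
  · exact fun γ hγ => invol_lift σ hsurj hcen hexp hs1 a1 γ hγ
  · exact fun γ hγ => invol_lift σ hsurj hcen hexp hs2 a2 γ hγ
  · exact fun γ hγ => invol_lift σ hsurj hcen hexp hr2 a3 γ hγ
  · exact hz.cube_eq_one z3_cube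
  · -- hzQ
    intro x hx
    rw [mem_Q] at hx ⊢
    obtain ⟨l, hl, hxl⟩ := hx
    have h1 := List.all_eq_true.mp q_z l hl
    rw [elemTab_iff] at h1
    refine ⟨_, h1, ?_⟩
    rw [hzinv]
    exact (hz.mul hxl).mul (hz.mul hz)
  · -- hfpf
    intro x hx hfix
    rw [mem_Q] at hx
    obtain ⟨l, hl, hxl⟩ := hx
    have h1 := List.all_eq_true.mp q_fpf l hl
    rw [hzinv] at hfix
    have hx' : TabM (z * x * (z * z)) l := by rw [hfix]; exact hxl
    have h2 : mulTab (mulTab z3T l) (mulTab z3T z3T) = l :=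
      ((hz.mul hxl).mul (hz.mul hz)).tab_eq hx'
    rw [h2, (tabBeq_iff l l).2 rfl] at h1
    simp only [Bool.not_true, Bool.false_or, tabBeq_iff] at h1
    exact hxl.eq_one h1
  · -- hsQ
    intro t ht x hx
    rw [mem_Q] at hx ⊢
    obtain ⟨l, hl, hxl⟩ := hx
    rcases ht with rfl | rfl
    · rw [hs1inv]
      exact ⟨_, q1 l hl, (hs1.mul hxl).mul hs1⟩
    · rw [hs2inv]
      exact ⟨_, q2 l hl, (hs2.mul hxl).mul hs2⟩
  · -- hsz
    intro t ht
    rcases ht with rfl | rfl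
    · obtain ⟨e, hmem⟩ := sz_xs1
      rw [elemTab_iff] at hmem
      obtain ⟨x, hx⟩ := GoodTabs.exists_tabM qList_good hmem
      refine ⟨x, (mem_Q x).2 ⟨_, hmem, hx⟩, Or.inr ?_⟩
      rw [hs1inv, hzinv]
      exact ((hs1.mul hz).mul hs1).eq ((hz.mul hz).mul hx) e
    · obtain ⟨e, hmem⟩ := sz_xs2
      rw [elemTab_iff] at hmem
      obtain ⟨x, hx⟩ := GoodTabs.exists_tabM qList_good hmem
      refine ⟨x, (mem_Q x).2 ⟨_, hmem, hx⟩, Or.inl ?_⟩
      rw [hs2inv]
      exact ((hs2.mul hz).mul hs2).eq (hz.mul hx) e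
  · -- hnf
    intro i j hi hj hmem
    rw [mem_Q] at hmem
    obtain ⟨l, hl, hxl⟩ := hmem
    have ht : TabM ((s1 * s2) ^ i * s1 ^ j) (mulTab (powTab rT i) (powTab s1T j)) :=
      ((hs1.mul hs2).pow i).mul (hs1.pow j)
    have e := hxl.tab_eq ht
    rw [e, ← elemTab_iff] at hl
    have hnf := nf_ok
    simp only [List.all_eq_true, List.mem_range] at hnf
    have h1 := hnf i hi j hj
    rw [hl] at h1
    simp only [Bool.not_true, Bool.false_or, Bool.and_eq_true, Nat.beq_eq] at h1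
    exact h1
  · -- hidx
    have hle : P2 ≤ closure ((Q : Set ↥M23) ∪ {s1, s2}) := by
      intro a ha
      rw [P2, mem_tabSubgroup_iff] at ha
      obtain ⟨l, hl, hal⟩ := ha
      have h1 := mem_closure_of_spanTabs pcGens_good l hl a hal
      refine (closure_le _).2 ?_ h1
      rintro b ⟨s, hs, hb⟩
      simp only [pcGens, List.cons_append, List.nil_append, List.mem_cons] at hs
      rcases hs with rfl | rfl | rfl | hs
      · rw [hb.eq hs2 rfl]
        exact subset_closure (Or.inr (by simp))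
      · rw [hb.eq hs1 rfl]
        exact subset_closure (Or.inr (by simp))
      · rw [hb.eq hr2 rfl]
        have m1 : s1 ∈ closure ((Q : Set ↥M23) ∪ {s1, s2}) :=
          subset_closure (Or.inr (by simp))
        have m2 : s2 ∈ closure ((Q : Set ↥M23) ∪ {s1, s2}) :=
          subset_closure (Or.inr (by simp))
        exact mul_mem (mul_mem m1 m2) (mul_mem m1 m2)
      · apply Subgroup.subset_closure
        left
        show b ∈ Q
        rw [mem_Q]
        refine ⟨s, ?_, hb⟩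
        have h2 := List.all_eq_true.mp qGens_sub s hs
        rw [elemTab_iff] at h2
        exact h2
    exact StemLocal.not_dvd_index_of_le hle card_P2 card_M23 (by norm_num) (by norm_num)

/-! ### The prime `3` -/

theorem mem_l9 (l : List ℕ) : l ∈ l9 ↔ ∃ i < 3, ∃ j < 3,
    l = mulTab (powTab z3T i) (powTab y3T j) := by
  simp only [l9, List.mem_flatMap, List.mem_map, List.mem_range]
  constructor
  · rintro ⟨i, hi, j, hj, rfl⟩
    exact ⟨i, hi, j, hj, rfl⟩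
  · rintro ⟨i, hi, j, hj, rfl⟩
    exact ⟨i, hi, j, hj, rfl⟩

/-- **The prime `3`.** -/
theorem ker_three {Γ : Type*} [Group Γ] [Finite Γ] (σ : Γ →* ↥M23) (hσ : IsStemExtension σ)
    (hexp : ∀ a ∈ σ.ker, a ^ 3 = 1) : σ.ker = ⊥ := by
  have hok := p3_ok
  simp only [List.all_cons, List.all_nil, Bool.and_true, Bool.and_eq_true] at hok
  obtain ⟨hy, hu⟩ := hok
  obtain ⟨x, hx⟩ := tabM_of_ok z3_ok
  obtain ⟨y, hy⟩ := tabM_of_ok hy
  obtain ⟨u, hu⟩ := tabM_of_ok hu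
  obtain ⟨r2, r3, r4, r5, r6⟩ := p3_rel
  have huinv : u⁻¹ = u := hu.inv_of_sq r3
  have hyinv : y⁻¹ = y * y := hy.inv_of_cube r2
  have hxy : x * y = y * x := (hx.mul hy).eq (hy.mul hx) r4
  have hux : u * x * u⁻¹ = x := by
    rw [huinv]
    exact ((hu.mul hx).mul hu).eq hx r5
  have huy : u * y * u⁻¹ = y⁻¹ := by
    rw [huinv, hyinv]
    exact ((hu.mul hy).mul hu).eq (hy.mul hy) r6
  have hgood : GoodTabs M23 l9 := by
    intro l hl
    rw [mem_l9] at hl
    obtain ⟨i, -, j, -, rfl⟩ := hl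
    exact ((hx.pow i).mul (hy.pow j)).good
  have hone : idTab ∈ l9 := (elemTab_iff _ _).1 l9_one
  have hmul : ∀ l1 ∈ l9, ∀ l2 ∈ l9, mulTab l1 l2 ∈ l9 := by
    intro l1 h1 l2 h2
    have := List.all_eq_true.mp (List.all_eq_true.mp l9_mul l1 h1) l2 h2
    rwa [elemTab_iff] at this
  have hcard : Nat.card ↥(tabSubgroup M23 l9 hgood hone hmul) = 9 := by
    rw [card_tabSubgroup _ _ _ l9_nodup]
    rfl
  have hle : tabSubgroup M23 l9 hgood hone hmul ≤ closure ({x, y} : Set ↥M23) := by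
    intro a ha
    rw [mem_tabSubgroup_iff] at ha
    obtain ⟨l, hl, hal⟩ := ha
    rw [mem_l9] at hl
    obtain ⟨i, -, j, -, rfl⟩ := hl
    rw [hal.eq ((hx.pow i).mul (hy.pow j)) rfl]
    have m1 : x ∈ closure ({x, y} : Set ↥M23) := Subgroup.subset_closure (by simp)
    have m2 : y ∈ closure ({x, y} : Set ↥M23) := Subgroup.subset_closure (by simp)
    exact mul_mem (pow_mem m1 i) (pow_mem m2 j)
  exact StemThree.ker_eq_bot_three_abelian σ hσ hexp x y u hxy hux huy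
    (StemLocal.not_dvd_index_of_le hle hcard card_M23 (by norm_num) (by norm_num))

/-! ### The other primes -/

theorem not_sq_dvd {p : ℕ} (hp : p.Prime) (h2 : p ≠ 2) (h3 : p ≠ 3) : ¬ p ^ 2 ∣ 10200960 := by
  intro h
  have e : (10200960 : ℕ) = 1152 * 8855 := by norm_num
  rw [e] at h
  have hc2 : Nat.Coprime p 2 := (Nat.coprime_primes hp Nat.prime_two).2 h2
  have hc3 : Nat.Coprime p 3 := (Nat.coprime_primes hp Nat.prime_three).2 h3
  have hc : Nat.Coprime (p ^ 2) 1152 := by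
    have e2 : (1152 : ℕ) = 2 ^ 7 * 3 ^ 2 := by norm_num
    rw [e2]
    exact Nat.Coprime.pow_left 2 (Nat.Coprime.mul_right (hc2.pow_right 7) (hc3.pow_right 2))
  have h' : p ^ 2 ∣ 8855 := hc.dvd_of_dvd_mul_left h
  have hle : p ^ 2 ≤ 8855 := Nat.le_of_dvd (by norm_num) h'
  have hlt : p < 95 := by nlinarith
  have key : ∀ q < 95, q ^ 2 ∣ 8855 → q = 1 := by decide
  exact hp.one_lt.ne' (key p hlt h')

/-- **The Schur multiplier of `M23` is trivial.** -/
theorem multiplier_M23 : HasCyclicSchurMultiplier ↥M23 1 := by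
  apply StemRed.trivial_of_primes
  intro p hp Γ _ _ σ hσ hexp
  by_cases h2 : p = 2
  · subst h2
    exact ker_two σ hσ (fun a ha => by rw [← pow_two]; exact hexp a ha)
  by_cases h3 : p = 3
  · subst h3
    exact ker_three σ hσ hexp
  apply StemLocal.ker_eq_bot_of_not_sq_dvd σ hσ hp hexp
  rw [card_M23]
  exact not_sq_dvd hp h2 h3

end Cfsg.Agent.Helper91.M23Mult
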