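import Cfsg.Agent.Lib.Helper91.TabM
import Cfsg.Agent.Lib.Helper27.M23Gen

/-!
# Data for the Schur multiplier of `M23`

Tables of: a basis `qGens` of `Q = 2^4 = O_2` of the subgroup `2^4:(3 x A5):2`; involutions `s1T`,
`s2T` generating a complement `D8` to `Q` in a Sylow `2`-subgroup; an element `z3T` of order `3`
normalizing `Q` fixed-point-freely; conjugators (in `M23`) of the needed involutions to the
representative `tT`; and generators `z3T`, `y3T` of a Sylow `3`-subgroup with the involution `u3T`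
centralizing `z3T` and inverting `y3T`.  All facts are checked by `decide +kernel`.
-/

set_option autoImplicit false

namespace Cfsg.Agent.Helper91.M23Mult
open Cfsg Cfsg.Agent.Helper7 Cfsg.Agent.Helper91

/-- The table is that of an element of `M23`. -/
def m23TabOK (l : List ℕ) : Bool := m24TabOK l && Nat.beq (l.getD 23 0) 23

def qGens : List (List ℕ) := [[0, 14, 2, 17, 10, 5, 11, 22, 13, 12, 4, 6, 9, 8, 1, 15, 16, 3, 18, 20, 19, 21, 7, 23],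
  [0, 17, 2, 14, 4, 5, 6, 22, 19, 12, 10, 11, 9, 20, 3, 21, 18, 1, 16, 8, 13, 15, 7, 23],
  [0, 17, 2, 14, 6, 5, 4, 7, 13, 9, 11, 10, 12, 8, 3, 16, 15, 1, 21, 20, 19, 18, 22, 23],
  [0, 14, 2, 17, 4, 5, 6, 9, 20, 7, 10, 11, 22, 19, 1, 16, 15, 3, 21, 13, 8, 18, 12, 23]]

def s1T : List ℕ := [0, 1, 5, 3, 19, 2, 8, 7, 6, 9, 13, 20, 22, 10, 17, 21, 16, 14, 18, 4, 11, 15, 12, 23]

def s2T : List ℕ := [0, 1, 2, 3, 22, 5, 7, 6, 18, 10, 9, 12, 11, 16, 14, 20, 13, 17, 8, 21, 15, 19, 4, 23]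

def z3T : List ℕ := [2, 14, 5, 3, 4, 0, 11, 12, 19, 7, 6, 10, 9, 8, 17, 15, 18, 1, 21, 13, 20, 16, 22, 23]

/-- the representative involution -/
def tT : List ℕ := [0, 14, 2, 17, 10, 5, 11, 22, 13, 12, 4, 6, 9, 8, 1, 15, 16, 3, 18, 20, 19, 21, 7, 23]

/-- the rotation `s1 * s2` of order four -/
def rT : List ℕ := mulTab s1T s2T

def r2T : List ℕ := mulTab rT rT

def pcGens : List (List ℕ) := [s2T, s1T, r2T] ++ qGens

def qList : List (List ℕ) := spanTabs qGens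

def xs1 : List ℕ := [0, 1, 2, 3, 6, 5, 4, 22, 20, 12, 11, 10, 9, 19, 14, 18, 21, 17, 15, 13, 8, 16, 7, 23]

def xs2 : List ℕ := [0, 1, 2, 3, 4, 5, 6, 7, 8, 9, 10, 11, 12, 13, 14, 15, 16, 17, 18, 19, 20, 21, 22, 23]

/-- involutions with conjugators to `tT` -/
def conjL : List (List ℕ × List ℕ) := [([0, 14, 2, 17, 4, 5, 6, 9, 20, 7, 10, 11, 22, 19, 1, 16, 15, 3, 21, 13, 8, 18, 12, 23], [4, 19, 5, 14, 21, 6, 9, 12, 3, 15, 18, 7, 16, 17, 13, 10, 0, 1, 2, 8, 20, 11, 22, 23]),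
  ([0, 17, 2, 14, 6, 5, 4, 7, 13, 9, 11, 10, 12, 8, 3, 16, 15, 1, 21, 20, 19, 18, 22, 23], [9, 3, 12, 10, 15, 0, 8, 6, 19, 17, 16, 13, 1, 20, 14, 5, 7, 11, 2, 18, 21, 22, 4, 23]),
  ([0, 3, 2, 1, 6, 5, 4, 9, 19, 7, 11, 10, 22, 20, 17, 15, 16, 14, 18, 8, 13, 21, 12, 23], [21, 7, 15, 14, 4, 0, 13, 12, 11, 3, 6, 20, 1, 10, 9, 16, 2, 17, 18, 19, 8, 5, 22, 23]),
  ([0, 17, 2, 14, 4, 5, 6, 22, 19, 12, 10, 11, 9, 20, 3, 21, 18, 1, 16, 8, 13, 15, 7, 23], [11, 18, 4, 17, 7, 5, 20, 14, 19, 15, 22, 13, 21, 8, 16, 0, 10, 1, 2, 12, 9, 6, 3, 23]),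
  ([0, 3, 2, 1, 4, 5, 6, 12, 13, 22, 10, 11, 7, 8, 17, 18, 21, 14, 15, 20, 19, 16, 9, 23], [4, 9, 0, 15, 20, 11, 1, 17, 21, 13, 19, 3, 8, 16, 22, 10, 5, 18, 2, 12, 7, 6, 14, 23]),
  ([0, 1, 2, 3, 6, 5, 4, 22, 20, 12, 11, 10, 9, 19, 14, 18, 21, 17, 15, 13, 8, 16, 7, 23], [14, 13, 1, 4, 7, 5, 21, 8, 9, 11, 22, 16, 10, 12, 19, 3, 0, 6, 17, 15, 18, 2, 20, 23]),
  ([0, 14, 2, 17, 6, 5, 4, 12, 8, 22, 11, 10, 7, 13, 1, 21, 18, 3, 16, 19, 20, 15, 9, 23], [19, 12, 8, 3, 11, 0, 21, 22, 6, 14, 10, 15, 1, 4, 7, 13, 5, 17, 20, 16, 18, 2, 9, 23]),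
  ([0, 14, 2, 17, 10, 5, 11, 22, 13, 12, 4, 6, 9, 8, 1, 15, 16, 3, 18, 20, 19, 21, 7, 23], [0, 1, 2, 3, 4, 5, 6, 7, 8, 9, 10, 11, 12, 13, 14, 15, 16, 17, 18, 19, 20, 21, 22, 23]),
  ([0, 1, 2, 3, 10, 5, 11, 12, 19, 22, 4, 6, 7, 20, 14, 16, 15, 17, 21, 8, 13, 18, 9, 23], [1, 10, 3, 22, 18, 5, 19, 7, 13, 11, 21, 8, 6, 20, 4, 2, 17, 9, 0, 15, 16, 14, 12, 23]),
  ([0, 3, 2, 1, 11, 5, 10, 22, 8, 12, 6, 4, 9, 13, 17, 16, 15, 14, 21, 19, 20, 18, 7, 23], [19, 4, 0, 3, 18, 20, 12, 15, 10, 22, 21, 9, 7, 6, 11, 5, 8, 1, 13, 14, 17, 2, 16, 23]),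
  ([0, 17, 2, 14, 11, 5, 10, 12, 20, 22, 6, 4, 7, 19, 3, 15, 16, 1, 18, 13, 8, 21, 9, 23], [16, 12, 5, 20, 1, 18, 4, 6, 13, 3, 17, 11, 14, 19, 7, 21, 0, 8, 2, 22, 9, 15, 10, 23]),
  ([0, 3, 2, 1, 10, 5, 11, 7, 20, 9, 4, 6, 12, 19, 17, 21, 18, 14, 16, 13, 8, 15, 22, 23], [12, 11, 22, 19, 3, 0, 21, 10, 14, 20, 1, 15, 8, 17, 6, 9, 2, 13, 7, 18, 16, 5, 4, 23]),
  ([0, 17, 2, 14, 10, 5, 11, 9, 8, 7, 4, 6, 22, 13, 3, 18, 21, 1, 15, 19, 20, 16, 12, 23], [19, 22, 5, 3, 21, 20, 6, 10, 1, 18, 16, 11, 15, 17, 12, 13, 0, 14, 2, 7, 9, 8, 4, 23]),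
  ([0, 14, 2, 17, 11, 5, 10, 7, 19, 9, 6, 4, 12, 20, 1, 18, 21, 3, 15, 8, 13, 16, 22, 23], [7, 1, 12, 20, 4, 0, 21, 8, 15, 3, 11, 16, 17, 18, 14, 5, 22, 13, 2, 10, 6, 9, 19, 23]),
  ([0, 1, 2, 3, 11, 5, 10, 9, 13, 7, 6, 4, 22, 8, 14, 21, 18, 17, 16, 20, 19, 15, 12, 23], [14, 10, 0, 19, 12, 17, 16, 7, 4, 15, 22, 18, 21, 11, 6, 5, 3, 20, 1, 8, 13, 2, 9, 23]),
  ([0, 1, 5, 3, 19, 2, 8, 7, 6, 9, 13, 20, 22, 10, 17, 21, 16, 14, 18, 4, 11, 15, 12, 23], [9, 21, 18, 10, 4, 3, 14, 8, 2, 12, 19, 17, 22, 5, 15, 0, 7, 13, 1, 11, 20, 16, 6, 23]),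
  ([0, 1, 2, 3, 22, 5, 7, 6, 18, 10, 9, 12, 11, 16, 14, 20, 13, 17, 8, 21, 15, 19, 4, 23], [1, 10, 2, 20, 4, 0, 13, 18, 21, 12, 22, 16, 11, 19, 9, 14, 17, 15, 3, 7, 6, 5, 8, 23]),
  ([0, 1, 2, 3, 20, 5, 8, 18, 6, 16, 13, 19, 21, 10, 14, 22, 9, 17, 7, 11, 4, 12, 15, 23], [14, 16, 5, 20, 15, 0, 13, 11, 6, 7, 22, 10, 18, 8, 9, 1, 17, 4, 3, 12, 21, 2, 19, 23])]

def e1x : List ℕ := [0, 14, 2, 17, 10, 5, 11, 22, 13, 12, 4, 6, 9, 8, 1, 15, 16, 3, 18, 20, 19, 21, 7, 23]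

def e1y : List ℕ := [0, 17, 2, 14, 4, 5, 6, 22, 19, 12, 10, 11, 9, 20, 3, 21, 18, 1, 16, 8, 13, 15, 7, 23]

def e1w : List ℕ := [0, 17, 2, 14, 6, 5, 4, 7, 13, 9, 11, 10, 12, 8, 3, 16, 15, 1, 21, 20, 19, 18, 22, 23]

def e1c0 : List ℕ := [0, 1, 2, 3, 4, 5, 6, 7, 8, 9, 10, 11, 12, 13, 14, 15, 16, 17, 18, 19, 20, 21, 22, 23]

def e1c1 : List ℕ := [11, 18, 4, 17, 7, 5, 20, 14, 19, 15, 22, 13, 21, 8, 16, 0, 10, 1, 2, 12, 9, 6, 3, 23]

def e1c2 : List ℕ := [9, 3, 12, 10, 15, 0, 8, 6, 19, 17, 16, 13, 1, 20, 14, 5, 7, 11, 2, 18, 21, 22, 4, 23]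

def e1c3 : List ℕ := [12, 11, 22, 19, 3, 0, 21, 10, 14, 20, 1, 15, 8, 17, 6, 9, 2, 13, 7, 18, 16, 5, 4, 23]

def e1c4 : List ℕ := [19, 4, 0, 3, 18, 20, 12, 15, 10, 22, 21, 9, 7, 6, 11, 5, 8, 1, 13, 14, 17, 2, 16, 23]

def e1c5 : List ℕ := [14, 13, 1, 4, 7, 5, 21, 8, 9, 11, 22, 16, 10, 12, 19, 3, 0, 6, 17, 15, 18, 2, 20, 23]

def e1c6 : List ℕ := [7, 1, 12, 20, 4, 0, 21, 8, 15, 3, 11, 16, 17, 18, 14, 5, 22, 13, 2, 10, 6, 9, 19, 23]

def y3T : List ℕ := [0, 9, 2, 22, 3, 5, 14, 6, 19, 10, 1, 17, 11, 8, 7, 15, 21, 12, 16, 13, 20, 18, 4, 23]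

def u3T : List ℕ := [0, 1, 2, 3, 22, 5, 7, 6, 18, 10, 9, 12, 11, 16, 14, 20, 13, 17, 8, 21, 15, 19, 4, 23]


/-- the `9` elements `x^i y^j` -/
def l9 : List (List ℕ) :=
  (List.range 3).flatMap fun i => (List.range 3).map fun j => mulTab (powTab z3T i) (powTab y3T j)

/-- the involution is conjugate to `tT` by an element of the list -/
def conjOK (l : List ℕ) : Bool :=
  conjL.any (fun td => tabBeq td.1 l && tabBeq (mulTab l td.2) (mulTab td.2 tT))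

set_option maxRecDepth 100000 in
theorem pcGens_ok : pcGens.all m23TabOK = true := by decide +kernel

set_option maxRecDepth 100000 in
theorem pcGens_pc : pcOK pcGens = true := by decide +kernel

set_option maxRecDepth 100000 in
theorem qGens_pc : pcOK qGens = true := by decide +kernel

set_option maxRecDepth 100000 in
theorem qGens_sub : qGens.all (fun l => elemTab l qList) = true := by decide +kernel

set_option maxRecDepth 100000 in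
theorem z3_ok : m23TabOK z3T = true := by decide +kernel

set_option maxRecDepth 100000 in
theorem conjL_ok : conjL.all (fun td => m23TabOK td.2) = true := by decide +kernel

set_option maxRecDepth 100000 in
theorem t_ok : m23TabOK tT = true ∧ mulTab tT tT = idTab := by decide +kernel

set_option maxRecDepth 100000 in
theorem q_conj : qList.all (fun l => tabBeq l idTab || conjOK l) = true := by decide +kernel

set_option maxRecDepth 100000 in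
theorem top_conj : [s1T, s2T, r2T].all conjOK = true := by decide +kernel

set_option maxRecDepth 100000 in
theorem q_z : qList.all (fun l => elemTab (mulTab (mulTab z3T l) (mulTab z3T z3T)) qList) = true := by
  decide +kernel

set_option maxRecDepth 100000 in
theorem q_fpf : qList.all (fun l => !tabBeq (mulTab (mulTab z3T l) (mulTab z3T z3T)) l ||
    tabBeq l idTab) = true := by decide +kernel

set_option maxRecDepth 100000 in
theorem z3_cube : powTab z3T 3 = idTab := by decide +kernel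

set_option maxRecDepth 100000 in
theorem q_s : [s1T, s2T].all (fun t => tabBeq (mulTab t t) idTab &&
    qList.all (fun l => elemTab (mulTab (mulTab t l) t) qList)) = true := by decide +kernel

set_option maxRecDepth 100000 in
theorem sz_xs1 : mulTab (mulTab s1T z3T) s1T = mulTab (mulTab z3T z3T) xs1 ∧ elemTab xs1 qList = true := by
  decide +kernel

set_option maxRecDepth 100000 in
theorem sz_xs2 : mulTab (mulTab s2T z3T) s2T = mulTab z3T xs2 ∧ elemTab xs2 qList = true := by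
  decide +kernel


set_option maxRecDepth 100000 in
theorem nf_ok : (List.range 4).all (fun i => (List.range 2).all fun j =>
    !elemTab (mulTab (powTab rT i) (powTab s1T j)) qList ||
      (Nat.beq i 0 && Nat.beq j 0)) = true := by decide +kernel

set_option maxRecDepth 100000 in
theorem e1_ok : [e1x, e1y, e1w, e1c0, e1c1, e1c2, e1c3, e1c4, e1c5, e1c6].all m23TabOK = true := by
  decide +kernel

set_option maxRecDepth 100000 in
theorem e1_conj : mulTab e1x e1c0 = mulTab e1c0 tT ∧ mulTab e1y e1c1 = mulTab e1c1 tT ∧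
    mulTab e1w e1c2 = mulTab e1c2 tT ∧ mulTab (mulTab e1x e1y) e1c3 = mulTab e1c3 tT ∧
    mulTab (mulTab e1x e1w) e1c4 = mulTab e1c4 tT ∧ mulTab (mulTab e1y e1w) e1c5 = mulTab e1c5 tT ∧
    mulTab (mulTab (mulTab e1x e1y) e1w) e1c6 = mulTab e1c6 tT := by decide +kernel

set_option maxRecDepth 100000 in
theorem e1_comm : mulTab e1x e1y = mulTab e1y e1x ∧ mulTab e1x e1w = mulTab e1w e1x ∧
    mulTab e1y e1w = mulTab e1w e1y := by decide +kernel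

set_option maxRecDepth 100000 in
theorem p3_ok : [y3T, u3T].all m23TabOK = true := by decide +kernel

set_option maxRecDepth 100000 in
theorem p3_rel : powTab y3T 3 = idTab ∧ mulTab u3T u3T = idTab ∧
    mulTab z3T y3T = mulTab y3T z3T ∧ mulTab (mulTab u3T z3T) u3T = z3T ∧
    mulTab (mulTab u3T y3T) u3T = mulTab y3T y3T := by
  decide +kernel

set_option maxRecDepth 100000 in
theorem l9_mul : l9.all (fun a => l9.all fun b => elemTab (mulTab a b) l9) = true := by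
  decide +kernel

set_option maxRecDepth 100000 in
theorem l9_nodup : l9.Nodup := by decide +kernel

set_option maxRecDepth 100000 in
theorem l9_one : elemTab idTab l9 = true := by decide +kernel

end Cfsg.Agent.Helper91.M23Mult
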