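import Cfsg.Agent.Lib.Helper91.M24MultData
import Cfsg.Agent.Lib.Helper91.StemTwoB

/-!
# The Schur multiplier of `M24` is trivial

Assembly of the local criteria (`StemTwoB.ker_eq_bot_two`, `StemThree.ker_eq_bot_three_extraspecial`,
`StemLocal.ker_eq_bot_of_not_sq_dvd`) with the table data of `M24MultData`.
-/

set_option autoImplicit false

namespace Cfsg.Agent.Helper91.M24Mult
open Cfsg Cfsg.Agent.Helper7 Cfsg.Agent.Helper91 Subgroup
open scoped commutatorElement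

theorem tabM_of_ok {l : List ℕ} (h : m24TabOK l = true) : ∃ a : ↥M24, TabM a l := by
  obtain ⟨h1, h2⟩ := m24TabOK_spec h
  exact ⟨⟨permOfTab l h1, h2⟩, tab_permOfTab l h1, (tabOK_spec h1).1⟩

section Two

variable {Γ : Type*} [Group Γ] (σ : Γ →* ↥M24) (hsurj : Function.Surjective σ)
  (hcen : σ.ker ≤ center Γ) (hexp : ∀ a ∈ σ.ker, a * a = 1)

include hsurj hcen hexp in
/-- every lift of the `2A` representative is an involution -/
theorem oct_lift {t : ↥M24} (ht : TabM t octInvTab) (τ : Γ) (hτ : σ τ = t) : τ * τ = 1 := by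
  have hok := e1_ok
  simp only [List.all_cons, List.all_nil, Bool.and_true, Bool.and_eq_true] at hok
  obtain ⟨hx, hy, hw, h0, h1, h2, h3, h4, h5, h6⟩ := hok
  obtain ⟨x, hx⟩ := tabM_of_ok hx
  obtain ⟨y, hy⟩ := tabM_of_ok hy
  obtain ⟨w, hw⟩ := tabM_of_ok hw
  obtain ⟨c0, h0⟩ := tabM_of_ok h0
  obtain ⟨c1, h1⟩ := tabM_of_ok h1
  obtain ⟨c2, h2⟩ := tabM_of_ok h2
  obtain ⟨c3, h3⟩ := tabM_of_ok h3
  obtain ⟨c4, h4⟩ := tabM_of_ok h4
  obtain ⟨c5, h5⟩ := tabM_of_ok h5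
  obtain ⟨c6, h6⟩ := tabM_of_ok h6
  obtain ⟨k1, k2, k3, k4, k5, k6, k7⟩ := e1_conj
  obtain ⟨m1, m2, m3⟩ := e1_comm
  exact StemTwo.star σ hsurj hcen hexp t x y w (ht.sq_eq_one reps_ok.2.2.1)
    ((hx.mul hy).eq (hy.mul hx) m1) ((hx.mul hw).eq (hw.mul hx) m2)
    ((hy.mul hw).eq (hw.mul hy) m3)
    ⟨c0, hx.conj_eq h0 ht k1⟩ ⟨c1, hy.conj_eq h1 ht k2⟩ ⟨c2, hw.conj_eq h2 ht k3⟩
    ⟨c3, (hx.mul hy).conj_eq h3 ht k4⟩ ⟨c4, (hx.mul hw).conj_eq h4 ht k5⟩
    ⟨c5, (hy.mul hw).conj_eq h5 ht k6⟩ ⟨c6, ((hx.mul hy).mul hw).conj_eq h6 ht k7⟩ τ hτ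

include hsurj hcen hexp in
/-- every lift of the `2B` representative is an involution -/
theorem fpf_lift {t : ↥M24} (ht : TabM t fpfInvTab) (τ : Γ) (hτ : σ τ = t) : τ * τ = 1 := by
  have hok := e2_ok
  simp only [List.all_cons, List.all_nil, Bool.and_true, Bool.and_eq_true] at hok
  obtain ⟨hx, hy, hw, h0, h1, h2, h3, h4, h5, h6⟩ := hok
  obtain ⟨x, hx⟩ := tabM_of_ok hx
  obtain ⟨y, hy⟩ := tabM_of_ok hy
  obtain ⟨w, hw⟩ := tabM_of_ok hw
  obtain ⟨c0, h0⟩ := tabM_of_ok h0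
  obtain ⟨c1, h1⟩ := tabM_of_ok h1
  obtain ⟨c2, h2⟩ := tabM_of_ok h2
  obtain ⟨c3, h3⟩ := tabM_of_ok h3
  obtain ⟨c4, h4⟩ := tabM_of_ok h4
  obtain ⟨c5, h5⟩ := tabM_of_ok h5
  obtain ⟨c6, h6⟩ := tabM_of_ok h6
  obtain ⟨k1, k2, k3, k4, k5, k6, k7⟩ := e2_conj
  obtain ⟨m1, m2, m3⟩ := e2_comm
  exact StemTwo.star σ hsurj hcen hexp t x y w (ht.sq_eq_one reps_ok.2.2.2)
    ((hx.mul hy).eq (hy.mul hx) m1) ((hx.mul hw).eq (hw.mul hx) m2)
    ((hy.mul hw).eq (hw.mul hy) m3)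
    ⟨c0, hx.conj_eq h0 ht k1⟩ ⟨c1, hy.conj_eq h1 ht k2⟩ ⟨c2, hw.conj_eq h2 ht k3⟩
    ⟨c3, (hx.mul hy).conj_eq h3 ht k4⟩ ⟨c4, (hx.mul hw).conj_eq h4 ht k5⟩
    ⟨c5, (hy.mul hw).conj_eq h5 ht k6⟩ ⟨c6, ((hx.mul hy).mul hw).conj_eq h6 ht k7⟩ τ hτ

include hsurj hcen hexp in
/-- every lift of an involution of the Sylow `2`-subgroup is an involution -/
theorem invol_lift {a : ↥M24} {l : List ℕ} (ha : TabM a l) (hl : l ∈ spanTabs syl24Gens)
    (h2 : a * a = 1) (γ : Γ) (hγ : σ γ = a) : γ * γ = 1 := by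
  have hinv := List.all_eq_true.mp syl24_invol l hl
  have hll : mulTab l l = idTab := ha.tab_of_sq_one h2
  simp only [involOK, Bool.or_eq_true, Bool.not_eq_true', List.any_eq_true, Bool.and_eq_true,
    tabBeq_iff] at hinv
  rcases hinv with (hf | h1) | ⟨td, htd, e1, hc⟩
  · rw [hll] at hf
    have : tabBeq idTab idTab = true := (tabBeq_iff _ _).2 rfl
    rw [this] at hf
    exact absurd hf (by decide)
  · have e : a = 1 := ha.eq_one h1
    exact hexp γ (by rw [MonoidHom.mem_ker, hγ, e])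
  · obtain ⟨g, hg⟩ := tabM_of_ok (List.all_eq_true.mp syl24Conj_ok td htd)
    subst e1
    rcases hc with hc | hc
    · obtain ⟨t, ht⟩ := tabM_of_ok reps_ok.1
      obtain ⟨δ, hδ⟩ := hsurj t
      have hδ2 := oct_lift σ hsurj hcen hexp ht δ hδ
      have e : g * a = t * g := (hg.mul ha).eq (ht.mul hg) hc
      have e' : σ γ = g⁻¹ * σ δ * (g⁻¹)⁻¹ := by
        rw [hγ, hδ, inv_inv, mul_assoc, ← e]
        group
      rw [StemTwo.sq_lift_conj σ hsurj hcen hexp (by rw [hδ2]; exact one_mem _) e', hδ2]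
    · obtain ⟨t, ht⟩ := tabM_of_ok reps_ok.2.1
      obtain ⟨δ, hδ⟩ := hsurj t
      have hδ2 := fpf_lift σ hsurj hcen hexp ht δ hδ
      have e : g * a = t * g := (hg.mul ha).eq (ht.mul hg) hc
      have e' : σ γ = g⁻¹ * σ δ * (g⁻¹)⁻¹ := by
        rw [hγ, hδ, inv_inv, mul_assoc, ← e]
        group
      rw [StemTwo.sq_lift_conj σ hsurj hcen hexp (by rw [hδ2]; exact one_mem _) e', hδ2]

end Two

/-! ### The sextet kernel `Q` and the Sylow `2`-subgroup -/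

theorem pcGens_good : GoodTabs M24 pcGens := goodTabs_M24_of_ok pcGens_ok

theorem qGens_good : GoodTabs M24 qGens := fun l hl =>
  pcGens_good l (List.mem_append_right _ hl)

set_option maxRecDepth 100000 in
theorem qGens_pc : pcOK qGens = true := by decide +kernel

set_option maxRecDepth 100000 in
theorem qGens_sub : qGens.all (fun l => elemTab l qList) = true := by decide +kernel

theorem qList_good : GoodTabs M24 qList := goodTabs_spanTabs qGens_good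

theorem qList_mul : ∀ l1 ∈ qList, ∀ l2 ∈ qList, mulTab l1 l2 ∈ qList :=
  spanTabs_mul_closed qGens_good (spanTabs_of_pcOK qGens_good qGens_pc).1

/-- the sextet kernel `2^6` -/
def Q : Subgroup ↥M24 := tabSubgroup M24 qList qList_good (idTab_mem_spanTabs qGens) qList_mul

theorem mem_Q (a : ↥M24) : a ∈ Q ↔ ∃ l ∈ qList, TabM a l :=
  mem_tabSubgroup_iff qList_good (idTab_mem_spanTabs qGens) qList_mul a

theorem pcList_mul : ∀ l1 ∈ spanTabs pcGens, ∀ l2 ∈ spanTabs pcGens,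
    mulTab l1 l2 ∈ spanTabs pcGens :=
  spanTabs_mul_closed pcGens_good (spanTabs_of_pcOK pcGens_good pcGens_pc).1

/-- the Sylow `2`-subgroup -/
def P2 : Subgroup ↥M24 := tabSubgroup M24 (spanTabs pcGens) (goodTabs_spanTabs pcGens_good)
  (idTab_mem_spanTabs pcGens) pcList_mul

theorem card_P2 : Nat.card ↥P2 = 1024 := by
  rw [P2, card_tabSubgroup _ _ _ (spanTabs_of_pcOK pcGens_good pcGens_pc).2, length_spanTabs]
  rfl

/-- **The prime `2`.** -/
theorem ker_two {Γ : Type*} [Group Γ] [Finite Γ] (σ : Γ →* ↥M24) (hσ : IsStemExtension σ)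
    (hexp : ∀ a ∈ σ.ker, a * a = 1) : σ.ker = ⊥ := by
  have hsurj := hσ.1
  have hcen := hσ.2.1
  have hok := pcGens_ok
  simp only [pcGens, List.cons_append, List.nil_append, List.all_cons, Bool.and_eq_true] at hok
  obtain ⟨hc, hs2, hs1, -, -⟩ := hok
  obtain ⟨c, hc⟩ := tabM_of_ok hc
  obtain ⟨s1, hs1⟩ := tabM_of_ok hs1
  obtain ⟨s2, hs2⟩ := tabM_of_ok hs2
  obtain ⟨z, hz⟩ := tabM_of_ok z3_ok
  have htop := top_old
  simp only [List.all_cons, List.all_nil, Bool.and_true, Bool.and_eq_true, elemTab_iff,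
    tabBeq_iff] at htop
  obtain ⟨⟨a1, b1⟩, ⟨a2, b2⟩, ⟨a3, b3⟩, ⟨a4, b4⟩, ⟨a5, b5⟩, ⟨a6, b6⟩⟩ := htop
  have hr2 : TabM ((s1 * s2) * (s1 * s2)) r2T := (hs1.mul hs2).mul (hs1.mul hs2)
  have hzinv : z⁻¹ = z * z := hz.inv_of_cube z3_cube
  have hqs := q_s
  simp only [List.all_cons, List.all_nil, Bool.and_true, Bool.and_eq_true, tabBeq_iff,
    List.all_eq_true, elemTab_iff] at hqs
  obtain ⟨⟨-, q1⟩, ⟨-, q2⟩, ⟨-, q3⟩⟩ := hqs
  have hs1inv : s1⁻¹ = s1 := hs1.inv_of_sq b1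
  have hs2inv : s2⁻¹ = s2 := hs2.inv_of_sq b2
  have hcinv : c⁻¹ = c := hc.inv_of_sq b3
  apply StemTwoB.ker_eq_bot_two σ hσ hexp Q z s1 s2 c
  · -- hQstar
    intro x hx γ hγ
    rw [mem_Q] at hx
    obtain ⟨l, hl, hxl⟩ := hx
    have h1 := List.all_eq_true.mp q_old l hl
    rw [elemTab_iff] at h1
    have h2 := List.all_eq_true.mp q_sq l hl
    rw [tabBeq_iff] at h2
    exact invol_lift σ hsurj hcen hexp hxl h1 (hxl.sq_eq_one h2) γ hγ
  · exact fun γ hγ => invol_lift σ hsurj hcen hexp hs1 a1 (hs1.sq_eq_one b1) γ hγ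
  · exact fun γ hγ => invol_lift σ hsurj hcen hexp hs2 a2 (hs2.sq_eq_one b2) γ hγ
  · exact fun γ hγ => invol_lift σ hsurj hcen hexp hc a3 (hc.sq_eq_one b3) γ hγ
  · exact fun γ hγ => invol_lift σ hsurj hcen hexp hr2 a4 (hr2.sq_eq_one b4) γ hγ
  · exact fun γ hγ => invol_lift σ hsurj hcen hexp (hc.mul hs1) a5 ((hc.mul hs1).sq_eq_one b5) γ hγ
  · exact fun γ hγ => invol_lift σ hsurj hcen hexp (hc.mul hs2) a6 ((hc.mul hs2).sq_eq_one b6) γ hγ
  · exact hz.cube_eq_one z3_cube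
  · -- hzQ
    intro x hx
    rw [mem_Q] at hx ⊢
    obtain ⟨l, hl, hxl⟩ := hx
    have h1 := List.all_eq_true.mp q_z l hl
    rw [elemTab_iff] at h1
    refine ⟨_, h1, ?_⟩
    rw [hzinv]
    exact (hz.mul hxl).mul (hz.mul hz)
  · -- hfpf
    intro x hx hfix
    rw [mem_Q] at hx
    obtain ⟨l, hl, hxl⟩ := hx
    have h1 := List.all_eq_true.mp q_fpf l hl
    rw [hzinv] at hfix
    have hx' : TabM (z * x * (z * z)) l := by rw [hfix]; exact hxl
    have h2 : mulTab (mulTab z3T l) (mulTab z3T z3T) = l :=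
      ((hz.mul hxl).mul (hz.mul hz)).tab_eq hx'
    rw [h2, (tabBeq_iff l l).2 rfl] at h1
    simp only [Bool.not_true, Bool.false_or, tabBeq_iff] at h1
    exact hxl.eq_one h1
  · -- hsQ
    intro t ht x hx
    rw [mem_Q] at hx ⊢
    obtain ⟨l, hl, hxl⟩ := hx
    rcases ht with rfl | rfl | rfl
    · rw [hs1inv]
      exact ⟨_, q1 l hl, (hs1.mul hxl).mul hs1⟩
    · rw [hs2inv]
      exact ⟨_, q2 l hl, (hs2.mul hxl).mul hs2⟩
    · rw [hcinv]
      exact ⟨_, q3 l hl, (hc.mul hxl).mul hc⟩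
  · -- hsz
    intro t ht
    rcases ht with rfl | rfl | rfl
    · obtain ⟨e, hmem⟩ := sz_xs1
      rw [elemTab_iff] at hmem
      obtain ⟨x, hx⟩ := GoodTabs.exists_tabM qList_good hmem
      refine ⟨x, (mem_Q x).2 ⟨_, hmem, hx⟩, Or.inr ?_⟩
      rw [hs1inv, hzinv]
      exact ((hs1.mul hz).mul hs1).eq ((hz.mul hz).mul hx) e
    · obtain ⟨e, hmem⟩ := sz_xs2
      rw [elemTab_iff] at hmem
      obtain ⟨x, hx⟩ := GoodTabs.exists_tabM qList_good hmem
      refine ⟨x, (mem_Q x).2 ⟨_, hmem, hx⟩, Or.inl ?_⟩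
      rw [hs2inv]
      exact ((hs2.mul hz).mul hs2).eq (hz.mul hx) e
    · obtain ⟨e, hmem⟩ := sz_xc
      rw [elemTab_iff] at hmem
      obtain ⟨x, hx⟩ := GoodTabs.exists_tabM qList_good hmem
      refine ⟨x, (mem_Q x).2 ⟨_, hmem, hx⟩, Or.inr ?_⟩
      rw [hcinv, hzinv]
      exact ((hc.mul hz).mul hc).eq ((hz.mul hz).mul hx) e
  · -- hnf
    intro i j k hi hj hk hmem
    rw [mem_Q] at hmem
    obtain ⟨l, hl, hxl⟩ := hmem
    have ht : TabM ((s1 * s2) ^ i * s1 ^ j * c ^ k)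
        (mulTab (mulTab (powTab rT i) (powTab s1T j)) (powTab cT k)) :=
      (((hs1.mul hs2).pow i).mul (hs1.pow j)).mul (hc.pow k)
    have e := hxl.tab_eq ht
    rw [e, ← elemTab_iff] at hl
    have hnf := nf_ok
    simp only [List.all_eq_true, List.mem_range] at hnf
    have h1 := hnf i hi j hj k hk
    rw [hl] at h1
    simp only [Bool.not_true, Bool.false_or, Bool.and_eq_true, Nat.beq_eq] at h1
    exact ⟨h1.1.1, h1.1.2, h1.2⟩
  · -- hidx
    have hle : P2 ≤ closure ((Q : Set ↥M24) ∪ {s1, s2, c}) := by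
      intro a ha
      rw [P2, mem_tabSubgroup_iff] at ha
      obtain ⟨l, hl, hal⟩ := ha
      have h1 := mem_closure_of_spanTabs pcGens_good l hl a hal
      refine (closure_le _).2 ?_ h1
      rintro b ⟨s, hs, hb⟩
      simp only [pcGens, List.cons_append, List.nil_append, List.mem_cons] at hs
      rcases hs with rfl | rfl | rfl | rfl | hs
      · rw [hb.eq hc rfl]
        exact subset_closure (Or.inr (by simp))
      · rw [hb.eq hs2 rfl]
        exact subset_closure (Or.inr (by simp))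
      · rw [hb.eq hs1 rfl]
        exact subset_closure (Or.inr (by simp))
      · rw [hb.eq hr2 rfl]
        have m1 : s1 ∈ closure ((Q : Set ↥M24) ∪ {s1, s2, c}) :=
          subset_closure (Or.inr (by simp))
        have m2 : s2 ∈ closure ((Q : Set ↥M24) ∪ {s1, s2, c}) :=
          subset_closure (Or.inr (by simp))
        exact mul_mem (mul_mem m1 m2) (mul_mem m1 m2)
      · apply Subgroup.subset_closure
        left
        show b ∈ Q
        rw [mem_Q]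
        refine ⟨s, ?_, hb⟩
        have h2 := List.all_eq_true.mp qGens_sub s hs
        rw [elemTab_iff] at h2
        exact h2
    exact StemLocal.not_dvd_index_of_le hle card_P2 card_M24 (by norm_num) (by norm_num)

/-! ### The prime `3` -/

set_option maxRecDepth 100000 in
theorem l27_one : elemTab idTab l27 = true := by decide +kernel

theorem mem_l27 (l : List ℕ) : l ∈ l27 ↔ ∃ i < 3, ∃ j < 3, ∃ k < 3,
    l = mulTab (powTab x3T i) (mulTab (powTab y3T j) (powTab z3cT k)) := by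
  simp only [l27, List.mem_flatMap, List.mem_map, List.mem_range]
  constructor
  · rintro ⟨i, hi, j, hj, k, hk, rfl⟩
    exact ⟨i, hi, j, hj, k, hk, rfl⟩
  · rintro ⟨i, hi, j, hj, k, hk, rfl⟩
    exact ⟨i, hi, j, hj, k, hk, rfl⟩

/-- **The prime `3`.** -/
theorem ker_three {Γ : Type*} [Group Γ] [Finite Γ] (σ : Γ →* ↥M24) (hσ : IsStemExtension σ)
    (hexp : ∀ a ∈ σ.ker, a ^ 3 = 1) : σ.ker = ⊥ := by
  have hok := p3_ok
  simp only [List.all_cons, List.all_nil, Bool.and_true, Bool.and_eq_true] at hok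
  obtain ⟨hx, hy, ht⟩ := hok
  obtain ⟨x, hx⟩ := tabM_of_ok hx
  obtain ⟨y, hy⟩ := tabM_of_ok hy
  obtain ⟨t, ht⟩ := tabM_of_ok ht
  obtain ⟨r1, r2, r3, r4, r5, r6, r7, r8⟩ := p3_rel
  have hx3 : x ^ 3 = 1 := hx.cube_eq_one r1
  have hy3 : y ^ 3 = 1 := hy.cube_eq_one r2
  have ht2 : t * t = 1 := ht.sq_eq_one r3
  have htinv : t⁻¹ = t := ht.inv_of_sq r3
  have hxinv : x⁻¹ = x * x := hx.inv_of_cube r1
  have hyinv : y⁻¹ = y * y := hy.inv_of_cube r2
  have htx : t * x * t⁻¹ = x⁻¹ := by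
    rw [htinv, hxinv]
    exact ((ht.mul hx).mul ht).eq (hx.mul hx) r4
  have hty : t * y * t⁻¹ = y⁻¹ := by
    rw [htinv, hyinv]
    exact ((ht.mul hy).mul ht).eq (hy.mul hy) r5
  have hz : TabM ⁅x, y⁆ z3cT := by
    rw [commutatorElement_def, hxinv, hyinv]
    exact ((hx.mul hy).mul (hx.mul hx)).mul (hy.mul hy)
  have hzx : Commute ⁅x, y⁆ x := (hz.mul hx).eq (hx.mul hz) r6
  have hzy : Commute ⁅x, y⁆ y := (hz.mul hy).eq (hy.mul hz) r7
  have hz1 : ⁅x, y⁆ ≠ 1 := by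
    intro h
    rw [h] at hz
    exact r8 (hz.tab_eq TabM.one)
  have hgood : GoodTabs M24 l27 := by
    intro l hl
    rw [mem_l27] at hl
    obtain ⟨i, -, j, -, k, -, rfl⟩ := hl
    exact ((hx.pow i).mul ((hy.pow j).mul (hz.pow k))).good
  have hone : idTab ∈ l27 := (elemTab_iff _ _).1 l27_one
  have hmul : ∀ l1 ∈ l27, ∀ l2 ∈ l27, mulTab l1 l2 ∈ l27 := by
    intro l1 h1 l2 h2
    have := List.all_eq_true.mp (List.all_eq_true.mp l27_mul l1 h1) l2 h2
    rwa [elemTab_iff] at this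
  have hcard : Nat.card ↥(tabSubgroup M24 l27 hgood hone hmul) = 27 := by
    rw [card_tabSubgroup _ _ _ l27_nodup]
    rfl
  have hle : tabSubgroup M24 l27 hgood hone hmul ≤ closure ({x, y} : Set ↥M24) := by
    intro a ha
    rw [mem_tabSubgroup_iff] at ha
    obtain ⟨l, hl, hal⟩ := ha
    rw [mem_l27] at hl
    obtain ⟨i, -, j, -, k, -, rfl⟩ := hl
    rw [hal.eq ((hx.pow i).mul ((hy.pow j).mul (hz.pow k))) rfl]
    have m1 : x ∈ closure ({x, y} : Set ↥M24) := Subgroup.subset_closure (by simp)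
    have m2 : y ∈ closure ({x, y} : Set ↥M24) := Subgroup.subset_closure (by simp)
    have m3 : ⁅x, y⁆ ∈ closure ({x, y} : Set ↥M24) := by
      rw [commutatorElement_def]
      exact mul_mem (mul_mem (mul_mem m1 m2) (inv_mem m1)) (inv_mem m2)
    exact mul_mem (pow_mem m1 i) (mul_mem (pow_mem m2 j) (pow_mem m3 k))
  exact StemThree.ker_eq_bot_three_extraspecial σ hσ hexp x y t hx3 hy3 ht2 htx hty hzx hzy hz1
    (StemLocal.not_dvd_index_of_le hle hcard card_M24 (by norm_num) (by norm_num))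

/-! ### The other primes -/

theorem not_sq_dvd {p : ℕ} (hp : p.Prime) (h2 : p ≠ 2) (h3 : p ≠ 3) : ¬ p ^ 2 ∣ 244823040 := by
  intro h
  have e : (244823040 : ℕ) = 27648 * 8855 := by norm_num
  rw [e] at h
  have hc2 : Nat.Coprime p 2 := (Nat.coprime_primes hp Nat.prime_two).2 h2
  have hc3 : Nat.Coprime p 3 := (Nat.coprime_primes hp Nat.prime_three).2 h3
  have hc : Nat.Coprime (p ^ 2) 27648 := by
    have e2 : (27648 : ℕ) = 2 ^ 10 * 3 ^ 3 := by norm_num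
    rw [e2]
    exact Nat.Coprime.pow_left 2 (Nat.Coprime.mul_right (hc2.pow_right 10) (hc3.pow_right 3))
  have h' : p ^ 2 ∣ 8855 := hc.dvd_of_dvd_mul_left h
  have hle : p ^ 2 ≤ 8855 := Nat.le_of_dvd (by norm_num) h'
  have hlt : p < 95 := by nlinarith
  have key : ∀ q < 95, q ^ 2 ∣ 8855 → q = 1 := by decide
  exact hp.one_lt.ne' (key p hlt h')

/-- **The Schur multiplier of `M24` is trivial.** -/
theorem multiplier_M24 : HasCyclicSchurMultiplier ↥M24 1 := by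
  apply StemRed.trivial_of_primes
  intro p hp Γ _ _ σ hσ hexp
  by_cases h2 : p = 2
  · subst h2
    exact ker_two σ hσ (fun a ha => by rw [← pow_two]; exact hexp a ha)
  by_cases h3 : p = 3
  · subst h3
    exact ker_three σ hσ hexp
  apply StemLocal.ker_eq_bot_of_not_sq_dvd σ hσ hp hexp
  rw [card_M24]
  exact not_sq_dvd hp h2 h3

end Cfsg.Agent.Helper91.M24Mult
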