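import Cfsg.Agent.Lib.Helper91.TabM
import Cfsg.Agent.Lib.Helper91.M24Syl2

/-!
# Data for the Schur multiplier of `M24`

Tables of: a basis `qGens` of the sextet kernel `Q = 2^6`; involutions `s1T`, `s2T`, `cT`
generating a complement `D8 x 2` to `Q` in a Sylow `2`-subgroup; an element `z3T` of order `3`
normalizing `Q` fixed-point-freely; two elementary abelian `2^3` (pure of type `2A`, resp. `2B`)
with conjugators to the representatives `octInvTab`, `fpfInvTab`; and generators `x3T`, `y3T` of a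
Sylow `3`-subgroup inverted by the involution `t3T`.  All facts are checked by `decide +kernel`.
-/

set_option autoImplicit false

namespace Cfsg.Agent.Helper91.M24Mult
open Cfsg Cfsg.Agent.Helper7 Cfsg.Agent.Helper91

def qGens : List (List ℕ) := [[2, 14, 0, 17, 4, 23, 6, 22, 8, 12, 10, 11, 9, 13, 1, 18, 21, 3, 15, 19, 20, 16, 7, 5],
  [0, 17, 2, 14, 6, 5, 4, 7, 13, 9, 11, 10, 12, 8, 3, 16, 15, 1, 21, 20, 19, 18, 22, 23],
  [23, 1, 5, 3, 11, 2, 10, 12, 8, 22, 6, 4, 7, 13, 14, 18, 21, 17, 15, 19, 20, 16, 9, 0],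
  [2, 14, 0, 17, 10, 23, 11, 9, 19, 7, 4, 6, 22, 20, 1, 21, 18, 3, 16, 8, 13, 15, 12, 5],
  [2, 1, 0, 3, 4, 23, 6, 12, 20, 22, 10, 11, 7, 19, 14, 21, 18, 17, 16, 13, 8, 15, 9, 5],
  [23, 17, 5, 14, 11, 2, 10, 9, 19, 7, 6, 4, 22, 20, 3, 16, 15, 1, 21, 8, 13, 18, 12, 0]]

def s1T : List ℕ := [23, 1, 2, 3, 13, 5, 20, 9, 11, 7, 19, 8, 12, 4, 17, 21, 16, 14, 18, 10, 6, 15, 22, 0]

def s2T : List ℕ := [0, 1, 2, 3, 22, 5, 7, 6, 18, 10, 9, 12, 11, 16, 14, 20, 13, 17, 8, 21, 15, 19, 4, 23]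

def cT : List ℕ := [14, 5, 3, 2, 8, 1, 19, 21, 4, 15, 20, 13, 16, 11, 0, 9, 12, 23, 22, 6, 10, 7, 18, 17]

def z3T : List ℕ := [2, 14, 5, 3, 4, 0, 11, 12, 19, 7, 6, 10, 9, 8, 17, 15, 18, 1, 21, 13, 20, 16, 22, 23]

/-- the rotation `s1 * s2` of order four -/
def rT : List ℕ := mulTab s1T s2T

def r2T : List ℕ := mulTab rT rT

def pcGens : List (List ℕ) := [cT, s2T, s1T, r2T] ++ qGens

def qList : List (List ℕ) := spanTabs qGens

def xs1 : List ℕ := [2, 1, 0, 3, 10, 23, 11, 7, 13, 9, 4, 6, 12, 8, 14, 18, 21, 17, 15, 20, 19, 16, 22, 5]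

def xs2 : List ℕ := [0, 1, 2, 3, 4, 5, 6, 7, 8, 9, 10, 11, 12, 13, 14, 15, 16, 17, 18, 19, 20, 21, 22, 23]

def xc : List ℕ := [23, 17, 5, 14, 11, 2, 10, 9, 19, 7, 6, 4, 22, 20, 3, 16, 15, 1, 21, 8, 13, 18, 12, 0]

def e1x : List ℕ := [23, 14, 5, 17, 10, 2, 11, 7, 8, 9, 4, 6, 12, 13, 1, 16, 15, 3, 21, 19, 20, 18, 22, 0]

def e1y : List ℕ := [2, 3, 0, 1, 10, 23, 11, 12, 8, 22, 4, 6, 7, 13, 17, 15, 16, 14, 18, 19, 20, 21, 9, 5]

def e1w : List ℕ := [5, 1, 23, 3, 10, 0, 11, 22, 8, 12, 4, 6, 9, 13, 14, 21, 18, 17, 16, 19, 20, 15, 7, 2]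

def e1c0 : List ℕ := [20, 16, 7, 6, 21, 13, 10, 0, 22, 23, 18, 4, 14, 19, 11, 5, 3, 15, 2, 9, 8, 17, 1, 12]

def e1c1 : List ℕ := [18, 9, 21, 6, 14, 13, 23, 12, 16, 7, 17, 5, 10, 15, 11, 3, 2, 22, 1, 19, 8, 0, 4, 20]

def e1c2 : List ℕ := [13, 12, 3, 16, 15, 20, 7, 4, 8, 10, 21, 22, 2, 17, 18, 5, 6, 9, 0, 19, 1, 11, 23, 14]

def e1c3 : List ℕ := [19, 5, 20, 9, 15, 11, 17, 12, 6, 7, 16, 1, 2, 4, 22, 14, 18, 0, 3, 8, 13, 21, 23, 10]

def e1c4 : List ℕ := [6, 16, 10, 17, 2, 13, 22, 18, 4, 15, 0, 7, 1, 11, 3, 5, 9, 21, 23, 19, 8, 12, 14, 20]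

def e1c5 : List ℕ := [20, 14, 6, 15, 22, 11, 5, 9, 4, 7, 12, 2, 0, 13, 21, 3, 16, 17, 1, 19, 10, 18, 23, 8]

def e1c6 : List ℕ := [0, 1, 2, 3, 4, 5, 6, 7, 8, 9, 10, 11, 12, 13, 14, 15, 16, 17, 18, 19, 20, 21, 22, 23]

def e2x : List ℕ := [2, 14, 0, 17, 20, 23, 8, 15, 6, 21, 13, 19, 16, 10, 1, 7, 12, 3, 22, 11, 4, 9, 18, 5]

def e2y : List ℕ := [23, 3, 5, 1, 8, 2, 20, 21, 4, 15, 19, 13, 18, 11, 17, 9, 22, 14, 12, 10, 6, 7, 16, 0]

def e2w : List ℕ := [17, 5, 3, 2, 10, 1, 11, 18, 19, 16, 4, 6, 21, 20, 23, 22, 9, 0, 7, 8, 13, 12, 15, 14]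

def e2c0 : List ℕ := [13, 8, 11, 4, 17, 19, 5, 0, 16, 2, 23, 3, 14, 21, 20, 22, 18, 6, 15, 12, 9, 7, 1, 10]

def e2c1 : List ℕ := [0, 5, 14, 3, 12, 17, 22, 15, 11, 9, 16, 18, 7, 8, 1, 20, 6, 2, 19, 13, 4, 10, 21, 23]

def e2c2 : List ℕ := [0, 8, 1, 11, 3, 5, 23, 21, 13, 12, 14, 2, 7, 4, 6, 15, 22, 19, 9, 20, 10, 16, 18, 17]

def e2c3 : List ℕ := [18, 8, 21, 13, 0, 15, 2, 7, 17, 9, 23, 5, 22, 3, 19, 11, 10, 20, 6, 1, 14, 4, 12, 16]

def e2c4 : List ℕ := [1, 8, 5, 20, 22, 14, 21, 19, 0, 6, 16, 7, 4, 17, 10, 9, 12, 11, 15, 3, 2, 18, 13, 23]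

def e2c5 : List ℕ := [23, 19, 1, 8, 20, 2, 13, 15, 21, 16, 6, 11, 12, 9, 10, 3, 5, 4, 14, 18, 22, 0, 7, 17]

def e2c6 : List ℕ := [3, 4, 1, 19, 9, 0, 16, 8, 2, 13, 7, 18, 6, 5, 20, 21, 22, 11, 15, 14, 17, 12, 10, 23]

def x3T : List ℕ := [7, 22, 13, 10, 23, 11, 17, 16, 2, 5, 12, 9, 3, 8, 19, 6, 0, 15, 4, 20, 14, 1, 21, 18]

def y3T : List ℕ := [0, 22, 2, 16, 15, 5, 17, 12, 8, 3, 10, 7, 11, 13, 6, 18, 9, 14, 4, 20, 23, 1, 21, 19]

def t3T : List ℕ := [0, 21, 8, 12, 18, 5, 17, 16, 2, 11, 10, 9, 3, 13, 14, 15, 7, 6, 4, 20, 19, 1, 22, 23]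


/-- the commutator table of `x3T`, `y3T` (inverses are squares) -/
def z3cT : List ℕ := mulTab (mulTab (mulTab x3T y3T) (mulTab x3T x3T)) (mulTab y3T y3T)

/-- the `27` elements `x^i y^j z^k` -/
def l27 : List (List ℕ) :=
  (List.range 3).flatMap fun i => (List.range 3).flatMap fun j => (List.range 3).map fun k =>
    mulTab (powTab x3T i) (mulTab (powTab y3T j) (powTab z3cT k))

set_option maxRecDepth 100000 in
theorem pcGens_ok : pcGens.all m24TabOK = true := by decide +kernel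

set_option maxRecDepth 100000 in
theorem pcGens_pc : pcOK pcGens = true := by decide +kernel

set_option maxRecDepth 100000 in
theorem z3_ok : m24TabOK z3T = true := by decide +kernel

set_option maxRecDepth 100000 in
theorem q_sq : qList.all (fun l => tabBeq (mulTab l l) idTab) = true := by decide +kernel

set_option maxRecDepth 100000 in
theorem q_z : qList.all (fun l => elemTab (mulTab (mulTab z3T l) (mulTab z3T z3T)) qList) = true := by
  decide +kernel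

set_option maxRecDepth 100000 in
theorem q_fpf : qList.all (fun l => !tabBeq (mulTab (mulTab z3T l) (mulTab z3T z3T)) l ||
    tabBeq l idTab) = true := by decide +kernel

set_option maxRecDepth 100000 in
theorem z3_cube : powTab z3T 3 = idTab := by decide +kernel

set_option maxRecDepth 100000 in
theorem q_s : [s1T, s2T, cT].all (fun t => tabBeq (mulTab t t) idTab &&
    qList.all (fun l => elemTab (mulTab (mulTab t l) t) qList)) = true := by decide +kernel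

set_option maxRecDepth 100000 in
theorem sz_xs1 : mulTab (mulTab s1T z3T) s1T = mulTab (mulTab z3T z3T) xs1 ∧ elemTab xs1 qList = true := by
  decide +kernel

set_option maxRecDepth 100000 in
theorem sz_xs2 : mulTab (mulTab s2T z3T) s2T = mulTab z3T xs2 ∧ elemTab xs2 qList = true := by
  decide +kernel

set_option maxRecDepth 100000 in
theorem sz_xc : mulTab (mulTab cT z3T) cT = mulTab (mulTab z3T z3T) xc ∧ elemTab xc qList = true := by
  decide +kernel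


set_option maxRecDepth 100000 in
theorem nf_ok : (List.range 4).all (fun i => (List.range 2).all fun j => (List.range 2).all fun k =>
    !elemTab (mulTab (mulTab (powTab rT i) (powTab s1T j)) (powTab cT k)) qList ||
      (Nat.beq i 0 && Nat.beq j 0 && Nat.beq k 0)) = true := by decide +kernel

set_option maxRecDepth 100000 in
theorem q_old : qList.all (fun l => elemTab l (spanTabs syl24Gens)) = true := by decide +kernel

set_option maxRecDepth 100000 in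
theorem top_old : [s1T, s2T, cT, r2T, mulTab cT s1T, mulTab cT s2T].all
    (fun l => elemTab l (spanTabs syl24Gens) && tabBeq (mulTab l l) idTab) = true := by
  decide +kernel

set_option maxRecDepth 100000 in
theorem e1_ok : [e1x, e1y, e1w, e1c0, e1c1, e1c2, e1c3, e1c4, e1c5, e1c6].all m24TabOK = true := by
  decide +kernel

set_option maxRecDepth 100000 in
theorem e1_conj : mulTab e1x e1c0 = mulTab e1c0 octInvTab ∧ mulTab e1y e1c1 = mulTab e1c1 octInvTab ∧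
    mulTab e1w e1c2 = mulTab e1c2 octInvTab ∧ mulTab (mulTab e1x e1y) e1c3 = mulTab e1c3 octInvTab ∧
    mulTab (mulTab e1x e1w) e1c4 = mulTab e1c4 octInvTab ∧ mulTab (mulTab e1y e1w) e1c5 = mulTab e1c5 octInvTab ∧
    mulTab (mulTab (mulTab e1x e1y) e1w) e1c6 = mulTab e1c6 octInvTab := by decide +kernel

set_option maxRecDepth 100000 in
theorem e1_comm : mulTab e1x e1y = mulTab e1y e1x ∧ mulTab e1x e1w = mulTab e1w e1x ∧
    mulTab e1y e1w = mulTab e1w e1y := by decide +kernel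

set_option maxRecDepth 100000 in
theorem e2_ok : [e2x, e2y, e2w, e2c0, e2c1, e2c2, e2c3, e2c4, e2c5, e2c6].all m24TabOK = true := by
  decide +kernel

set_option maxRecDepth 100000 in
theorem e2_conj : mulTab e2x e2c0 = mulTab e2c0 fpfInvTab ∧ mulTab e2y e2c1 = mulTab e2c1 fpfInvTab ∧
    mulTab e2w e2c2 = mulTab e2c2 fpfInvTab ∧ mulTab (mulTab e2x e2y) e2c3 = mulTab e2c3 fpfInvTab ∧
    mulTab (mulTab e2x e2w) e2c4 = mulTab e2c4 fpfInvTab ∧ mulTab (mulTab e2y e2w) e2c5 = mulTab e2c5 fpfInvTab ∧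
    mulTab (mulTab (mulTab e2x e2y) e2w) e2c6 = mulTab e2c6 fpfInvTab := by decide +kernel

set_option maxRecDepth 100000 in
theorem e2_comm : mulTab e2x e2y = mulTab e2y e2x ∧ mulTab e2x e2w = mulTab e2w e2x ∧
    mulTab e2y e2w = mulTab e2w e2y := by decide +kernel

set_option maxRecDepth 100000 in
theorem reps_ok : m24TabOK octInvTab = true ∧ m24TabOK fpfInvTab = true ∧
    mulTab octInvTab octInvTab = idTab ∧ mulTab fpfInvTab fpfInvTab = idTab := by decide +kernel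

set_option maxRecDepth 100000 in
theorem p3_ok : [x3T, y3T, t3T].all m24TabOK = true := by decide +kernel

set_option maxRecDepth 100000 in
theorem p3_rel : powTab x3T 3 = idTab ∧ powTab y3T 3 = idTab ∧ mulTab t3T t3T = idTab ∧
    mulTab (mulTab t3T x3T) t3T = mulTab x3T x3T ∧ mulTab (mulTab t3T y3T) t3T = mulTab y3T y3T ∧
    mulTab z3cT x3T = mulTab x3T z3cT ∧ mulTab z3cT y3T = mulTab y3T z3cT ∧ z3cT ≠ idTab := by
  decide +kernel

set_option maxRecDepth 100000 in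
theorem l27_mul : l27.all (fun a => l27.all fun b => elemTab (mulTab a b) l27) = true := by
  decide +kernel

set_option maxRecDepth 100000 in
theorem l27_nodup : l27.Nodup := by decide +kernel

end Cfsg.Agent.Helper91.M24Mult
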