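import Mathlib
import Cfsg.Prelude.Def_AxialAlgebras

set_option autoImplicit false

namespace Cfsg.Agent.Helper91

open Cfsg Cfsg.Axial

variable {V : Type*} [AddCommGroup V] [Module ℝ V]
variable (mul : V →ₗ[ℝ] V →ₗ[ℝ] V) (B : LinearMap.BilinForm ℝ V)

theorem mem_eigen_iff (a v : V) (c : ℝ) : v ∈ eigen mul a c ↔ mul a v = c • v := by
  unfold eigen; exact Module.End.mem_eigenspace_iff

/-- Decomposition into the four eigenspaces. -/
theorem exists_decomp (a : V) (h : eigenSum mul a majoranaSpectrum = ⊤) (v : V) :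
    ∃ v1 v0 vq vt : V, mul a v1 = v1 ∧ mul a v0 = 0 ∧ mul a vq = (1/4 : ℝ) • vq ∧
      mul a vt = (1/32 : ℝ) • vt ∧ v = v1 + v0 + vq + vt := by
  have hv : v ∈ eigenSum mul a majoranaSpectrum := by rw [h]; trivial
  unfold eigenSum majoranaSpectrum at hv
  rw [iSup_insert, iSup_insert, iSup_insert, iSup_singleton] at hv
  obtain ⟨v1, h1, w, hw, rfl⟩ := Submodule.mem_sup.mp hv
  obtain ⟨v0, h0, w', hw', rfl⟩ := Submodule.mem_sup.mp hw
  obtain ⟨vq, hq, vt, ht, rfl⟩ := Submodule.mem_sup.mp hw'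
  rw [mem_eigen_iff] at h1 h0 hq ht
  refine ⟨v1, v0, vq, vt, by simpa using h1, by simpa using h0, hq, ht, by abel⟩

theorem three_indep (a x1 x0 xq : V) (h1 : mul a x1 = x1) (h0 : mul a x0 = 0)
    (hq : mul a xq = (1/4:ℝ) • xq) (hsum : x1 + x0 + xq = 0) : x1 = 0 ∧ x0 = 0 ∧ xq = 0 := by
  have e1 : x1 + (1/4:ℝ) • xq = 0 := by
    have := congrArg (mul a) hsum
    simpa [map_add, h1, h0, hq] using this
  have e2 : x1 + (1/16:ℝ) • xq = 0 := by
    have := congrArg (mul a) e1
    simp only [map_add, map_smul, h1, hq, smul_smul, map_zero] at this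
    norm_num at this
    exact this
  have e3 : (3/16 : ℝ) • xq = 0 := by linear_combination (norm := module) e1 - e2
  have hxq : xq = 0 := (smul_eq_zero.mp e3).resolve_left (by norm_num)
  have hx1 : x1 = 0 := by rw [hxq] at e1; simpa using e1
  refine ⟨hx1, ?_, hxq⟩
  rw [hx1, hxq] at hsum
  simpa using hsum

theorem law_zero_zero : monsterLaw (1/4 : ℝ) (1/32) 0 0 = {0} := by
  unfold monsterLaw; norm_num

theorem law_zero_quarter : monsterLaw (1/4 : ℝ) (1/32) 0 (1/4) = {1/4} := by
  unfold monsterLaw; norm_num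

theorem law_quarter_quarter : monsterLaw (1/4 : ℝ) (1/32) (1/4) (1/4) = {1, 0} := by
  unfold monsterLaw; norm_num

theorem spec_zero : (0 : ℝ) ∈ majoranaSpectrum := by simp [majoranaSpectrum]
theorem spec_quarter : (1/4 : ℝ) ∈ majoranaSpectrum := by simp [majoranaSpectrum]

/-- `B a v = 0` for `v` in the `0`- or `1/4`-eigenspace of an idempotent `a`. -/
theorem B_axis_eigen (hass : ∀ u v w : V, B u (mul v w) = B (mul u v) w) (a v : V) (c : ℝ)
    (hc : c ≠ 1) (ha : mul a a = a) (hv : mul a v = c • v) : B a v = 0 := by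
  have h := hass a a v
  rw [ha, hv, map_smul, smul_eq_mul] at h
  have : (c - 1) * B a v = 0 := by linarith
  rcases mul_eq_zero.mp this with h1 | h1
  · exact absurd (sub_eq_zero.mp h1) hc
  · exact h1

/-- The structural decomposition of an idempotent fixed by the Miyamoto involution of an axis. -/
theorem fixed_decomp (hV : IsMajoranaAmbient mul B) (μ : V ≃ₗ[ℝ] V) (a b : V)
    (ha : IsMajoranaPair mul B μ a) (hna : B a a = 1) (hfix : μ b = b) :
    ∃ (α β δ : V) (m : ℝ), b = (B a b) • a + α + β ∧ mul a α = 0 ∧ mul a β = (1/4:ℝ) • β ∧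
      mul a (mul α α) = 0 ∧ mul a (mul α β) = (1/4 : ℝ) • mul α β ∧
      mul β β = m • a + δ ∧ mul a δ = 0 := by
  obtain ⟨hcomm, hsymm, hpos, hass, -⟩ := hV
  obtain ⟨-, -, ⟨⟨hne, hidem, htop, hfus⟩, hprim⟩, hmiy1, hmiy2⟩ := ha
  obtain ⟨v1, α, β, γ, h1, h0, hq, ht, hb⟩ := exists_decomp mul a htop b
  -- γ = 0
  have hγ : γ = 0 := by
    have hfixed : ∀ v c, c ∈ ({1, 0, 1/4} : Set ℝ) → mul a v = c • v → μ v = v := by
      intro v c hc hv
      apply hmiy1
      unfold eigenSum
      exact Submodule.mem_iSup_of_mem c (Submodule.mem_iSup_of_mem hc ((mem_eigen_iff mul a v c).mpr hv))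
    have e1 : μ v1 = v1 := hfixed v1 1 (by simp) (by simpa using h1)
    have e0 : μ α = α := hfixed α 0 (by simp) (by simpa using h0)
    have eq : μ β = β := hfixed β (1/4) (by simp) hq
    have et : μ γ = -γ := hmiy2 γ ((mem_eigen_iff mul a γ _).mpr ht)
    have := hfix
    rw [hb, map_add, map_add, map_add, e1, e0, eq, et] at this
    have h2 : (2 : ℝ) • γ = 0 := by linear_combination (norm := module) -this
    exact (smul_eq_zero.mp h2).resolve_left (by norm_num)
  -- v1 = l • a
  have hv1 : v1 ∈ Submodule.span ℝ {a} := by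
    rw [← hprim, mem_eigen_iff]; simpa using h1
  obtain ⟨l, rfl⟩ := Submodule.mem_span_singleton.mp hv1
  rw [hγ, add_zero] at hb
  -- l = B a b
  have hl : B a b = l := by
    rw [hb, map_add, map_add, map_smul, hna, B_axis_eigen mul B hass a α 0 (by norm_num) hidem (by simpa using h0),
      B_axis_eigen mul B hass a β (1/4) (by norm_num) hidem hq]
    simp
  -- fusion
  have hα : α ∈ eigen mul a 0 := (mem_eigen_iff mul a α 0).mpr (by simpa using h0)
  have hβ : β ∈ eigen mul a (1/4) := (mem_eigen_iff mul a β _).mpr hq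
  have f1 := hfus 0 spec_zero 0 spec_zero α hα α hα
  rw [law_zero_zero] at f1
  have f2 := hfus 0 spec_zero (1/4) spec_quarter α hα β hβ
  rw [law_zero_quarter] at f2
  have f3 := hfus (1/4) spec_quarter (1/4) spec_quarter β hβ β hβ
  rw [law_quarter_quarter] at f3
  unfold eigenSum at f1 f2 f3
  rw [iSup_singleton, mem_eigen_iff] at f1 f2
  rw [iSup_insert, iSup_singleton] at f3
  obtain ⟨w1, hw1, δ, hδ, hsum⟩ := Submodule.mem_sup.mp f3
  rw [hprim] at hw1
  obtain ⟨m, rfl⟩ := Submodule.mem_span_singleton.mp hw1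
  rw [mem_eigen_iff] at hδ
  refine ⟨α, β, δ, m, ?_, h0, hq, by simpa using f1, f2, hsum.symm, by simpa using hδ⟩
  rw [hl]; exact hb

/-- Consequences of idempotency of a fixed vector. With `l = B a b`, `p = a ∘ b`. -/
theorem fixed_algebra (hV : IsMajoranaAmbient mul B) (μ : V ≃ₗ[ℝ] V) (a b : V)
    (ha : IsMajoranaPair mul B μ a) (hna : B a a = 1) (hb : mul b b = b) (hfix : μ b = b) :
    mul a (mul a b) = (3 * B a b / 4) • a + (1/4 : ℝ) • mul a b ∧
    (B a b = 0 → mul a b = 0) ∧
    (mul b (mul a b) = (3 * B a b / 4) • b + (1/4 : ℝ) • mul a b →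
      (16 : ℝ) • mul (mul a b) (mul a b) = (8 * (B a b)^2 + 2 * B a b) • a + (3 * B a b) • b
        + (4 * B a b - 1) • mul a b) := by
  obtain ⟨α, β, δ, m, hdec, h0, hq, hαα, hαβ, hββ, hδ⟩ := fixed_decomp mul B hV μ a b ha hna hfix
  have hidem : mul a a = a := ha.2.2.1.1.2.1
  have hne : a ≠ 0 := ha.2.2.1.1.1
  obtain ⟨hcomm, hsymm, hpos, hass, -⟩ := hV
  set l := B a b with hl
  have hαa : mul α a = 0 := by rw [hcomm α a]; exact h0
  have hβa : mul β a = (1/4:ℝ) • β := by rw [hcomm β a]; exact hq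
  have hβα : mul β α = mul α β := hcomm β α
  -- expand idempotency
  have hexp : mul b b = (l^2 + m) • a + (mul α α + δ) + ((2:ℝ) • mul α β + (l/2) • β) := by
    conv_lhs => rw [hdec]
    simp only [map_add, map_smul, LinearMap.add_apply, LinearMap.smul_apply, hidem, h0, hq, hαa,
      hβa, hβα, hββ, smul_zero, add_zero, zero_add, smul_add, smul_smul]
    module
  have hzero : ((l^2 + m - l) • a) + (mul α α + δ - α) + ((2:ℝ) • mul α β + (l/2 - 1) • β) = 0 := by
    have : mul b b - b = 0 := by rw [hb, sub_self]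
    rw [hexp] at this
    conv at this => lhs; rhs; rw [hdec]
    linear_combination (norm := module) this
  obtain ⟨z1, z0, zq⟩ := three_indep mul a _ _ _
    (by rw [map_smul, hidem])
    (by rw [map_sub, map_add, hαα, hδ, h0]; simp)
    (by rw [map_add, map_smul, map_smul, hαβ, hq]; module)
    hzero
  -- p
  have hp : mul a b = l • a + (1/4 : ℝ) • β := by
    conv_lhs => rw [hdec]
    simp only [map_add, map_smul, hidem, h0, hq]
    module
  have hβ : β = (4:ℝ) • mul a b - (4 * l) • a := by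
    linear_combination (norm := module) (-4 : ℝ) • hp
  have hα : α = b + (3 * l) • a - (4:ℝ) • mul a b := by
    linear_combination (norm := module) -hdec + (4 : ℝ) • hp
  have hap : mul a (mul a b) = (3 * l / 4) • a + (1/4 : ℝ) • mul a b := by
    conv_lhs => rw [hp]
    simp only [map_add, map_smul, hidem, hq]
    linear_combination (norm := module) (1/16 : ℝ) • hβ
  refine ⟨hap, ?_, ?_⟩
  · -- l = 0 → p = 0
    intro hl0
    have hm : m = 0 := by
      have := (smul_eq_zero.mp z1).resolve_right hne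
      rw [hl0] at this
      linarith
    have hBδ : B δ a = 0 := by
      rw [hsymm]
      exact B_axis_eigen mul B hass a δ 0 (by norm_num) hidem (by simpa using hδ)
    have h1 : B (mul β β) a = m := by
      rw [hββ, map_add, map_smul, LinearMap.add_apply, LinearMap.smul_apply, hna, hBδ]
      simp
    have h2 : B (mul β β) a = (1/4 : ℝ) * B β β := by
      rw [← hass, hβa, map_smul, smul_eq_mul]
    have h3 : B β β = 0 := by
      rw [h1, hm] at h2; linarith
    have hβ0 : β = 0 := by
      by_contra hne'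
      have := hpos β hne'
      linarith
    rw [hp, hl0, hβ0]; simp
  · intro hbp
    set p := mul a b with hpdef
    have hba : mul b a = p := hcomm b a
    have hpa : mul p a = (3 * l / 4) • a + (1/4 : ℝ) • p := by rw [hcomm p a]; exact hap
    have hpb : mul p b = (3 * l / 4) • b + (1/4 : ℝ) • p := by rw [hcomm p b]; exact hbp
    -- α² in terms of P = p²
    have hαα' : mul α α = (1 - 6 * l) • b - (9 * l^2) • a - (2:ℝ) • p + (16:ℝ) • mul p p := by
      conv_lhs => rw [hα]
      simp only [map_add, map_sub, map_smul, LinearMap.add_apply, LinearMap.sub_apply,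
        LinearMap.smul_apply, hb, hba, hidem, hap, hbp, hpa, hpb, ← hpdef]
      module
    -- p² expansion
    have hpp : mul p p = (l^2) • a + (l/8) • β + (1/16 : ℝ) • (m • a + δ) := by
      conv_lhs => rw [hp]
      simp only [map_add, map_smul, LinearMap.add_apply, LinearMap.smul_apply, hidem, hq, hβa, hββ]
      module
    have hma : m • a = (l - l^2) • a := by
      linear_combination (norm := module) z1
    have hδ' : δ = α - mul α α := by
      linear_combination (norm := module) z0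
    rw [hma, hδ', hαα', hβ, hα] at hpp
    linear_combination (norm := module) (8 : ℝ) • hpp

section transport

variable {mul}
variable (φ : V ≃ₗ[ℝ] V) (hφ : ∀ u v : V, φ (mul u v) = mul (φ u) (φ v))
include hφ

theorem symm_mul (u v : V) : φ.symm (mul u v) = mul (φ.symm u) (φ.symm v) := by
  apply φ.injective
  rw [hφ, LinearEquiv.apply_symm_apply, LinearEquiv.apply_symm_apply, LinearEquiv.apply_symm_apply]

theorem eigen_map (a : V) (c : ℝ) :
    eigen mul (φ a) c = (eigen mul a c).map (φ : V →ₗ[ℝ] V) := by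
  ext v
  rw [Submodule.mem_map, mem_eigen_iff]
  constructor
  · intro h
    refine ⟨φ.symm v, ?_, by simp⟩
    rw [mem_eigen_iff]
    apply φ.injective
    rw [hφ, LinearEquiv.apply_symm_apply, map_smul, LinearEquiv.apply_symm_apply]
    exact h
  · rintro ⟨w, hw, rfl⟩
    rw [mem_eigen_iff] at hw
    rw [LinearEquiv.coe_coe, ← hφ, hw, map_smul]

theorem eigenSum_map (a : V) (S : Set ℝ) :
    eigenSum mul (φ a) S = (eigenSum mul a S).map (φ : V →ₗ[ℝ] V) := by
  unfold eigenSum
  rw [Submodule.map_iSup]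
  congr 1
  funext c
  rw [Submodule.map_iSup]
  congr 1
  funext _
  exact eigen_map φ hφ a c

theorem majoranaPair_transport (hφB : ∀ u v : V, B (φ u) (φ v) = B u v)
    (μ ψ : V ≃ₗ[ℝ] V) (a : V) (h : IsMajoranaPair mul B μ a)
    (hψ : ∀ v, ψ v = φ (μ (φ.symm v))) : IsMajoranaPair mul B ψ (φ a) := by
  obtain ⟨hμm, hμB, ⟨⟨hne, hidem, htop, hfus⟩, hprim⟩, hmiy1, hmiy2⟩ := h
  have hsB : ∀ u v : V, B (φ.symm u) (φ.symm v) = B u v := by
    intro u v
    rw [← hφB, LinearEquiv.apply_symm_apply, LinearEquiv.apply_symm_apply]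
  refine ⟨?_, ?_, ⟨⟨?_, ?_, ?_, ?_⟩, ?_⟩, ?_, ?_⟩
  · intro u v
    rw [hψ, hψ, hψ, symm_mul φ hφ, hμm, hφ]
  · intro u v
    rw [hψ, hψ, hφB, hμB, hsB]
  · intro h0
    apply hne
    apply φ.injective
    rw [h0, map_zero]
  · rw [← hφ, hidem]
  · rw [eigenSum_map φ hφ, htop, Submodule.map_top, LinearMap.range_eq_top]
    exact φ.surjective
  · intro c hc d hd u hu v hv
    rw [eigen_map φ hφ] at hu hv
    rw [eigenSum_map φ hφ]
    obtain ⟨u', hu', rfl⟩ := hu
    obtain ⟨v', hv', rfl⟩ := hv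
    refine ⟨mul u' v', hfus c hc d hd u' hu' v' hv', ?_⟩
    simp only [LinearEquiv.coe_coe, hφ]
  · rw [eigen_map φ hφ, hprim, Submodule.map_span, Set.image_singleton]
    rfl
  · intro v hv
    rw [eigenSum_map φ hφ] at hv
    obtain ⟨v', hv', rfl⟩ := hv
    rw [LinearEquiv.coe_coe, LinearEquiv.coe_coe, hψ, LinearEquiv.symm_apply_apply]
    have := hmiy1 v' hv'
    rw [LinearEquiv.coe_coe] at this
    rw [this]
  · intro v hv
    rw [eigen_map φ hφ] at hv
    obtain ⟨v', hv', rfl⟩ := hv
    rw [LinearEquiv.coe_coe, LinearEquiv.coe_coe, hψ, LinearEquiv.symm_apply_apply]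
    have := hmiy2 v' hv'
    rw [LinearEquiv.coe_coe] at this
    rw [this, map_neg]

end transport

end Cfsg.Agent.Helper91
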