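import Mathlib
import Cfsg.Agent.Lib.Helper17.Simple
import Cfsg.Agent.Lib.Helper17.PrimeTI
import Cfsg.Agent.Lib.Helper17.PrimeTIApp
import Cfsg.Agent.Lib.Helper17.SelfCent
import Cfsg.Agent.Lib.Helper87.SVKit

/-!
# O175560 (N58520) for helper24's S4274 server: no simple group of order 58520 = 2^3 * 5 * 7 * 11 * 19

Sylow analysis: `n_19 = 1540` (`77` dies by a fixed-point count of an element of order `5` in
`C(P19)`), so `P19` is self-centralizing with dihedral normalizer of order `38`; `n_11 = 133`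
(`56` would force `19 ∣ |C(P11)|`), so `|N(P11)| = 440`; `n_7 = 4180` (`22` forces
`19 ∣ |C(P7)|`, `190` forces `11 ∣ |C(P7)|`, i.e. `7 ∣ 440`), so `P7` is self-centralizing with
normalizer of order `14`.

Characters: the degree equation at `p = 19` (`e = 2`, `t = 9`) leaves only `x = 56`, `d = 55`, so
there are NINE irreducible characters of degree `55`.  The degree equation at `p = 7` (`e = 2`,
`t = 3`) shows that at most `t + e = 5` irreducible characters have degree prime to `7`
(`card_not_dvd_le`).  Contradiction.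
-/

set_option autoImplicit false
set_option linter.style.haveILetI false
set_option linter.unusedSectionVars false

namespace Cfsg.Agent.Helper91.O175560

open Nat MulAction Cfsg Cfsg.Agent.Helper17 Cfsg.Agent.Helper17.Sieve Cfsg.Agent.Helper75.FixKill
  Cfsg.Agent.Helper17.PrimeTI Cfsg.Agent.Helper87.SV

universe u

/-- **At most `t + e` irreducible characters of degree prime to `p`** when a subgroup `P` of prime
order `p` is self-centralizing with `|N(P)| = p e`, `t e + 1 = p`, `2 ≤ e`, `2 ≤ t`. -/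
theorem card_not_dvd_le {G : Type u} [Group G] [Fintype G] (P : Subgroup G) (p e t : ℕ)
    [hp : Fact p.Prime] (hP : Nat.card P = p)
    (hC : Subgroup.centralizer (P : Set G) = P)
    (hN : Nat.card (Subgroup.normalizer (P : Set G)) = p * e) (he : 2 ≤ e)
    (hte : t * e + 1 = p) (ht : 2 ≤ t) (S : Finset (IrrCharacter G))
    (hS : ∀ ψ ∈ S, ¬ p ∣ charDegree (ψ : G → ℂ)) : S.card ≤ t + e := by
  classical
  obtain ⟨w, d, E, a, hEcard, -, -, -, -, hcong, hnorm, -⟩ :=
    prime_degree_equation P p e t hP hC hN he hte ht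
  set A : Finset (IrrCharacter G) := Finset.univ.filter (fun ψ => a ψ ≠ 0) with hA
  have hsub : S ⊆ E ∪ A := by
    intro ψ hψ
    by_cases hE : ψ ∈ E
    · exact Finset.mem_union_left _ hE
    · apply Finset.mem_union_right
      rw [hA, Finset.mem_filter]
      refine ⟨Finset.mem_univ _, fun h0 => hS ψ hψ ?_⟩
      have h1 := hcong ψ hE
      rw [h0, sub_zero] at h1
      exact_mod_cast h1
  have hAle : (A.card : ℤ) ≤ ∑ ψ : IrrCharacter G, (a ψ) ^ 2 := by
    have h1 : (A.card : ℤ) = ∑ ψ ∈ A, (1 : ℤ) := by simp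
    rw [h1]
    calc ∑ ψ ∈ A, (1 : ℤ) ≤ ∑ ψ ∈ A, (a ψ) ^ 2 := by
          apply Finset.sum_le_sum
          intro ψ hψ
          have hne : a ψ ≠ 0 := (Finset.mem_filter.1 hψ).2
          have : 0 < (a ψ) ^ 2 := by positivity
          omega
      _ ≤ ∑ ψ : IrrCharacter G, (a ψ) ^ 2 :=
          Finset.sum_le_sum_of_subset_of_nonneg (Finset.subset_univ _)
            (fun i _ _ => sq_nonneg _)
  have hp' : (p : ℤ) = t * e + 1 := by rw [← hte]; push_cast; ring
  have ht' : (2 : ℤ) ≤ t := by exact_mod_cast ht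
  have hAe : (A.card : ℤ) ≤ e := by
    by_contra hlt
    push Not at hlt
    have h2 : (e : ℤ) + 1 ≤ ∑ ψ : IrrCharacter G, (a ψ) ^ 2 := by omega
    nlinarith [sq_nonneg w]
  have hAe' : A.card ≤ e := by exact_mod_cast hAe
  calc S.card ≤ (E ∪ A).card := Finset.card_le_card hsub
    _ ≤ E.card + A.card := Finset.card_union_le _ _
    _ ≤ t + e := by omega

/-- **Dihedral normalizer, keeping the exceptional characters**: the `t` exceptional characters
have a common degree `d = x ± 1`. -/
theorem dihedral_exc {G : Type u} [Group G] [Fintype G]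
    (hperf : commutator G = ⊤) (P : Subgroup G) (p t : ℕ) [hp : Fact p.Prime]
    (hP : Nat.card P = p) (hC : Subgroup.centralizer (P : Set G) = P)
    (hN : Nat.card (Subgroup.normalizer (P : Set G)) = p * 2) (hte : t * 2 + 1 = p)
    (ht : 2 ≤ t) :
    ∃ (x d : ℕ) (E : Finset (IrrCharacter G)), E.card = t ∧
      (∀ ψ ∈ E, charDegree (ψ : G → ℂ) = d) ∧ 1 < x ∧ x ∣ Nat.card G ∧ d ∣ Nat.card G ∧
      ((p ∣ x - 1 ∧ d = x + 1) ∨ (p ∣ x + 1 ∧ d = x - 1)) := by
  classical
  obtain ⟨w, d, E, a, hEcard, hEdeg, hEne, haE, haK, hcong, hnorm, hdegeq⟩ :=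
    prime_degree_equation P p 2 t hP hC hN le_rfl hte ht
  set ψ1 : IrrCharacter G := ⟨fun _ => 1, Cfsg.Agent.Helper81.isIrrCharacter_one⟩ with hψ1
  have hψ1E : ψ1 ∉ E := fun h => hEne ψ1 h rfl
  obtain ⟨k, hk, hk1⟩ := exists_ne_one_of_prime_card P hP
  have ha1 : a ψ1 = 1 := by
    have h := haK ψ1 hψ1E k hk hk1
    have h' : ((1 : ℤ) : ℂ) = ((a ψ1 : ℤ) : ℂ) := by
      rw [← h]; simp [hψ1]
    exact_mod_cast h'.symm
  have hdeg1 : charDegree (ψ1 : G → ℂ) = 1 := charDegree_one
  have hd : d ∣ Nat.card G := by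
    obtain ⟨ψ, hψ⟩ := Finset.card_pos.1 (by omega : 0 < E.card)
    rw [← hEdeg ψ hψ]
    exact Cfsg.Agent.Helper79.irr_degree_dvd_card ψ
  have hsplit1 := Finset.add_sum_erase Finset.univ (fun ψ => (a ψ) ^ 2) (Finset.mem_univ ψ1)
  have hsplit2 := Finset.add_sum_erase Finset.univ
    (fun ψ => a ψ * (charDegree (ψ : G → ℂ) : ℤ)) (Finset.mem_univ ψ1)
  simp only [ha1, hdeg1] at hsplit1 hsplit2
  have hrest : 0 ≤ ∑ ψ ∈ Finset.univ.erase ψ1, (a ψ) ^ 2 :=
    Finset.sum_nonneg (fun i _ => sq_nonneg _)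
  rw [← hsplit1] at hnorm
  rw [← hsplit2] at hdegeq
  have hp2 : (p : ℤ) = 2 * t + 1 := by rw [← hte]; push_cast; ring
  have ht' : (2 : ℤ) ≤ t := by exact_mod_cast ht
  have hle1 : ∑ ψ ∈ Finset.univ.erase ψ1, (a ψ) ^ 2 ≤ 1 := by
    by_contra hgt
    push Not at hgt
    have h2 : (2 : ℤ) ≤ ∑ ψ ∈ Finset.univ.erase ψ1, (a ψ) ^ 2 := hgt
    nlinarith [sq_nonneg w]
  have hcases : ∑ ψ ∈ Finset.univ.erase ψ1, (a ψ) ^ 2 = 0 ∨
      ∑ ψ ∈ Finset.univ.erase ψ1, (a ψ) ^ 2 = 1 := by omega
  rcases hcases with h0 | h1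
  · -- only the trivial character: impossible
    exfalso
    have hz := all_zero _ a h0
    have hs0 : ∑ ψ ∈ Finset.univ.erase ψ1, a ψ * (charDegree (ψ : G → ℂ) : ℤ) = 0 :=
      Finset.sum_eq_zero (fun ψ hψ => by rw [hz ψ hψ, zero_mul])
    rw [hs0] at hdegeq
    rw [h0] at hnorm
    push_cast at hdegeq
    have hdw : (d : ℤ) * w = -1 := by linarith
    have hd0 : (0 : ℤ) ≤ d := by positivity
    have hd1 : (1 : ℤ) ≤ d := by
      by_contra h
      have h0 : (d : ℤ) = 0 := by omega
      rw [h0] at hdw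
      simp at hdw
    have hwneg : w ≤ -1 := by
      by_contra h
      push Not at h
      have : 0 ≤ w := by omega
      nlinarith
    have hwge : -1 ≤ w := by
      by_contra h
      push Not at h
      have : w ≤ -2 := by omega
      nlinarith
    have hw1 : w = -1 := by omega
    rw [hw1] at hnorm
    nlinarith
  · -- one more character
    obtain ⟨X, hX, haX, hrest0⟩ := peel (Finset.univ.erase ψ1) a 0 (by norm_num)
      (by rw [h1]; norm_num)
    have hXne : X ≠ ψ1 := (Finset.mem_erase.1 hX).1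
    have hz := all_zero _ a (by exact_mod_cast hrest0)
    have hsplit3 := Finset.add_sum_erase (Finset.univ.erase ψ1)
      (fun ψ => a ψ * (charDegree (ψ : G → ℂ) : ℤ)) hX
    have hs0 : ∑ ψ ∈ (Finset.univ.erase ψ1).erase X, a ψ * (charDegree (ψ : G → ℂ) : ℤ) = 0 :=
      Finset.sum_eq_zero (fun ψ hψ => by rw [hz ψ hψ, zero_mul])
    rw [hs0, add_zero] at hsplit3
    rw [← hsplit3] at hdegeq
    push_cast at hdegeq
    rw [h1] at hnorm
    have hw1 : w ^ 2 = 1 := by nlinarith
    have hw : w = 1 ∨ w = -1 := by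
      have h : (w - 1) * (w + 1) = 0 := by ring_nf; linarith
      rcases mul_eq_zero.1 h with h | h
      · left; linarith
      · right; linarith
    have hXE : X ∉ E := by
      intro h
      have := haE X h
      rcases haX with h' | h' <;> rw [h'] at this <;> norm_num at this
    have hxdvd : charDegree (X : G → ℂ) ∣ Nat.card G := Cfsg.Agent.Helper79.irr_degree_dvd_card X
    have hxpos : 0 < charDegree (X : G → ℂ) := (Cfsg.Agent.Helper79.irr_one_eq X).2
    have hx1 : charDegree (X : G → ℂ) ≠ 1 := by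
      intro h
      apply hXne
      apply Subtype.ext
      exact linear_trivial_of_perfect hperf X h
    have hcX := hcong X hXE
    refine ⟨charDegree (X : G → ℂ), d, E, hEcard, hEdeg, by omega, hxdvd, hd, ?_⟩
    set x := charDegree (X : G → ℂ) with hx
    have hd0 : (0 : ℤ) ≤ d := by positivity
    have hx2 : (2 : ℤ) ≤ x := by omega
    rcases haX with haX | haX
    · -- a X = 1
      left
      rw [haX] at hcX hdegeq
      rcases hw with hw | hw
      · rw [hw] at hdegeq; nlinarith
      · rw [hw] at hdegeq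
        have hdx : d = x + 1 := by omega
        refine ⟨?_, hdx⟩
        have : ((x - 1 : ℕ) : ℤ) = (x : ℤ) - 1 := by
          rw [Nat.cast_sub (by omega)]; simp
        exact_mod_cast (this ▸ hcX)
    · -- a X = -1
      right
      rw [haX] at hcX hdegeq
      rcases hw with hw | hw
      · rw [hw] at hdegeq
        have hdx : d = x - 1 := by omega
        refine ⟨?_, hdx⟩
        have : ((x + 1 : ℕ) : ℤ) = (x : ℤ) - (-1) := by push_cast; ring
        exact_mod_cast (this ▸ hcX)
      · rw [hw] at hdegeq; nlinarith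

set_option maxRecDepth 1000000 in
theorem h91_adm19 : ∀ d ∈ List.range (3080 + 1), d ∣ 3080 → d % 19 = 1 →
    ¬ Bad (19 ^ 1 * 3080) 19 1 3080 d → d = 77 ∨ d = 1540 := by
  decide +kernel

set_option maxRecDepth 1000000 in
theorem h91_adm11 : ∀ d ∈ List.range (5320 + 1), d ∣ 5320 → d % 11 = 1 →
    ¬ Bad (11 ^ 1 * 5320) 11 1 5320 d → d = 56 ∨ d = 133 := by
  decide +kernel

set_option maxRecDepth 1000000 in
theorem h91_adm7 : ∀ d ∈ List.range (8360 + 1), d ∣ 8360 → d % 7 = 1 →
    ¬ Bad (7 ^ 1 * 8360) 7 1 8360 d → d = 22 ∨ d = 190 ∨ d = 4180 := by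
  decide +kernel

theorem h91_arith : ∀ x ∈ List.range 243, 1 < x → x ∣ 58520 →
    ((19 ∣ x - 1 ∧ (x + 1) ∣ 58520) ∨ (19 ∣ x + 1 ∧ (x - 1) ∣ 58520)) →
    x = 56 ∧ ¬ (19 ∣ x - 1) := by
  decide +kernel

/-- no nonabelian simple group of order `58520 = 2^3 * 5 * 7 * 11 * 19`. -/
theorem no_58520_aux.{v} : NoSimple.{v} 58520 := by
  intro G _ _ _ hna hn0
  classical
  have h19 : Fact (Nat.Prime 19) := ⟨by norm_num⟩
  have h11 : Fact (Nat.Prime 11) := ⟨by norm_num⟩
  have h7 : Fact (Nat.Prime 7) := ⟨by norm_num⟩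
  have h5 : Fact (Nat.Prime 5) := ⟨by norm_num⟩
  have hn19 : Nat.card G = 19 ^ 1 * 3080 := by rw [hn0]; norm_num
  have hn11 : Nat.card G = 11 ^ 1 * 5320 := by rw [hn0]; norm_num
  have hn7 : Nat.card G = 7 ^ 1 * 8360 := by rw [hn0]; norm_num
  obtain ⟨hP19, hr19, hd19, hm19, hb19, hone19, he19⟩ :=
    h87_data hna 19 3080 (by norm_num) hn19 (by norm_num)
  obtain ⟨hP11, hr11, hd11, hm11, hb11, -, he11⟩ :=
    h87_data hna 11 5320 (by norm_num) hn11 (by norm_num)
  obtain ⟨hP7, hr7, hd7, hm7, hb7, -, he7⟩ :=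
    h87_data hna 7 8360 (by norm_num) hn7 (by norm_num)
  obtain ⟨P19⟩ : Nonempty (Sylow 19 G) := inferInstance
  obtain ⟨P11⟩ : Nonempty (Sylow 11 G) := inferInstance
  obtain ⟨P7⟩ : Nonempty (Sylow 7 G) := inferInstance
  obtain ⟨e19, he19a, he19b, he19c⟩ := he19 P19
  obtain ⟨e11, he11a, he11b, he11c⟩ := he11 P11
  obtain ⟨e7, he7a, he7b, he7c⟩ := he7 P7
  have he19le : e19 ≤ 18 := Nat.le_of_dvd (by norm_num) he19a
  have he11le : e11 ≤ 10 := Nat.le_of_dvd (by norm_num) he11a
  have he7le : e7 ≤ 6 := Nat.le_of_dvd (by norm_num) he7a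
  -- `n_19 = 1540`
  have hc19 : Nat.card (Sylow 19 G) = 1540 := by
    rcases h91_adm19 _ hr19 hd19 hm19 hb19 with h | h
    · exfalso
      rw [h] at he19c
      have h5c : 5 ∣ Nat.card (Subgroup.centralizer ((P19 : Subgroup G) : Set G)) := by
        generalize Nat.card (Subgroup.centralizer ((P19 : Subgroup G) : Set G)) = c at he19c
        interval_cases e19 <;> omega
      obtain ⟨f, m', -, hf1, hf2, -, hf3, -⟩ :=
        exists_fix (G := G) (by rw [hn0]; norm_num) (p := 19) (r := 5) (by norm_num) P19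
          (hP19 P19) hone19 h5c
      rw [h] at hf2 hf3
      omega
    · exact h
  -- `n_11 = 133`
  have hc11 : Nat.card (Sylow 11 G) = 133 := by
    rcases h91_adm11 _ hr11 hd11 hm11 hb11 with h | h
    · exfalso
      rw [h] at he11c
      have h19c : 19 ∣ Nat.card (Subgroup.centralizer ((P11 : Subgroup G) : Set G)) := by
        generalize Nat.card (Subgroup.centralizer ((P11 : Subgroup G) : Set G)) = c at he11c
        interval_cases e11 <;> omega
      have := h87_link hP11 hP19 P11 h19c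
      rw [hn0, hc19] at this
      omega
    · exact h
  -- `n_7 = 4180`
  have hc7 : Nat.card (Sylow 7 G) = 4180 := by
    rcases h91_adm7 _ hr7 hd7 hm7 hb7 with h | h | h
    · exfalso
      rw [h] at he7c
      have h19c : 19 ∣ Nat.card (Subgroup.centralizer ((P7 : Subgroup G) : Set G)) := by
        generalize Nat.card (Subgroup.centralizer ((P7 : Subgroup G) : Set G)) = c at he7c
        interval_cases e7 <;> omega
      have := h87_link hP7 hP19 P7 h19c
      rw [hn0, hc19] at this
      omega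
    · exfalso
      rw [h] at he7c
      have h11c : 11 ∣ Nat.card (Subgroup.centralizer ((P7 : Subgroup G) : Set G)) := by
        generalize Nat.card (Subgroup.centralizer ((P7 : Subgroup G) : Set G)) = c at he7c
        interval_cases e7 <;> omega
      have := h87_link hP7 hP11 P7 h11c
      rw [hn0, hc11] at this
      omega
    · exact h
  -- normalizers
  have hN19 : Nat.card (Subgroup.normalizer ((P19 : Subgroup G) : Set G)) = 19 * 2 := by
    have := card_normalizer_mul_sylow_count P19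
    rw [hc19, hn0] at this
    omega
  have hN7 : Nat.card (Subgroup.normalizer ((P7 : Subgroup G) : Set G)) = 7 * 2 := by
    have := card_normalizer_mul_sylow_count P7
    rw [hc7, hn0] at this
    omega
  have hC19 := centralizer_eq_of_card_normalizer P19 (hP19 P19) (by rw [hn0]; norm_num)
    Nat.prime_two hN19
  have hC7 := centralizer_eq_of_card_normalizer P7 (hP7 P7) (by rw [hn0]; norm_num)
    Nat.prime_two hN7
  have hperf : commutator G = ⊤ := perfect_of_simple (by rw [hn0]; norm_num)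
  have := Fintype.ofFinite G
  -- nine characters of degree 55
  obtain ⟨x, d, E, hEcard, hEdeg, hx1, hxdvd, hddvd, hxd⟩ :=
    dihedral_exc hperf (P19 : Subgroup G) 19 9 (hP19 P19) hC19 hN19 (by norm_num) (by norm_num)
  rw [hn0] at hxdvd hddvd
  have hx243 : x < 243 := by
    rcases hxd with ⟨-, hdx⟩ | ⟨-, hdx⟩
    · have hco : Nat.Coprime x d := by
        rw [hdx]; simp
      have := Nat.le_of_dvd (by norm_num) (hco.mul_dvd_of_dvd_of_dvd hxdvd hddvd)
      rw [hdx] at this
      nlinarith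
    · have hco : Nat.Coprime x d := by
        rw [hdx]
        have : x = (x - 1) + 1 := by omega
        rw [Nat.coprime_comm]
        nth_rewrite 2 [this]
        simp
      have := Nat.le_of_dvd (by norm_num) (hco.mul_dvd_of_dvd_of_dvd hxdvd hddvd)
      rw [hdx] at this
      have hx1' : 1 ≤ x := by omega
      obtain ⟨y, rfl⟩ : ∃ y, x = y + 1 := ⟨x - 1, by omega⟩
      simp at this
      nlinarith
  have hkey := h91_arith x (List.mem_range.2 hx243) hx1 hxdvd (by
    rcases hxd with ⟨h1, hdx⟩ | ⟨h1, hdx⟩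
    · exact Or.inl ⟨h1, hdx ▸ hddvd⟩
    · exact Or.inr ⟨h1, hdx ▸ hddvd⟩)
  have hd55 : d = 55 := by
    rcases hxd with ⟨h1, -⟩ | ⟨-, hdx⟩
    · exact absurd h1 hkey.2
    · rw [hdx, hkey.1]
  -- at most five characters of degree prime to 7
  have hle := card_not_dvd_le (P7 : Subgroup G) 7 2 3 (hP7 P7) hC7 hN7 le_rfl (by norm_num)
    (by norm_num) E (fun ψ hψ => by rw [hEdeg ψ hψ, hd55]; norm_num)
  omega

/-- (N58520) no simple group of order `58520 = 2^3 * 5 * 7 * 11 * 19`. -/
theorem no_58520 {G : Type u} [Group G] [Finite G] [IsSimpleGroup G] : Nat.card G ≠ 58520 := by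
  intro h
  have hnp : ¬ (Nat.card G).Prime := by rw [h]; norm_num
  exact no_58520_aux G (Cfsg.Agent.Helper17.not_comm_of_not_prime hnp) h

end Cfsg.Agent.Helper91.O175560
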