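import Mathlib
import Cfsg.Agent.S0071
import Cfsg.Agent.Lib.Helper86.O2520SUMS

/-!
# O2520 (helper55 server, row S0984): the `|C(u²)| = 120` sub-case of piece (C5)

A group `J` of order `120` with a central involution `u ^ 2`, `u` of order `4`, and an involution `w` inverting `u`
has a normal Sylow `5`-subgroup: `⟨u, w⟩` is a dihedral Sylow `2`-subgroup, every element of odd order
normalizing a subgroup of it centralizes that subgroup, so by Frobenius' theorem (S0071) `J` has a normal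
`2`-complement of order `15`, whose Sylow `5`-subgroup is characteristic.
-/

set_option autoImplicit false
set_option linter.style.haveILetI false

namespace Cfsg.Agent.Helper91.O2520

open scoped Classical

section key
variable {J : Type*} [Group J]

/-- if `g ^ m = 1` with `m` odd, `g` commutes with `y = [g, x]` and `y ^ 4 = 1`, then `g` commutes with `x` -/
theorem h91_conj_eq_of_pow {g x : J} {m : ℕ} (hg : g ^ m = 1) (hm : Nat.Coprime m 4)
    (ha : Commute g (g * x * g⁻¹ * x⁻¹)) (hb : (g * x * g⁻¹ * x⁻¹) ^ 4 = 1) :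
    g * x * g⁻¹ = x := by
  set y := g * x * g⁻¹ * x⁻¹ with hy
  have hgx : g * x * g⁻¹ = y * x := by rw [hy]; group
  have key : ∀ i : ℕ, g ^ i * x * (g ^ i)⁻¹ = y ^ i * x := by
    intro i
    induction i with
    | zero => simp
    | succ i ih =>
      have h1 : g ^ (i + 1) * x * (g ^ (i + 1))⁻¹ = g * (g ^ i * x * (g ^ i)⁻¹) * g⁻¹ := by
        rw [pow_succ']; group
      rw [h1, ih]
      have hcomm : g * y ^ i = y ^ i * g := (ha.pow_right i).eq
      calc g * (y ^ i * x) * g⁻¹ = (g * y ^ i) * x * g⁻¹ := by group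
        _ = y ^ i * g * x * g⁻¹ := by rw [hcomm]
        _ = y ^ i * (g * x * g⁻¹) := by group
        _ = y ^ i * (y * x) := by rw [hgx]
        _ = y ^ (i + 1) * x := by rw [pow_succ]; group
  have h1 := key m
  rw [hg] at h1
  have hym : y ^ m = 1 := by
    have : x = y ^ m * x := by simpa using h1
    exact (mul_eq_right.mp this.symm)
  have hd1 : orderOf y ∣ m := orderOf_dvd_of_pow_eq_one hym
  have hd2 : orderOf y ∣ 4 := orderOf_dvd_of_pow_eq_one hb
  have hd : orderOf y ∣ Nat.gcd m 4 := Nat.dvd_gcd hd1 hd2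
  rw [hm] at hd
  have hy1 : y = 1 := orderOf_eq_one_iff.mp (Nat.dvd_one.mp hd)
  rw [hgx, hy1, one_mul]

end key

section dih
variable {J : Type*} [Group J] (u w : J) (hu : orderOf u = 4) (hw : orderOf w = 2)
  (hwu : w * u * w⁻¹ = u⁻¹)
include hw in
theorem h91_w_sq : w * w = 1 := by
  have := pow_orderOf_eq_one w
  rwa [hw, sq] at this

include hw in
theorem h91_w_inv : w⁻¹ = w := inv_eq_of_mul_eq_one_right (h91_w_sq w hw)

include hu in
theorem h91_u_pow4 : u ^ 4 = 1 := by
  have := pow_orderOf_eq_one u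
  rwa [hu] at this

include hwu in
theorem h91_conj_zpow (k : ℤ) : w * u ^ k * w⁻¹ = (u ^ k)⁻¹ := by
  have h := map_zpow (MulAut.conj w) u k
  simp only [MulAut.conj_apply] at h
  rw [h, hwu, inv_zpow]

include hw hwu in
theorem h91_w_normalizes : w ∈ Subgroup.normalizer ((Subgroup.zpowers u : Subgroup J) : Set J) := by
  rw [Subgroup.mem_normalizer_iff]
  intro n
  constructor
  · rintro ⟨k, rfl⟩
    rw [h91_conj_zpow u w hwu k]
    exact inv_mem ⟨k, rfl⟩
  · intro h
    obtain ⟨k, hk⟩ := h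
    have hk' : u ^ k = w * n * w⁻¹ := hk
    have h2 : n = w⁻¹ * (u ^ k) * w := by rw [hk']; group
    have h3 : w⁻¹ * u ^ k * w = (u ^ k)⁻¹ := by
      have := h91_conj_zpow u w hwu k
      rw [h91_w_inv w hw] at this ⊢
      exact this
    rw [h2, h3]
    exact inv_mem ⟨k, rfl⟩

include hu hwu in
theorem h91_w_not_mem : w ∉ Subgroup.zpowers u := by
  rintro ⟨k, hk⟩
  have hk' : u ^ k = w := hk
  have hc : w * u * w⁻¹ = u := by
    rw [← hk']
    have : Commute (u ^ k) u := (Commute.refl u).zpow_left k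
    rw [this.eq]; group
  rw [hwu] at hc
  have h2 : u ^ 2 = 1 := by
    rw [sq]
    calc u * u = u * u⁻¹ := by rw [hc]
      _ = 1 := mul_inv_cancel u
  have := orderOf_dvd_of_pow_eq_one h2
  rw [hu] at this
  omega

include hw hwu in
/-- membership in the dihedral group `⟨u⟩ ⊔ ⟨w⟩` -/
theorem h91_mem_dih (g : J) : g ∈ Subgroup.zpowers u ⊔ Subgroup.zpowers w ↔
    (g ∈ Subgroup.zpowers u ∨ g * w ∈ Subgroup.zpowers u) := by
  have hw2 := h91_w_sq w hw
  have hle : Subgroup.zpowers w ≤ Subgroup.normalizer ((Subgroup.zpowers u : Subgroup J) : Set J) :=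
    Subgroup.zpowers_le.mpr (h91_w_normalizes u w hw hwu)
  have hset := Subgroup.coe_mul_of_right_le_normalizer_left (Subgroup.zpowers u) (Subgroup.zpowers w) hle
  rw [← SetLike.mem_coe, hset]
  constructor
  · rintro ⟨a, ha, b, hb, rfl⟩
    have hb' : b ∈ Subgroup.zpowers w := hb
    obtain ⟨k, rfl⟩ := hb'
    rcases Int.emod_two_eq_zero_or_one k with h0 | h1
    · left
      have : w ^ k = 1 := by
        obtain ⟨j, rfl⟩ : (2 : ℤ) ∣ k := Int.dvd_of_emod_eq_zero h0
        rw [zpow_mul, zpow_ofNat, sq, hw2, one_zpow]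
      simpa [this] using ha
    · right
      have : w ^ k = w := by
        have hk : k = 2 * (k / 2) + 1 := by omega
        rw [hk, zpow_add, zpow_mul, zpow_ofNat, sq, hw2, one_zpow, one_mul, zpow_one]
      simp only [this]
      rw [mul_assoc, hw2, mul_one]
      exact ha
  · rintro (h | h)
    · exact ⟨g, h, 1, one_mem _, mul_one g⟩
    · refine ⟨g * w, h, w, Subgroup.mem_zpowers w, ?_⟩
      show g * w * w = g
      rw [mul_assoc, hw2, mul_one]

end dih

section main
variable {J : Type*} [Group J] (u w : J) (hu : orderOf u = 4) (hw : orderOf w = 2)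
  (hwu : w * u * w⁻¹ = u⁻¹) (hcen : ∀ g : J, g * u ^ 2 = u ^ 2 * g)

include hu hcen in
/-- an element of `⟨u⟩` of square `1` is central -/
theorem h91_central_of_sq (y : J) (hy : y ∈ Subgroup.zpowers u) (hy2 : y ^ 2 = 1) (g : J) :
    Commute g y := by
  obtain ⟨k, rfl⟩ := hy
  have h1 : u ^ (k * 2) = 1 := by
    rw [zpow_mul, zpow_ofNat]; exact hy2
  have h2 : ((orderOf u : ℕ) : ℤ) ∣ k * 2 := orderOf_dvd_iff_zpow_eq_one.mpr h1
  rw [hu] at h2
  obtain ⟨j, hj⟩ : (2 : ℤ) ∣ k := by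
    obtain ⟨c, hc⟩ := h2
    exact ⟨c, by push_cast at hc; omega⟩
  have h3 : u ^ k = (u ^ 2) ^ j := by
    rw [hj, zpow_mul, zpow_ofNat]
  show Commute g (u ^ k)
  rw [h3]
  exact (show Commute g (u ^ 2) from hcen g).zpow_right j

include hcen in
/-- the square of an element of `⟨u⟩` is central -/
theorem h91_sq_central (x : J) (hx : x ∈ Subgroup.zpowers u) (g : J) : Commute g (x ^ 2) := by
  obtain ⟨k, rfl⟩ := hx
  have h3 : (u ^ k) ^ 2 = (u ^ 2) ^ k := by
    rw [← zpow_ofNat, ← zpow_mul, mul_comm, zpow_mul, zpow_ofNat]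
  rw [h3]
  exact (show Commute g (u ^ 2) from hcen g).zpow_right k

include hu in
theorem h91_pow4_of_mem (y : J) (hy : y ∈ Subgroup.zpowers u) : y ^ 4 = 1 := by
  obtain ⟨k, rfl⟩ := hy
  show (u ^ k) ^ 4 = 1
  rw [← zpow_ofNat, ← zpow_mul, mul_comm, zpow_mul, zpow_ofNat, h91_u_pow4 u hu, one_zpow]

include hu hw hwu hcen in
/-- Step 1: an element of odd order normalizing `Q ≤ ⟨u,w⟩` centralizes `Q ⊓ ⟨u⟩` -/
theorem h91_step1 (Q : Subgroup J) (hQ : Q ≤ Subgroup.zpowers u ⊔ Subgroup.zpowers w) (g : J)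
    (hg : g ∈ Subgroup.normalizer (Q : Set J)) (m : ℕ) (hgm : g ^ m = 1) (hm : Nat.Coprime m 4)
    (x : J) (hxQ : x ∈ Q) (hxu : x ∈ Subgroup.zpowers u) : g * x * g⁻¹ = x := by
  have hx'Q : g * x * g⁻¹ ∈ Q := (Subgroup.mem_normalizer_iff.mp hg x).mp hxQ
  have hx'T := hQ hx'Q
  rw [h91_mem_dih u w hw hwu] at hx'T
  have hconjsq : (g * x * g⁻¹) ^ 2 = g * x ^ 2 * g⁻¹ := by
    rw [sq, sq]; group
  rcases hx'T with h | h
  · -- both in ⟨u⟩
    apply h91_conj_eq_of_pow hgm hm
    · apply h91_central_of_sq u hu hcen _ (mul_mem h (inv_mem hxu))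
      have hcomm : Commute (g * x * g⁻¹) x⁻¹ := by
        obtain ⟨a, ha⟩ := h
        obtain ⟨b, hb⟩ := hxu
        have ha' : u ^ a = g * x * g⁻¹ := ha
        have hb' : u ^ b = x := hb
        rw [← ha', ← hb', ← zpow_neg]
        exact ((Commute.refl u).zpow_left a).zpow_right (-b)
      rw [hcomm.mul_pow, hconjsq]
      have hc := h91_sq_central u hcen x hxu g
      have h5 : g * x ^ 2 * g⁻¹ = x ^ 2 := by
        rw [hc.eq, mul_assoc, mul_inv_cancel, mul_one]
      rw [h5, inv_pow, mul_inv_cancel]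
    · exact h91_pow4_of_mem u hu _ (mul_mem h (inv_mem hxu))
  · -- g x g⁻¹ = a w is an involution, so x ^ 2 = 1 and x is central
    obtain ⟨k, hk⟩ := h
    have hk' : u ^ k = g * x * g⁻¹ * w := hk
    have hx' : g * x * g⁻¹ = u ^ k * w := by
      rw [hk', mul_assoc (g * x * g⁻¹) w w, h91_w_sq w hw, mul_one]
    have hsq' : (g * x * g⁻¹) ^ 2 = 1 := by
      rw [hx', sq]
      have h1 := h91_conj_zpow u w hwu k
      rw [h91_w_inv w hw] at h1
      calc u ^ k * w * (u ^ k * w) = u ^ k * (w * u ^ k * w) := by group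
        _ = u ^ k * (u ^ k)⁻¹ := by rw [h1]
        _ = 1 := mul_inv_cancel _
    have hsq : x ^ 2 = 1 := by
      rw [hconjsq] at hsq'
      have : x ^ 2 = g⁻¹ * (g * x ^ 2 * g⁻¹) * g := by group
      rw [this, hsq']; group
    have hc := h91_central_of_sq u hu hcen x hxu hsq g
    rw [hc.eq, mul_assoc, mul_inv_cancel, mul_one]

include hu hw hwu hcen in
/-- Step 2: an element of odd order normalizing `Q ≤ ⟨u,w⟩` centralizes `Q` -/
theorem h91_step2 (Q : Subgroup J) (hQ : Q ≤ Subgroup.zpowers u ⊔ Subgroup.zpowers w) (g : J)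
    (hg : g ∈ Subgroup.normalizer (Q : Set J)) (m : ℕ) (hgm : g ^ m = 1) (hm : Nat.Coprime m 4)
    (x : J) (hxQ : x ∈ Q) : g * x * g⁻¹ = x := by
  by_cases hxu : x ∈ Subgroup.zpowers u
  · exact h91_step1 u w hu hw hwu hcen Q hQ g hg m hgm hm x hxQ hxu
  have hxT := hQ hxQ
  rw [h91_mem_dih u w hw hwu] at hxT
  have hxw : x * w ∈ Subgroup.zpowers u := hxT.resolve_left hxu
  have hx'Q : g * x * g⁻¹ ∈ Q := (Subgroup.mem_normalizer_iff.mp hg x).mp hxQ
  have hx'T := hQ hx'Q
  rw [h91_mem_dih u w hw hwu] at hx'T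
  have hx'w : g * x * g⁻¹ * w ∈ Subgroup.zpowers u := by
    rcases hx'T with h | h
    · exfalso
      apply hxu
      have hg' : g⁻¹ ∈ Subgroup.normalizer (Q : Set J) := inv_mem hg
      have hgm' : g⁻¹ ^ m = 1 := by rw [inv_pow, hgm, inv_one]
      have := h91_step1 u w hu hw hwu hcen Q hQ g⁻¹ hg' m hgm' hm (g * x * g⁻¹) hx'Q h
      have h2 : g⁻¹ * (g * x * g⁻¹) * g⁻¹⁻¹ = x := by group
      rw [h2] at this
      rw [this]; exact h
    · exact h
  have hy : g * x * g⁻¹ * x⁻¹ ∈ Subgroup.zpowers u := by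
    have : g * x * g⁻¹ * x⁻¹ = (g * x * g⁻¹ * w) * (x * w)⁻¹ := by group
    rw [this]
    exact mul_mem hx'w (inv_mem hxw)
  have hyQ : g * x * g⁻¹ * x⁻¹ ∈ Q := mul_mem hx'Q (inv_mem hxQ)
  apply h91_conj_eq_of_pow hgm hm
  · have := h91_step1 u w hu hw hwu hcen Q hQ g hg m hgm hm _ hyQ hy
    show g * (g * x * g⁻¹ * x⁻¹) = (g * x * g⁻¹ * x⁻¹) * g
    calc g * (g * x * g⁻¹ * x⁻¹) = (g * (g * x * g⁻¹ * x⁻¹) * g⁻¹) * g := by group
      _ = (g * x * g⁻¹ * x⁻¹) * g := by rw [this]
  · exact h91_pow4_of_mem u hu _ hy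

end main

section top
variable {J : Type*} [Group J] [Finite J]

/-- the dihedral group `⟨u⟩ ⊔ ⟨w⟩` has order `8` -/
theorem h91_card_dih (u w : J) (hu : orderOf u = 4) (hw : orderOf w = 2)
    (hwu : w * u * w⁻¹ = u⁻¹) :
    Nat.card (Subgroup.zpowers u ⊔ Subgroup.zpowers w : Subgroup J) = 8 := by
  haveI : Fintype J := Fintype.ofFinite J
  apply Cfsg.Agent.Helper86.O2520.h86_card_of_sum
  rw [Cfsg.Agent.Helper86.O2520.h86_sum_sup u w hw (h91_w_normalizes u w hw hwu)
    (h91_w_not_mem u w hu hwu) (fun _ => (1 : ℂ))]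
  rw [Cfsg.Agent.Helper86.O2520.h86_sum_zpowers u 4 hu (by norm_num) (fun _ => (1 : ℂ))]
  simp
  norm_num

/-- **The `|C(u²)| = 120` sub-case of (C5)**: a group of order `120` with a central involution `u ^ 2`,
`u` of order `4`, and an involution `w` inverting `u` has a normal Sylow `5`-subgroup. -/
theorem c120_normal_sylow5 (hJ : Nat.card J = 120) (u w : J) (hu : orderOf u = 4)
    (hw : orderOf w = 2) (hwu : w * u * w⁻¹ = u⁻¹) (hcen : ∀ g : J, g * u ^ 2 = u ^ 2 * g) :
    ∃ Q : Sylow 5 J, (Q : Subgroup J).Normal := by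
  have hcardT := h91_card_dih u w hu hw hwu
  have hfac2 : (Nat.card J).factorization 2 = 3 := by rw [hJ]; decide +kernel
  have hfac5 : (Nat.card J).factorization 5 = 1 := by rw [hJ]; decide +kernel
  let S2 : Sylow 2 J := Sylow.ofCard (Subgroup.zpowers u ⊔ Subgroup.zpowers w)
    (by rw [hcardT, hfac2]; norm_num)
  have hS2 : (S2 : Subgroup J) = Subgroup.zpowers u ⊔ Subgroup.zpowers w := Sylow.coe_ofCard _ _
  -- Frobenius' criterion
  obtain ⟨N, hNn, hNc⟩ := (Cfsg.Agent.S0071.result S2).mpr (by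
    intro Q hQ g hg hcop
    rw [hS2] at hQ
    rw [Subgroup.mem_centralizer_iff]
    intro x hx
    have hm : Nat.Coprime (orderOf g) 4 := by
      have : (4 : ℕ) = 2 ^ 2 := by norm_num
      rw [this]
      exact Nat.Coprime.pow_right 2 hcop
    have := h91_step2 u w hu hw hwu hcen Q hQ g hg (orderOf g) (pow_orderOf_eq_one g) hm x hx
    calc x * g = (g * x * g⁻¹) * g := by rw [this]
      _ = g * x := by group)
  have hcardN : Nat.card N = 15 := by
    have h1 := hNc.card_mul_card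
    rw [hS2, hcardT, hJ] at h1
    omega
  -- the Sylow 5-subgroup of `N` is unique
  haveI : Fact (Nat.Prime 5) := ⟨by norm_num⟩
  let P : Sylow 5 N := default
  have hcardP : Nat.card P = 5 := by
    have h := Sylow.card_eq_multiplicity P
    rw [hcardN] at h
    have hf : (15 : ℕ).factorization 5 = 1 := by decide +kernel
    rw [hf, pow_one] at h
    exact h
  have hidx : (P : Subgroup N).index = 3 := by
    have h := (P : Subgroup N).card_mul_index
    rw [hcardP, hcardN] at h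
    omega
  have hn5 : Nat.card (Sylow 5 N) = 1 := by
    have h1 : Nat.card (Sylow 5 N) ∣ 3 := hidx ▸ Sylow.card_dvd_index P
    have h2 : Nat.card (Sylow 5 N) ≡ 1 [MOD 5] := card_sylow_modEq_one 5 N
    have h3 : Nat.card (Sylow 5 N) ≤ 3 := Nat.le_of_dvd (by norm_num) h1
    have h4 : 0 < Nat.card (Sylow 5 N) := Nat.card_pos
    unfold Nat.ModEq at h2
    interval_cases h : Nat.card (Sylow 5 N) <;> simp_all
  haveI : Subsingleton (Sylow 5 N) := (Nat.card_eq_one_iff_unique.mp hn5).1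
  haveI : (P : Subgroup N).Characteristic := Sylow.characteristic_of_subsingleton P
  haveI := hNn
  have hnorm : ((P : Subgroup N).map N.subtype).Normal :=
    ConjAct.normal_of_characteristic_of_normal
  have hcardM : Nat.card ((P : Subgroup N).map N.subtype) = 5 := by
    exact (Nat.card_congr
      ((P : Subgroup N).equivMapOfInjective N.subtype N.subtype_injective).symm.toEquiv).trans hcardP
  refine ⟨Sylow.ofCard ((P : Subgroup N).map N.subtype) (by rw [hcardM, hfac5, pow_one]), ?_⟩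
  rw [Sylow.coe_ofCard]
  exact hnorm

end top

section frob
universe u

/-- (C5a) of helper23's split of (C5): Frobenius' criterion for a dihedral Sylow `2`-subgroup of order `8`
with central `a ^ 2`. -/
theorem frobD8 {J : Type u} [Group J] [Finite J] (a w : J) (ha : orderOf a = 4) (hw : orderOf w = 2)
    (hwa : w * a * w⁻¹ = a⁻¹) (hz : ∀ x : J, x * a ^ 2 = a ^ 2 * x) (P : Sylow 2 J)
    (hP : Nat.card (P : Subgroup J) = 8) (haP : a ∈ (P : Subgroup J)) (hwP : w ∈ (P : Subgroup J)) :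
    ∃ N : Subgroup J, N.Normal ∧ N.IsComplement' (P : Subgroup J) := by
  have hle : Subgroup.zpowers a ⊔ Subgroup.zpowers w ≤ (P : Subgroup J) :=
    sup_le (Subgroup.zpowers_le.mpr haP) (Subgroup.zpowers_le.mpr hwP)
  have hcardT := h91_card_dih a w ha hw hwa
  have hPT : (P : Subgroup J) = Subgroup.zpowers a ⊔ Subgroup.zpowers w :=
    (Subgroup.eq_of_le_of_card_ge hle (by rw [hP, hcardT])).symm
  apply (Cfsg.Agent.S0071.result P).mpr
  intro Q hQ g hg hcop
  rw [hPT] at hQ
  rw [Subgroup.mem_centralizer_iff]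
  intro x hx
  have hm : Nat.Coprime (orderOf g) 4 := by
    have : (4 : ℕ) = 2 ^ 2 := by norm_num
    rw [this]
    exact Nat.Coprime.pow_right 2 hcop
  have := h91_step2 a w ha hw hwa hz Q hQ g hg (orderOf g) (pow_orderOf_eq_one g) hm x hx
  calc x * g = (g * x * g⁻¹) * g := by rw [this]
    _ = g * x := by group

end frob

end Cfsg.Agent.Helper91.O2520
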