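import Cfsg.Agent.Lib.Helper7.M12Card
import Cfsg.Agent.Lib.Helper7.Steiner

set_option autoImplicit false

namespace Cfsg.Agent.Helper91
open Cfsg Cfsg.Agent.Helper7
open scoped Pointwise

/-- The octads meeting `o` in exactly `k` points. -/
def meetSet (o : Finset GolayPt) (k : ℕ) : Set (Finset GolayPt) :=
  {o' | o' ∈ octads ∧ (o ∩ o').card = k}

theorem card_smul_inter (g : Equiv.Perm GolayPt) (a b : Finset GolayPt) :
    (g • a ∩ g • b).card = (a ∩ b).card := by
  rw [← Finset.smul_finset_inter, Finset.card_smul_finset]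

theorem meetSet_smul {g : Equiv.Perm GolayPt} (hg : g ∈ M24) (o : Finset GolayPt) (k : ℕ) :
    meetSet (g • o) k = (fun b => g • b) '' meetSet o k := by
  ext b
  constructor
  · rintro ⟨hb, hk⟩
    refine ⟨g⁻¹ • b, ⟨smul_mem_octads (M24.inv_mem hg) hb, ?_⟩, smul_inv_smul g b⟩
    rw [← card_smul_inter g, smul_inv_smul]
    exact hk
  · rintro ⟨b', ⟨hb', hk⟩, rfl⟩
    exact ⟨smul_mem_octads hg hb', by rw [card_smul_inter]; exact hk⟩

theorem ncard_meetSet_smul {g : Equiv.Perm GolayPt} (hg : g ∈ M24) (o : Finset GolayPt) (k : ℕ) :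
    (meetSet (g • o) k).ncard = (meetSet o k).ncard := by
  rw [meetSet_smul hg]
  exact Set.ncard_image_of_injective _ (MulAction.injective g)

theorem ofMask_inter (a m : ℕ) : ofMask a ∩ ofMask m = ofMask (Nat.land a m) := by
  ext p
  rw [Finset.mem_inter, mem_ofMask, mem_ofMask, mem_ofMask]
  show _ ↔ (a &&& m).testBit (idx p) = true
  rw [Nat.testBit_and, Bool.and_eq_true]

theorem ncard_meetSet_root (k : ℕ) : (meetSet (ofMask octRoot) k).ncard =
    (codeList.filter fun m => Nat.beq (popcF m) 8 && Nat.beq (popcF (Nat.land octRoot m)) k).length := by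
  rw [← ncard_code_filter (fun b => b.card = 8 ∧ (ofMask octRoot ∩ b).card = k)]
  · congr 1
    ext b
    simp only [meetSet, Set.mem_ofPred_eq, mem_octads_iff, and_assoc]
  · intro m _
    rw [Bool.and_eq_true, Nat.beq_eq, Nat.beq_eq, card_ofMask', ofMask_inter, card_ofMask']

theorem meet_counts :
    (codeList.filter fun m => Nat.beq (popcF m) 8 && Nat.beq (popcF (Nat.land octRoot m)) 0).length = 30 ∧
    (codeList.filter fun m => Nat.beq (popcF m) 8 && Nat.beq (popcF (Nat.land octRoot m)) 2).length = 448 ∧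
    (codeList.filter fun m => Nat.beq (popcF m) 8 && Nat.beq (popcF (Nat.land octRoot m)) 4).length = 280 := by
  decide +kernel

/-- An octad is disjoint from 30 octads, meets 448 in two points and 280 in four points. -/
theorem ncard_meetSet {o : Finset GolayPt} (ho : o ∈ octads) :
    (meetSet o 0).ncard = 30 ∧ (meetSet o 2).ncard = 448 ∧ (meetSet o 4).ncard = 280 := by
  obtain ⟨g, hg, rfl⟩ := octad_reach M24 le_rfl shift_mem projInv_mem cubeTwist_mem o ho
  rw [ncard_meetSet_smul hg, ncard_meetSet_smul hg, ncard_meetSet_smul hg, ncard_meetSet_root,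
    ncard_meetSet_root, ncard_meetSet_root]
  exact meet_counts

end Cfsg.Agent.Helper91
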