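import Mathlib
import Cfsg.Prelude.Def_Sporadic_a

set_option autoImplicit false

namespace Cfsg.Agent.Helper91
open Cfsg

/-- Binary words of length 24. -/
abbrev V24 := GolayPt → ZMod 2

/-- The standard dot product on binary words, as a bilinear form. -/
noncomputable def dotB : LinearMap.BilinForm (ZMod 2) V24 :=
  LinearMap.mk₂ (ZMod 2) (fun v w => ∑ p, v p * w p)
    (by intro a b c; simp only [Pi.add_apply, add_mul, Finset.sum_add_distrib])
    (by intro c a b; simp only [Pi.smul_apply, smul_eq_mul, mul_assoc, Finset.mul_sum])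
    (by intro a b c; simp only [Pi.add_apply, mul_add, Finset.sum_add_distrib])
    (by intro c a b; simp only [Pi.smul_apply, smul_eq_mul, Finset.mul_sum]
        apply Finset.sum_congr rfl; intro p _; ring)

theorem dotB_apply (v w : V24) : dotB v w = ∑ p, v p * w p := rfl

theorem dotB_comm (v w : V24) : dotB v w = dotB w v := by
  rw [dotB_apply, dotB_apply]
  exact Finset.sum_congr rfl fun p _ => mul_comm _ _

theorem dotB_isSymm : dotB.IsSymm := ⟨fun v w => dotB_comm v w⟩

theorem dotB_isRefl : dotB.IsRefl := dotB_isSymm.isRefl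

theorem dotB_single_right (v : V24) (p : GolayPt) : dotB v (Pi.single p 1) = v p := by
  rw [dotB_apply]
  simp [Pi.single_apply]

theorem dotB_one_left (v : V24) : dotB (fun _ => (1 : ZMod 2)) v = ∑ p, v p := by
  rw [dotB_apply]
  simp

theorem dotB_nondegenerate : dotB.Nondegenerate := by
  constructor
  · intro v hv
    funext p
    have := hv (Pi.single p 1)
    rw [dotB_single_right] at this
    exact this
  · intro v hv
    funext p
    have := hv (Pi.single p 1)
    rw [dotB_comm, dotB_single_right] at this
    exact this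

/-- The coordinate-permutation action on words. -/
def act (σ : Equiv.Perm GolayPt) (w : V24) : V24 := fun p => w (σ.symm p)

theorem act_apply (σ : Equiv.Perm GolayPt) (w : V24) (p : GolayPt) : act σ w p = w (σ.symm p) := rfl

theorem act_add (σ : Equiv.Perm GolayPt) (v w : V24) : act σ (v + w) = act σ v + act σ w := rfl

theorem act_zero (σ : Equiv.Perm GolayPt) : act σ 0 = 0 := rfl

theorem act_one (σ : Equiv.Perm GolayPt) : act σ (fun _ => (1 : ZMod 2)) = fun _ => (1 : ZMod 2) := rfl

theorem act_mul (σ τ : Equiv.Perm GolayPt) (w : V24) : act (σ * τ) w = act σ (act τ w) := by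
  funext p
  simp [act, Equiv.Perm.mul_def]

theorem act_one_perm (w : V24) : act 1 w = w := rfl

theorem act_inv_act (σ : Equiv.Perm GolayPt) (w : V24) : act σ⁻¹ (act σ w) = w := by
  rw [← act_mul, inv_mul_cancel, act_one_perm]

theorem act_act_inv (σ : Equiv.Perm GolayPt) (w : V24) : act σ (act σ⁻¹ w) = w := by
  rw [← act_mul, mul_inv_cancel, act_one_perm]

theorem act_single (σ : Equiv.Perm GolayPt) (p : GolayPt) :
    act σ (Pi.single p 1) = Pi.single (σ p) 1 := by
  funext q
  simp only [act, Pi.single_apply]
  by_cases h : q = σ p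
  · simp [h]
  · have : σ.symm q ≠ p := by
      intro h'
      apply h
      rw [← h', Equiv.apply_symm_apply]
    simp [h, this]

theorem dotB_act (σ : Equiv.Perm GolayPt) (v w : V24) : dotB (act σ v) (act σ w) = dotB v w := by
  rw [dotB_apply, dotB_apply]
  exact Equiv.sum_comp σ.symm (fun p => v p * w p)

theorem dotB_act_right (σ : Equiv.Perm GolayPt) (v w : V24) :
    dotB v (act σ w) = dotB (act σ⁻¹ v) w := by
  rw [← dotB_act σ⁻¹ v (act σ w), act_inv_act]

end Cfsg.Agent.Helper91
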