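import Mathlib
import Cfsg.Prelude.Def_Transfer
import Cfsg.Agent.Lib.Helper48.TransferInv

set_option autoImplicit false

namespace Cfsg.Agent.Helper91
open Cfsg

/-- Distinct conjugates of `s` bound the order of its centralizer. -/
theorem card_centralizer_le_of_conj {S : Type*} [Group S] [Finite S] (s : S) (F : List S)
    (hF : F.Nodup) (hconj : ∀ t ∈ F, ∃ g : S, g * s = t * g) :
    F.length * Nat.card ↥(Subgroup.centralizer ({s} : Set S)) ≤ Nat.card S := by
  classical
  set C := Subgroup.centralizer ({s} : Set S) with hC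
  have hidx : F.length ≤ C.index := by
    choose! g hg using hconj
    rw [Subgroup.index, ← List.toFinset_card_of_nodup hF, ← Nat.card_eq_finsetCard]
    apply Nat.card_le_card_of_injective (fun t : ↥F.toFinset => (g t.1 : S ⧸ C))
    intro t t' htt
    have ht := hg t.1 (List.mem_toFinset.mp t.2)
    have ht' := hg t'.1 (List.mem_toFinset.mp t'.2)
    have hmem : (g t.1)⁻¹ * g t'.1 ∈ C := QuotientGroup.eq.mp htt
    rw [hC, Subgroup.mem_centralizer_iff] at hmem
    have hc := hmem s rfl
    -- s * (g⁻¹ g') = (g⁻¹ g') * s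
    apply Subtype.ext
    have e1 : t.1 = g t.1 * s * (g t.1)⁻¹ := by rw [ht]; group
    have e2 : t'.1 = g t'.1 * s * (g t'.1)⁻¹ := by rw [ht']; group
    rw [e1, e2]
    have : g t'.1 = g t.1 * ((g t.1)⁻¹ * g t'.1) := by group
    rw [this]
    set c := (g t.1)⁻¹ * g t'.1
    have hc' : c * s * c⁻¹ = s := by rw [← hc]; group
    calc g t.1 * s * (g t.1)⁻¹ = g t.1 * (c * s * c⁻¹) * (g t.1)⁻¹ := by rw [hc']
      _ = g t.1 * c * s * (g t.1 * c)⁻¹ := by group
  calc F.length * Nat.card ↥C ≤ C.index * Nat.card ↥C := Nat.mul_le_mul_right _ hidx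
    _ = Nat.card S := by rw [mul_comm]; exact C.card_mul_index

/-- The statement about a group of order `2 ^ 9`, from bounds on centralizers. -/
theorem quot_main {S : Type*} [Group S] [Finite S] (hS : Nat.card S = 512)
    (Xs : Set S) (hXs : Xs.ncard ≤ 15)
    (hX : ∀ s : S, s ∈ Xs ∨ Nat.card ↥(Subgroup.centralizer ({s} : Set S)) ≤ 128)
    (A0 : Subgroup S) (hA0 : IsElementaryAbelian 2 A0) (hA0c : Nat.card ↥A0 = 64)
    (E : Set S) (hE : E.ncard ≤ 16)
    (hA : ∀ s : S, s ∈ A0 ∨ s ∈ E ∨ Nat.card ↥(Subgroup.centralizer ({s} : Set S)) < 64 ∨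
      (Nat.card ↥(Subgroup.centralizer ({s} : Set S)) ≤ 64 ∧
        ∃ u v : S, u ∈ Subgroup.centralizer ({s} : Set S) ∧
          v ∈ Subgroup.centralizer ({s} : Set S) ∧ u * v ≠ v * u)) :
    (∀ M : Subgroup S, IsCoatom M → Nat.card ↥(Subgroup.center ↥M) ≤ 8) ∧
      (∃ A : Subgroup S, IsElementaryAbelian 2 A ∧ Nat.card ↥A = 64) ∧
      ∀ A B : Subgroup S, IsMulCommutative ↥A → Nat.card ↥A = 64 → IsMulCommutative ↥B →
        Nat.card ↥B = 64 → A = B := by
  have : Fact (Nat.Prime 2) := ⟨Nat.prime_two⟩
  have hSp : IsPGroup 2 S := IsPGroup.of_card (n := 9) (by rw [hS]; norm_num)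
  refine ⟨?_, ⟨A0, hA0, hA0c⟩, ?_⟩
  · intro M hM
    have hidx : M.index = 2 := Cfsg.Agent.Helper48.index_of_isCoatom_of_isPGroup hSp hM
    have hMc : Nat.card ↥M = 256 := by
      have := M.card_mul_index
      rw [hidx, hS] at this
      omega
    -- the centre embeds in Xs
    have hsub : ∀ a : ↥(Subgroup.center ↥M), ((a : ↥M) : S) ∈ Xs := by
      intro a
      rcases hX ((a : ↥M) : S) with h | h
      · exact h
      · exfalso
        have hle : M ≤ Subgroup.centralizer ({((a : ↥M) : S)} : Set S) := by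
          intro m hm
          rw [Subgroup.mem_centralizer_iff]
          intro h hh
          rw [Set.mem_singleton_iff] at hh
          subst hh
          have := Subgroup.mem_center_iff.mp a.2 ⟨m, hm⟩
          have := congrArg (Subtype.val) this
          simpa using this.symm
        have := Subgroup.card_le_of_le hle
        omega
    have hXfin : Xs.Finite := Set.toFinite Xs
    have hle : Nat.card ↥(Subgroup.center ↥M) ≤ Xs.ncard := by
      rw [← _root_.Nat.card_coe_set_eq]
      apply Nat.card_le_card_of_injective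
        (fun a : ↥(Subgroup.center ↥M) => (⟨((a : ↥M) : S), hsub a⟩ : ↥Xs))
      intro a b hab
      have := congrArg Subtype.val hab
      exact Subtype.ext (Subtype.ext this)
    have hdvd : Nat.card ↥(Subgroup.center ↥M) ∣ 2 ^ 8 := by
      have := Subgroup.card_subgroup_dvd_card (Subgroup.center ↥M)
      rw [hMc] at this
      simpa using this
    obtain ⟨j, hj, hcj⟩ := (Nat.dvd_prime_pow Nat.prime_two).mp hdvd
    rw [hcj] at hle ⊢
    have hj3 : j ≤ 3 := by
      by_contra hlt
      push Not at hlt
      have : 2 ^ 4 ≤ 2 ^ j := Nat.pow_le_pow_right (by norm_num) hlt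
      omega
    calc 2 ^ j ≤ 2 ^ 3 := Nat.pow_le_pow_right (by norm_num) hj3
      _ = 8 := by norm_num
  · have key : ∀ A : Subgroup S, IsMulCommutative ↥A → Nat.card ↥A = 64 → A = A0 := by
      intro A hAc hA64
      have hcomm : ∀ a ∈ A, ∀ b ∈ A, a * b = b * a := by
        intro a ha b hb
        have := (isMulCommutative_iff.mp hAc) (⟨a, ha⟩ : ↥A) ⟨b, hb⟩
        exact congrArg Subtype.val this
      have hcen : ∀ a ∈ A, A ≤ Subgroup.centralizer ({a} : Set S) := by
        intro a ha b hb
        rw [Subgroup.mem_centralizer_iff]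
        intro h hh
        rw [Set.mem_singleton_iff] at hh
        subst hh
        exact hcomm h ha b hb
      -- every element of `A` lies in `A0` or `E`
      have hmem : ∀ a ∈ A, a ∈ A0 ∨ a ∈ E := by
        intro a ha
        rcases hA a with h | h | h | ⟨h, u, v, hu, hv, huv⟩
        · exact Or.inl h
        · exact Or.inr h
        · exfalso
          have := Subgroup.card_le_of_le (hcen a ha)
          omega
        · exfalso
          have hAC : A = Subgroup.centralizer ({a} : Set S) :=
            Subgroup.eq_of_le_of_card_ge (hcen a ha) (by omega)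
          rw [← hAC] at hu hv
          exact huv (hcomm u hu v hv)
      have hsubset : (A : Set S) ⊆ ((A ⊓ A0 : Subgroup S) : Set S) ∪ E := by
        intro a ha
        rcases hmem a ha with h | h
        · exact Or.inl ⟨ha, h⟩
        · exact Or.inr h
      have hcard1 : (A : Set S).ncard ≤ ((A ⊓ A0 : Subgroup S) : Set S).ncard + E.ncard :=
        (Set.ncard_le_ncard hsubset (Set.toFinite _)).trans (Set.ncard_union_le _ _)
      have e1 : (A : Set S).ncard = 64 := by
        rw [← hA64]; exact (_root_.Nat.card_coe_set_eq _)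
      have e2 : ((A ⊓ A0 : Subgroup S) : Set S).ncard = Nat.card ↥(A ⊓ A0 : Subgroup S) :=
        (_root_.Nat.card_coe_set_eq _)
      have h48 : 48 ≤ Nat.card ↥(A ⊓ A0 : Subgroup S) := by omega
      have hdvd : Nat.card ↥(A ⊓ A0 : Subgroup S) ∣ 2 ^ 6 := by
        have := Subgroup.card_dvd_of_le (inf_le_left : A ⊓ A0 ≤ A)
        rw [hA64] at this
        simpa using this
      obtain ⟨j, hj, hcj⟩ := (Nat.dvd_prime_pow Nat.prime_two).mp hdvd
      have hj6 : j = 6 := by
        by_contra hne
        have hj5 : j ≤ 5 := by omega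
        have : 2 ^ j ≤ 2 ^ 5 := Nat.pow_le_pow_right (by norm_num) hj5
        omega
      have hfull : Nat.card ↥(A ⊓ A0 : Subgroup S) = 64 := by rw [hcj, hj6]; norm_num
      have h1 : A ⊓ A0 = A :=
        Subgroup.eq_of_le_of_card_ge inf_le_left (by omega)
      have h2 : A ⊓ A0 = A0 :=
        Subgroup.eq_of_le_of_card_ge inf_le_right (by omega)
      rw [← h1, h2]
    intro A B hAc hA64 hBc hB64
    rw [key A hAc hA64, key B hBc hB64]

end Cfsg.Agent.Helper91
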