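import Cfsg.Prelude.Def_Spor_Ru

set_option autoImplicit false
open Cfsg Cfsg.Spor

namespace Cfsg.Agent.Helper91.Ru

/-- reduction mod `1+i` -/
def rr : GaussianInt →+* ZMod 2 := Zsqrtd.lift ⟨(1 : ZMod 2), by decide⟩

theorem rr_apply (z : GaussianInt) : rr z = (z.re : ZMod 2) + (z.im : ZMod 2) := by
  simp [rr, Zsqrtd.lift]

def gpi : GaussianInt := ⟨1, 1⟩

theorem neg_zmod2 : ∀ a : ZMod 2, -a = a := by decide
theorem sq_zmod2 : ∀ a : ZMod 2, a * a = a := by decide
theorem eq_one_of_ne_zero_zmod2 : ∀ a : ZMod 2, a ≠ 0 → a = 1 := by decide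
theorem eq_of_add_eq_zero_zmod2 : ∀ a b : ZMod 2, a + b = 0 → a = b := by decide

theorem rr_star (z : GaussianInt) : rr (star z) = rr z := by
  rw [rr_apply, rr_apply]
  simp only [Zsqrtd.re_star, Zsqrtd.im_star, Int.cast_neg, neg_zmod2]

theorem norm_cast_zmod2 (z : GaussianInt) : ((Zsqrtd.norm z : ℤ) : ZMod 2) = rr z := by
  rw [rr_apply, Zsqrtd.norm_def]
  push_cast
  simp only [sq_zmod2, neg_mul, one_mul, sub_neg_eq_add]

theorem rr_eq_zero_iff_even_norm (z : GaussianInt) : rr z = 0 ↔ (2 : ℤ) ∣ Zsqrtd.norm z := by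
  rw [← norm_cast_zmod2, ZMod.intCast_zmod_eq_zero_iff_dvd]
  norm_num

theorem rr_gpi : rr gpi = 0 := by decide

theorem norm_gpi : Zsqrtd.norm gpi = 2 := by decide

/-- exact division by `1+i` -/
theorem exists_mul_gpi (z : GaussianInt) (h : rr z = 0) : ∃ z', z = gpi * z' := by
  rw [rr_apply] at h
  have h2 : (2 : ℤ) ∣ z.re + z.im := by
    have : ((z.re + z.im : ℤ) : ZMod 2) = 0 := by push_cast; exact h
    rwa [ZMod.intCast_zmod_eq_zero_iff_dvd] at this
  obtain ⟨t, ht⟩ := h2
  refine ⟨⟨t, t - z.re⟩, ?_⟩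
  apply Zsqrtd.ext
  · simp [gpi]
  · simp [gpi]; omega

theorem one_le_norm_of_rr (z : GaussianInt) (h : rr z ≠ 0) : 1 ≤ Zsqrtd.norm z := by
  have h0 : 0 ≤ Zsqrtd.norm z := GaussianInt.norm_nonneg z
  have : Zsqrtd.norm z ≠ 0 := by
    intro h'
    rw [GaussianInt.norm_eq_zero] at h'
    rw [h'] at h
    simp at h
  omega

/-! ### vectors -/

def herm (x y : RuVec) : GaussianInt := ∑ p, x p * star (y p)

theorem herm_add_left (x x' y : RuVec) : herm (x + x') y = herm x y + herm x' y := by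
  simp only [herm, Pi.add_apply, add_mul, Finset.sum_add_distrib]

theorem herm_add_right (x y y' : RuVec) : herm x (y + y') = herm x y + herm x y' := by
  simp only [herm, Pi.add_apply, star_add, mul_add, Finset.sum_add_distrib]

theorem herm_smul_left (c : GaussianInt) (x y : RuVec) : herm (c • x) y = c * herm x y := by
  simp only [herm, Pi.smul_apply, smul_eq_mul, Finset.mul_sum, mul_assoc]

theorem herm_smul_right (c : GaussianInt) (x y : RuVec) : herm x (c • y) = star c * herm x y := by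
  simp only [herm, Pi.smul_apply, smul_eq_mul, Finset.mul_sum, star_mul']
  apply Finset.sum_congr rfl
  intro p _
  ring

theorem herm_zero_left (y : RuVec) : herm 0 y = 0 := by simp [herm]
theorem herm_zero_right (x : RuVec) : herm x 0 = 0 := by simp [herm]

theorem ruNorm_smul (c : GaussianInt) (x : RuVec) : ruNorm (c • x) = Zsqrtd.norm c * ruNorm x := by
  simp only [ruNorm, Pi.smul_apply, smul_eq_mul, Zsqrtd.norm_mul, Finset.mul_sum]

theorem re_sum {ι : Type*} (s : Finset ι) (f : ι → GaussianInt) :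
    (∑ i ∈ s, f i).re = ∑ i ∈ s, (f i).re := by
  classical
  induction s using Finset.induction_on with
  | empty => simp
  | insert a s ha ih => rw [Finset.sum_insert ha, Finset.sum_insert ha, Zsqrtd.re_add, ih]

theorem norm_add_gauss (a b : GaussianInt) :
    Zsqrtd.norm (a + b) = Zsqrtd.norm a + Zsqrtd.norm b + 2 * (a * star b).re := by
  simp only [Zsqrtd.norm_def, Zsqrtd.re_add, Zsqrtd.im_add, Zsqrtd.re_mul, Zsqrtd.re_star,
    Zsqrtd.im_star]
  ring

theorem ruNorm_add (x y : RuVec) : ruNorm (x + y) = ruNorm x + ruNorm y + 2 * (herm x y).re := by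
  simp only [ruNorm, herm, re_sum, Pi.add_apply, norm_add_gauss, Finset.sum_add_distrib,
    Finset.mul_sum]

theorem ruNorm_nonneg (x : RuVec) : 0 ≤ ruNorm x :=
  Finset.sum_nonneg fun p _ => GaussianInt.norm_nonneg (x p)

theorem ruNorm_eq_zero {x : RuVec} (h : ruNorm x = 0) : x = 0 := by
  funext p
  have := (Finset.sum_eq_zero_iff_of_nonneg (fun p _ => GaussianInt.norm_nonneg (x p))).mp h p
    (Finset.mem_univ p)
  exact GaussianInt.norm_eq_zero.mp this

/-- reduction of a vector -/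
def rho (z : RuVec) : RuIdx → ZMod 2 := fun p => rr (z p)

theorem exists_smul_gpi (z : RuVec) (h : ∀ p, rr (z p) = 0) : ∃ z' : RuVec, z = gpi • z' := by
  choose f hf using fun p => exists_mul_gpi (z p) (h p)
  exact ⟨f, funext fun p => by rw [Pi.smul_apply, smul_eq_mul]; exact hf p⟩

theorem ruNorm_gpi_smul (z : RuVec) : ruNorm (gpi • z) = 2 * ruNorm z := by
  rw [ruNorm_smul, norm_gpi]

/-- weight of a binary word -/
def wt (w : RuIdx → ZMod 2) : ℕ := (Finset.univ.filter fun p => w p ≠ 0).card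

theorem wt_le_ruNorm (z : RuVec) : (wt (rho z) : ℤ) ≤ ruNorm z := by
  rw [wt, Finset.card_filter]
  push_cast
  apply Finset.sum_le_sum
  intro p _
  by_cases hp : rho z p ≠ 0
  · rw [if_pos hp]; exact one_le_norm_of_rr _ hp
  · rw [if_neg hp]; exact GaussianInt.norm_nonneg _

/-- if the norm equals the weight, the entries with even reduction vanish -/
theorem tight (z : RuVec) (h : ruNorm z = (wt (rho z) : ℤ)) : ∀ p, rr (z p) = 0 → z p = 0 := by
  intro p hp
  have hle : ∀ q ∈ Finset.univ, ((if rho z q ≠ 0 then 1 else 0 : ℕ) : ℤ) ≤ Zsqrtd.norm (z q) := by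
    intro q _
    by_cases hq : rho z q ≠ 0
    · rw [if_pos hq]; exact one_le_norm_of_rr _ hq
    · rw [if_neg hq]; exact GaussianInt.norm_nonneg _
  have hsum : ∑ q, ((if rho z q ≠ 0 then 1 else 0 : ℕ) : ℤ) = ∑ q, Zsqrtd.norm (z q) := by
    have : ((wt (rho z) : ℕ) : ℤ) = ∑ q, ((if rho z q ≠ 0 then 1 else 0 : ℕ) : ℤ) := by
      rw [wt, Finset.card_filter]; push_cast; rfl
    rw [← this, ← h]; rfl
  have := (Finset.sum_eq_sum_iff_of_le hle).mp hsum p (Finset.mem_univ p)
  have hp' : ¬ rho z p ≠ 0 := by simpa [rho] using hp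
  rw [if_neg hp'] at this
  exact GaussianInt.norm_eq_zero.mp this.symm

/-- The master lemma: a test vector `y` which on the support of `z` is `π^j c`. -/
theorem master (k j : ℕ) (hkj : k + j ≤ 3) (z y c : RuVec)
    (hyc : ∀ p, z p = 0 ∨ y p = gpi ^ j * c p)
    (h4 : (4 : GaussianInt) ∣ herm (gpi ^ k • z) y) : ∑ p, rho z p * rho c p = 0 := by
  have e1 : herm (gpi ^ k • z) y = gpi ^ k * star gpi ^ j * ∑ p, z p * star (c p) := by
    rw [herm_smul_left, mul_assoc, Finset.mul_sum]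
    congr 1
    unfold herm
    apply Finset.sum_congr rfl
    intro p _
    rcases hyc p with h | h
    · rw [h]; simp
    · rw [h, star_mul', star_pow]; ring
  rw [e1] at h4
  obtain ⟨q, hq⟩ := h4
  have hn := congrArg Zsqrtd.norm hq
  rw [Zsqrtd.norm_mul, Zsqrtd.norm_mul, Zsqrtd.norm_mul] at hn
  have n4 : Zsqrtd.norm (4 : GaussianInt) = 16 := by decide
  have npk : ∀ m : ℕ, Zsqrtd.norm (gpi ^ m) = 2 ^ m := by
    intro m
    induction m with
    | zero => decide
    | succ m ih => rw [pow_succ, Zsqrtd.norm_mul, ih, norm_gpi, pow_succ]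
  have nspk : ∀ m : ℕ, Zsqrtd.norm (star gpi ^ m) = 2 ^ m := by
    intro m
    induction m with
    | zero => decide
    | succ m ih =>
      rw [pow_succ, Zsqrtd.norm_mul, ih, pow_succ]
      congr 1
  rw [n4, npk, nspk] at hn
  set H := ∑ p, z p * star (c p) with hH
  have hev : (2 : ℤ) ∣ Zsqrtd.norm H := by
    have hkj' : k + j = 0 ∨ k + j = 1 ∨ k + j = 2 ∨ k + j = 3 := by omega
    have hpow : (2 : ℤ) ^ k * 2 ^ j = 2 ^ (k + j) := by rw [pow_add]
    rw [hpow] at hn
    rcases hkj' with h | h | h | h <;> rw [h] at hn <;> omega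
  have hr : rr H = 0 := (rr_eq_zero_iff_even_norm H).mpr hev
  rw [hH, map_sum] at hr
  rw [← hr]
  apply Finset.sum_congr rfl
  intro p _
  rw [map_mul, rr_star]
  rfl

end Cfsg.Agent.Helper91.Ru
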