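import Mathlib

set_option autoImplicit false

namespace Cfsg.Agent.Helper91.Ru

def Btab : List (List (ℤ × ℤ)) := [
  [(1, 0), (1, 0), (1, 0), (0, -1), (-1, 0), (0, 1), (0, -1), (0, 1), (0, 0), (0, 0), (0, 0), (0, 0), (0, 0), (0, 0), (0, 0), (0, 0), (0, 1), (0, 1), (-1, 0), (0, -1), (0, 0), (0, 0), (0, 0), (0, 0), (-1, 0), (0, 1), (-1, 0), (-1, 0)],
  [(0, 0), (1, 0), (1, 0), (1, -1), (-1, 0), (0, 1), (0, 0), (1, 1), (0, -1), (-1, 0), (0, 0), (0, 0), (0, 0), (0, 1), (0, 0), (-1, 0), (0, 0), (0, 1), (-1, 0), (1, -1), (0, 0), (0, -1), (0, 0), (0, -1), (0, 0), (1, 1), (-1, 1), (-1, -1)],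
  [(0, 0), (0, 0), (1, 0), (0, -1), (0, 0), (-1, 1), (0, 1), (1, 2), (0, -1), (0, 0), (0, -1), (0, 0), (0, 0), (0, 1), (1, 0), (-1, -1), (0, 0), (0, 1), (-1, -1), (1, 0), (0, 0), (0, 2), (0, 0), (-1, -1), (0, 1), (1, 1), (-1, 1), (0, -1)],
  [(0, 0), (0, 0), (0, 0), (0, 2), (0, 0), (-1, 1), (-1, 1), (2, 2), (0, 0), (0, 0), (0, 0), (0, 0), (0, 0), (0, 0), (1, -1), (-1, -1), (1, 0), (0, 1), (-1, 0), (1, 0), (0, -1), (0, -1), (0, 1), (-1, 2), (1, 1), (1, 1), (-1, 1), (-1, -1)],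
  [(0, 0), (0, 0), (0, 0), (2, 0), (0, 0), (2, 0), (2, 0), (0, 2), (1, 0), (0, -1), (0, -1), (0, -1), (0, 0), (0, 0), (2, 0), (0, 2), (0, 0), (1, -1), (1, 1), (0, 0), (0, 1), (0, 1), (1, 0), (0, -1), (1, -1), (-1, -1), (2, 0), (0, 2)],
  [(0, 0), (0, 0), (0, 0), (2, 0), (1, 1), (-1, 1), (0, 2), (0, 0), (0, 0), (1, -1), (2, 2), (1, -1), (1, 0), (1, 0), (1, 2), (2, -1), (0, 0), (-1, -1), (0, 2), (1, -1), (-1, 1), (2, 0), (2, 0), (1, 1), (-1, 2), (0, 1), (1, 2), (-1, 2)],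
  [(0, 0), (0, 0), (0, 0), (-1, -1), (0, 0), (1, 0), (-1, 0), (-1, -1), (0, 0), (2, 0), (0, -1), (1, 2), (0, 0), (0, 2), (0, -1), (0, -1), (0, 0), (-1, 0), (-1, 1), (1, 0), (0, 0), (-1, 0), (-1, 0), (2, 2), (1, 1), (0, 1), (2, 2), (-1, 0)],
  [(0, 0), (0, 0), (0, 0), (1, -1), (1, 0), (0, 0), (2, 2), (-1, 0), (0, 0), (-1, -1), (1, 0), (-1, 0), (0, 0), (1, -1), (2, -1), (1, 0), (0, 0), (2, 1), (-1, 1), (2, 1), (2, 0), (2, 1), (2, 1), (0, 0), (1, 2), (0, 2), (0, -1), (0, 2)],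
  [(0, 0), (0, 0), (0, 0), (0, 0), (0, 0), (0, 0), (2, 0), (0, 0), (0, 0), (1, 1), (1, -1), (0, 2), (0, 0), (2, 2), (2, 0), (2, 0), (0, 0), (2, 2), (1, -1), (1, 1), (1, 0), (2, -1), (1, 0), (-1, 0), (1, 2), (1, 0), (1, 2), (2, 1)],
  [(0, 0), (0, 0), (0, 0), (0, 2), (0, 0), (0, 0), (2, 0), (0, 0), (0, 0), (0, 0), (0, 2), (2, 2), (0, 0), (0, 0), (2, 2), (2, 0), (0, 0), (2, 2), (2, 0), (0, 0), (0, 0), (0, 2), (2, 2), (2, 2), (1, 1), (-1, 1), (-1, -1), (-1, 1)],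
  [(0, 0), (0, 0), (0, 0), (0, 0), (0, 0), (0, 0), (0, 2), (0, 2), (0, 0), (2, 0), (2, 0), (0, 0), (0, 0), (0, 0), (2, 2), (2, 2), (0, 0), (0, 0), (2, 2), (0, 0), (0, 0), (2, 0), (2, 0), (0, 0), (0, 0), (0, 2), (0, 0), (0, 2)],
  [(0, 0), (0, 0), (0, 0), (0, 0), (0, 0), (0, 0), (0, 0), (0, 0), (0, 0), (0, 2), (2, 0), (2, 2), (0, 0), (0, 0), (0, 0), (2, 2), (0, 0), (2, 0), (0, 2), (2, 2), (0, 0), (0, 2), (2, 0), (0, 0), (0, 0), (0, 0), (2, 2), (0, 0)],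
  [(0, 0), (0, 0), (0, 0), (0, 0), (0, 0), (0, 0), (0, 0), (0, 0), (0, 0), (0, 0), (0, 0), (2, 2), (0, 0), (0, 2), (0, 2), (2, 2), (0, 0), (2, 2), (0, 0), (2, 2), (0, 0), (0, 0), (0, 2), (0, 2), (0, 0), (2, 2), (2, 2), (0, 0)],
  [(0, 0), (0, 0), (0, 0), (0, 0), (0, 0), (0, 0), (0, 0), (0, 0), (0, 0), (0, 0), (0, 2), (2, 0), (0, 0), (0, 0), (0, 0), (2, 2), (0, 0), (2, 2), (2, 0), (0, 2), (0, 0), (2, 0), (2, 0), (0, 0), (0, 0), (2, 0), (0, 2), (2, 2)],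
  [(0, 0), (0, 0), (0, 0), (2, 2), (0, 0), (0, 0), (0, 0), (2, 2), (0, 0), (0, 0), (0, 0), (2, 2), (0, 0), (0, 0), (0, 2), (0, 2), (0, 0), (0, 0), (2, 0), (0, 2), (0, 0), (0, 0), (2, 2), (0, 0), (0, 0), (0, 2), (2, 0), (0, 0)],
  [(0, 0), (0, 0), (0, 0), (0, 0), (0, 0), (0, 0), (0, 0), (0, 0), (0, 0), (0, 0), (0, 0), (0, 0), (0, 0), (0, 0), (0, 0), (2, 2), (0, 0), (0, 2), (0, 2), (2, 2), (0, 0), (0, 0), (0, 0), (0, 0), (0, 0), (0, 0), (2, 0), (2, 0)],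
  [(0, 0), (0, 0), (0, 0), (2, 2), (0, 0), (0, 0), (0, 0), (0, 0), (0, 0), (0, 0), (0, 0), (0, 0), (0, 0), (0, 0), (0, 0), (2, 2), (0, 0), (0, 0), (0, 2), (0, 2), (0, 0), (0, 2), (2, 0), (2, 2), (0, 0), (2, 2), (2, 0), (0, 2)],
  [(0, 0), (0, 0), (0, 0), (0, 0), (0, 0), (0, 0), (0, 0), (2, 2), (0, 0), (0, 0), (0, 0), (0, 0), (0, 0), (0, 0), (0, 0), (0, 0), (0, 0), (0, 0), (0, 0), (0, 0), (0, 0), (0, 2), (2, 2), (0, 2), (0, 0), (0, 2), (0, 2), (0, 0)],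
  [(0, 0), (0, 0), (0, 0), (2, 2), (0, 0), (0, 0), (0, 0), (2, 2), (0, 0), (0, 0), (0, 0), (2, 2), (0, 0), (0, 0), (0, 0), (2, 2), (0, 0), (0, 0), (0, 0), (2, 2), (0, 0), (0, 0), (0, 0), (2, 2), (0, 0), (0, 0), (0, 0), (2, 2)],
  [(0, 0), (0, 0), (0, 0), (0, 0), (0, 0), (0, 0), (0, 0), (4, 0), (0, 0), (0, 0), (0, 0), (0, 0), (0, 0), (0, 0), (0, 0), (0, 0), (0, 0), (0, 0), (0, 0), (0, 0), (0, 0), (0, 0), (0, 0), (0, 0), (0, 0), (0, 0), (0, 0), (0, 0)],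
  [(0, 0), (0, 0), (0, 0), (0, 0), (0, 0), (0, 0), (0, 0), (0, 0), (0, 0), (0, 0), (0, 0), (4, 0), (0, 0), (0, 0), (0, 0), (0, 0), (0, 0), (0, 0), (0, 0), (0, 0), (0, 0), (0, 0), (0, 0), (0, 0), (0, 0), (0, 0), (0, 0), (0, 0)],
  [(0, 0), (0, 0), (0, 0), (0, 0), (0, 0), (0, 0), (0, 0), (0, 0), (0, 0), (0, 0), (0, 0), (0, 0), (0, 0), (0, 0), (0, 0), (4, 0), (0, 0), (0, 0), (0, 0), (0, 0), (0, 0), (0, 0), (0, 0), (0, 0), (0, 0), (0, 0), (0, 0), (0, 0)],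
  [(0, 0), (0, 0), (0, 0), (0, 0), (0, 0), (0, 0), (0, 0), (0, 0), (0, 0), (0, 0), (0, 0), (0, 0), (0, 0), (0, 0), (0, 0), (0, 0), (0, 0), (0, 0), (0, 0), (4, 0), (0, 0), (0, 0), (0, 0), (0, 0), (0, 0), (0, 0), (0, 0), (0, 0)],
  [(0, 0), (0, 0), (0, 0), (0, 0), (0, 0), (0, 0), (0, 0), (0, 0), (0, 0), (0, 0), (0, 0), (0, 0), (0, 0), (0, 0), (0, 0), (0, 0), (0, 0), (0, 0), (0, 0), (0, 0), (0, 0), (0, 0), (4, 0), (0, 0), (0, 0), (0, 0), (0, 0), (0, 0)],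
  [(0, 0), (0, 0), (0, 0), (0, 0), (0, 0), (0, 0), (0, 0), (0, 0), (0, 0), (0, 0), (0, 0), (0, 0), (0, 0), (0, 0), (0, 0), (0, 0), (0, 0), (0, 0), (0, 0), (0, 0), (0, 0), (0, 0), (0, 0), (4, 0), (0, 0), (0, 0), (0, 0), (0, 0)],
  [(0, 0), (0, 0), (0, 0), (0, 0), (0, 0), (0, 0), (0, 0), (0, 0), (0, 0), (0, 0), (0, 0), (0, 0), (0, 0), (0, 0), (0, 0), (0, 0), (0, 0), (0, 0), (0, 0), (0, 0), (0, 0), (0, 0), (0, 0), (0, 0), (0, 0), (4, 0), (0, 0), (0, 0)],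
  [(0, 0), (0, 0), (0, 0), (0, 0), (0, 0), (0, 0), (0, 0), (0, 0), (0, 0), (0, 0), (0, 0), (0, 0), (0, 0), (0, 0), (0, 0), (0, 0), (0, 0), (0, 0), (0, 0), (0, 0), (0, 0), (0, 0), (0, 0), (0, 0), (0, 0), (0, 0), (4, 0), (0, 0)],
  [(0, 0), (0, 0), (0, 0), (0, 0), (0, 0), (0, 0), (0, 0), (0, 0), (0, 0), (0, 0), (0, 0), (0, 0), (0, 0), (0, 0), (0, 0), (0, 0), (0, 0), (0, 0), (0, 0), (0, 0), (0, 0), (0, 0), (0, 0), (0, 0), (0, 0), (0, 0), (0, 0), (4, 0)]]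

def genCoefTab : List (List (ℤ × ℤ)) := [
  [(4, 0), (-4, 0), (0, 0), (0, -4), (0, -4), (0, 0), (-4, 4), (0, 0), (0, 0), (10, -2), (8, 14), (-18, 4), (6, -4), (-30, -8), (-32, 10), (28, -16), (-28, -44), (30, 22), (53, 35), (10, -61), (31, -26), (-22, 15), (-44, 1), (41, -3), (-11, -32), (29, 34), (35, 35), (-27, -11)],
  [(0, -1), (1, 1), (0, 0), (-1, 0), (-1, 1), (1, 0), (2, -3), (0, -1), (3, 1), (-7, -2), (-1, -5), (6, 2), (-6, 4), (11, 9), (20, -5), (-16, -6), (11, 34), (-13, -20), (-27, -26), (-16, 36), (-14, 14), (17, -3), (26, 14), (-26, -4), (4, 19), (-9, -29), (-13, -18), (19, 14)],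
  [(0, -1), (1, 1), (-2, 0), (-1, 0), (-1, -1), (1, 0), (0, 3), (0, -1), (1, 1), (1, -6), (9, 2), (-6, 8), (-1, -3), (-13, 12), (-5, 17), (4, -23), (-32, 6), (27, -8), (34, -18), (-32, -26), (-4, -18), (0, 16), (-16, 27), (9, -25), (-15, -7), (29, -9), (28, -9), (-14, 13)],
  [(0, -1), (-1, 1), (2, 0), (-1, 0), (-1, 1), (1, 0), (4, -3), (-2, -1), (7, 1), (-13, -4), (2, -10), (8, 11), (-13, 7), (17, 17), (36, -1), (-30, -19), (18, 64), (-20, -47), (-47, -57), (-40, 67), (-19, 23), (33, 2), (50, 34), (-47, -10), (0, 36), (-12, -54), (-22, -37), (30, 35)],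
  [(0, -1), (-1, 1), (0, 0), (-1, 0), (-1, -1), (1, 0), (2, 3), (-2, -1), (5, 1), (-5, -8), (12, -3), (-4, 17), (-8, 0), (-7, 20), (11, 21), (-10, -36), (-25, 36), (22, -35), (15, -50), (-58, 4), (-10, -9), (14, 21), (7, 47), (-13, -32), (-20, 9), (26, -35), (20, -29), (-4, 34)],
  [(1, 0), (0, 0), (0, 0), (1, -1), (1, 0), (0, 0), (-2, -3), (2, 0), (-3, 0), (3, 5), (-9, 4), (2, -13), (6, 1), (4, -14), (-8, -17), (8, 24), (17, -25), (-16, 28), (-10, 38), (43, -5), (8, 7), (-9, -16), (-6, -33), (11, 22), (17, -7), (-16, 24), (-12, 23), (4, -26)],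
  [(1, 0), (0, 0), (0, 0), (0, -1), (0, 0), (-1, 0), (-3, -1), (2, 1), (-5, -1), (8, 5), (-6, 6), (-1, -12), (10, -2), (-5, -15), (-22, -11), (14, 24), (7, -46), (-9, 38), (12, 51), (51, -27), (15, -7), (-19, -11), (-22, -37), (29, 23), (9, -17), (-9, 41), (3, 35), (-7, -34)],
  [(1, 0), (0, 0), (0, 0), (0, -1), (0, 0), (0, 1), (0, 0), (2, -1), (-2, 4), (4, -4), (-1, 5), (-6, -5), (-1, -5), (-7, -2), (-5, 5), (18, -1), (-20, -9), (13, 12), (21, 5), (-1, -25), (-3, -3), (-7, 6), (-22, 3), (14, -8), (-4, -4), (18, 11), (12, 8), (-14, -2)],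
  [(1, 0), (0, 0), (-2, 0), (0, -2), (0, -2), (-1, 0), (-4, 4), (2, 1), (-5, -1), (12, 1), (3, 11), (-11, -5), (11, -7), (-22, -11), (-35, 7), (28, 7), (-27, -58), (26, 40), (54, 49), (28, -70), (22, -29), (-27, 4), (-48, -21), (47, 1), (-5, -35), (22, 47), (32, 34), (-30, -28)],
  [(1, 0), (0, 0), (-2, 0), (-1, -1), (0, -2), (0, 1), (-3, 5), (2, -1), (-4, 2), (12, -4), (7, 13), (-17, -1), (7, -11), (-30, -5), (-35, 18), (39, -10), (-52, -50), (48, 33), (78, 33), (1, -89), (15, -36), (-30, 16), (-65, -1), (50, -17), (-16, -37), (44, 41), (47, 27), (-45, -15)],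
  [(1, 0), (0, 0), (-2, 0), (0, -1), (0, -3), (0, 0), (-3, 6), (2, 0), (-6, 1), (14, -4), (8, 12), (-14, -1), (10, -12), (-31, -2), (-38, 23), (35, -7), (-58, -54), (48, 35), (86, 32), (0, -95), (11, -44), (-30, 17), (-67, -1), (56, -20), (-20, -39), (48, 44), (53, 25), (-47, -18)],
  [(1, 0), (0, 0), (-2, 0), (0, -1), (1, -2), (0, 0), (-5, 4), (1, -1), (-2, 1), (10, -1), (5, 14), (-17, -4), (8, -7), (-24, -10), (-35, 9), (33, -4), (-32, -48), (37, 37), (59, 39), (16, -75), (22, -23), (-28, 9), (-52, -8), (45, -7), (-5, -36), (31, 39), (37, 30), (-35, -20)],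
  [(1, 0), (-2, 0), (2, 0), (0, -1), (0, 0), (0, 0), (1, -2), (-1, -1), (3, 1), (-5, 1), (-2, -2), (1, 1), (-5, 3), (9, -2), (13, -8), (-6, -1), (18, 20), (-12, -13), (-27, -11), (-4, 29), (-1, 18), (8, -5), (19, 3), (-20, 6), (6, 11), (-14, -15), (-19, -7), (12, 8)],
  [(1, 0), (-2, 0), (2, 0), (0, -1), (0, 0), (0, 0), (1, -2), (-2, 0), (4, 0), (-4, 1), (-1, -2), (1, 4), (-6, 5), (5, -1), (12, -8), (-9, -7), (21, 20), (-16, -20), (-30, -12), (-4, 37), (4, 17), (10, 0), (22, 8), (-20, 10), (3, 13), (-15, -15), (-19, -2), (17, 13)],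
  [(1, 0), (-2, 0), (2, 0), (0, -2), (1, 0), (0, 1), (-1, -1), (0, -1), (3, 2), (-2, -1), (-2, 4), (-6, -2), (-4, 2), (1, -6), (4, -7), (8, -2), (10, 4), (-5, 2), (-15, 5), (9, 8), (10, 15), (3, -2), (5, -1), (-4, 6), (10, 5), (-3, -1), (-8, 7), (5, 2)],
  [(1, 0), (-2, 0), (2, 0), (1, -1), (0, -1), (1, 0), (4, -2), (-2, -1), (5, 2), (-9, -3), (1, -7), (5, 8), (-12, 4), (12, 11), (31, 1), (-17, -17), (8, 54), (-9, -43), (-34, -50), (-44, 51), (-18, 20), (23, 4), (33, 31), (-40, -11), (-3, 26), (-5, -44), (-22, -31), (19, 34)],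
  [(1, 0), (-2, 0), (0, 0), (0, -1), (0, -3), (0, -1), (-2, 6), (-2, 1), (0, -3), (6, -1), (11, 5), (-10, 11), (5, -3), (-21, 2), (-22, 18), (9, -18), (-26, -24), (29, 2), (45, 7), (-14, -43), (17, -29), (-13, 16), (-26, 11), (25, -12), (-18, -24), (24, 14), (31, 8), (-23, 1)],
  [(1, 0), (-2, 0), (0, 0), (0, -1), (-1, -2), (-1, 0), (-1, 5), (0, 1), (-2, 1), (8, -6), (9, 5), (-10, 6), (2, -8), (-21, 5), (-17, 25), (17, -15), (-41, -19), (32, 5), (52, -5), (-21, -48), (3, -26), (-12, 22), (-34, 18), (29, -22), (-23, -14), (37, 15), (36, 5), (-30, 6)],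
  [(1, 0), (-2, 0), (0, 0), (1, -1), (0, -2), (0, 0), (0, 3), (-1, -1), (1, 3), (3, -5), (7, 4), (-10, 6), (-3, -6), (-13, 4), (-6, 18), (14, -19), (-31, 2), (30, -7), (34, -18), (-33, -28), (-2, -10), (-7, 19), (-23, 25), (10, -22), (-18, -8), (29, -1), (21, -5), (-23, 15)],
  [(1, 0), (-2, 0), (0, 0), (0, -2), (0, -2), (0, 0), (-2, 3), (0, 0), (0, 0), (5, -2), (5, 7), (-10, 3), (3, -3), (-16, -3), (-16, 8), (16, -9), (-18, -22), (20, 11), (30, 15), (1, -35), (15, -15), (-11, 9), (-24, 2), (21, -6), (-7, -17), (18, 16), (20, 14), (-17, -4)]]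

def RjCoefTab : List (List (ℤ × ℤ)) := [
  [(0, 1), (0, 0), (0, -2), (0, 0), (2, 0), (0, 0), (-5, -3), (-1, 1), (2, -4), (1, 11), (-8, 7), (-2, -9), (6, 10), (2, -25), (-16, -33), (5, 20), (48, -36), (-27, 31), (-31, 62), (69, 9), (38, 16), (-12, -23), (6, -46), (9, 45), (32, -14), (-36, 30), (-23, 41), (17, -31)],
  [(0, 1), (0, -1), (1, -1), (0, 0), (2, 0), (-1, 0), (-5, -2), (0, 1), (0, -3), (4, 10), (-8, 8), (-4, -12), (7, 6), (1, -26), (-20, -26), (11, 25), (38, -43), (-21, 38), (-18, 62), (69, -6), (34, 12), (-17, -20), (-4, -47), (18, 40), (27, -16), (-28, 38), (-16, 41), (6, -35)],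
  [(0, 0), (0, 0), (0, -1), (-1, 0), (1, 0), (-1, 0), (-5, 1), (0, 0), (-3, -1), (10, 6), (-2, 11), (-10, -9), (9, -3), (-14, -21), (-35, -8), (27, 15), (-1, -58), (10, 44), (32, 59), (48, -51), (28, -11), (-31, -5), (-39, -34), (40, 21), (6, -31), (1, 52), (14, 42), (-23, -34)],
  [(0, 0), (0, 0), (0, 2), (-1, 0), (-2, 0), (0, 0), (5, 3), (-1, -1), (3, 3), (-5, -9), (11, -8), (0, 16), (-11, -5), (-1, 25), (20, 29), (-13, -33), (-34, 50), (24, -48), (16, -71), (-77, 12), (-28, -8), (17, 25), (9, 56), (-23, -40), (-31, 17), (28, -43), (15, -44), (-7, 42)],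
  [(0, 0), (0, 0), (2, 0), (1, 1), (1, 2), (0, 0), (2, -6), (0, 2), (0, -4), (-7, 7), (-10, -10), (20, -4), (0, 11), (24, -1), (22, -24), (-33, 23), (50, 17), (-55, -10), (-66, 3), (31, 67), (-6, 21), (21, -24), (50, -24), (-29, 30), (22, 27), (-46, -13), (-41, -4), (43, -7)],
  [(0, 0), (0, 0), (2, 0), (1, -1), (1, 3), (0, 1), (0, -8), (0, -2), (5, 7), (-9, -1), (-13, -2), (3, -13), (-12, 5), (24, -7), (29, -24), (-3, 11), (39, 42), (-34, -9), (-66, -18), (11, 63), (-12, 55), (17, -13), (36, 0), (-36, 16), (24, 35), (-28, -24), (-43, -6), (28, 10)],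
  [(0, 0), (0, 0), (-1, -1), (0, -1), (1, 1), (-2, 0), (-7, -1), (2, 3), (-4, -6), (8, 13), (-12, 9), (-1, -18), (17, 5), (0, -33), (-33, -33), (13, 48), (48, -80), (-31, 68), (-18, 102), (113, -22), (47, 2), (-24, -31), (-8, -81), (37, 56), (37, -27), (-41, 65), (-13, 60), (7, -64)],
  [(0, 0), (0, 0), (1, -1), (-1, 2), (2, 0), (1, 1), (-1, 2), (0, -2), (-1, 3), (3, -4), (4, 6), (-9, 1), (-1, -6), (-12, 1), (-12, 12), (21, -12), (-33, -12), (29, 12), (42, 2), (-14, -47), (-1, -14), (-13, 10), (-33, 9), (21, -17), (-8, -12), (29, 13), (26, 4), (-27, 1)],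
  [(0, 0), (0, 0), (0, 0), (-2, 2), (-1, 1), (-2, 2), (2, 6), (4, 0), (-8, 5), (12, -12), (9, 4), (-9, 3), (2, -18), (-24, 12), (-19, 41), (29, -10), (-77, -29), (48, 19), (87, -10), (-29, -85), (-17, -44), (-17, 28), (-59, 20), (47, -42), (-35, -12), (62, 27), (60, -1), (-52, 1)],
  [(0, 0), (0, 0), (0, 2), (-2, 2), (-2, 0), (0, 0), (6, 6), (0, 0), (-4, 0), (2, -9), (14, -8), (3, 18), (-2, -11), (-11, 27), (3, 40), (-7, -25), (-59, 16), (36, -30), (56, -50), (-69, -31), (-30, -42), (4, 25), (-18, 41), (5, -44), (-43, 0), (41, -17), (38, -36), (-26, 25)],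
  [(0, 0), (0, 0), (0, 0), (0, 0), (0, 2), (0, 0), (0, -4), (0, 0), (2, 2), (-5, 1), (-6, -3), (5, -5), (-4, 4), (13, -1), (14, -14), (-10, 6), (25, 21), (-24, -8), (-37, -8), (9, 40), (-6, 25), (10, -9), (24, -2), (-20, 12), (11, 18), (-20, -13), (-23, -2), (21, 3)],
  [(0, 0), (0, 0), (0, 0), (0, 2), (-2, 0), (0, 0), (6, 2), (0, 0), (-4, 2), (1, -7), (7, -9), (7, 10), (-4, -8), (-2, 20), (13, 27), (-8, -14), (-39, 25), (18, -28), (27, -50), (-57, -5), (-35, -20), (7, 18), (-6, 33), (-7, -33), (-31, 11), (26, -21), (16, -33), (-14, 25)],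
  [(0, 0), (0, 0), (0, 0), (-2, 2), (0, 0), (-2, 0), (-2, 6), (2, 2), (-8, -4), (13, 3), (4, 6), (-5, -1), (14, -9), (-19, -9), (-37, 13), (20, 16), (-26, -70), (20, 44), (59, 52), (37, -76), (19, -43), (-29, 1), (-46, -33), (53, 4), (-10, -34), (17, 55), (36, 30), (-35, -36)],
  [(0, 0), (0, 0), (0, 0), (-2, 2), (0, 0), (0, 0), (0, 4), (0, 0), (-2, 0), (6, -4), (8, 4), (-7, 7), (2, -6), (-18, 5), (-17, 19), (13, -15), (-35, -19), (27, 5), (49, 1), (-14, -45), (3, -28), (-12, 16), (-32, 12), (26, -16), (-20, -14), (30, 15), (33, 6), (-26, 1)],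
  [(0, 0), (0, 0), (2, 2), (0, 0), (-2, 2), (0, 0), (8, -4), (0, 0), (2, 2), (-13, -3), (-3, -19), (20, 6), (-13, 3), (31, 21), (51, 2), (-41, -1), (20, 78), (-33, -57), (-62, -75), (-48, 89), (-44, 27), (39, -4), (62, 30), (-62, -12), (-6, 49), (-22, -63), (-38, -55), (36, 36)],
  [(0, 0), (0, 0), (0, 0), (-2, 0), (0, 0), (0, 0), (-2, 2), (0, 0), (0, -2), (3, 1), (3, 5), (-6, 2), (4, 0), (-10, -4), (-15, -1), (8, -3), (-2, -24), (6, 14), (16, 25), (18, -23), (18, -12), (-9, 0), (-13, -10), (17, 6), (1, -14), (3, 17), (13, 18), (-7, -12)],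
  [(0, 0), (0, 0), (2, 2), (0, 0), (-2, 2), (0, 0), (8, -4), (0, 0), (0, 2), (-9, -1), (-6, -16), (18, 2), (-11, 1), (26, 14), (43, -3), (-29, 3), (19, 62), (-31, -49), (-54, -57), (-37, 79), (-39, 25), (28, -4), (47, 19), (-53, -2), (-7, 40), (-24, -47), (-41, -39), (30, 29)],
  [(0, 0), (0, 0), (0, 0), (0, 0), (0, 0), (0, 0), (0, 0), (0, 0), (-2, 0), (2, 2), (-1, -1), (2, -2), (2, -2), (0, -2), (-4, 0), (2, 6), (-3, -7), (1, 4), (7, 5), (2, -6), (-3, -4), (-6, -2), (-7, -6), (4, 3), (-3, -5), (-1, 8), (0, 2), (-5, -6)],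
  [(0, 0), (0, 0), (2, 2), (0, 0), (-2, 2), (0, 0), (8, -4), (0, 0), (2, 2), (-12, -4), (-2, -18), (19, 7), (-13, 3), (28, 22), (49, 3), (-40, -4), (17, 75), (-32, -56), (-58, -73), (-47, 85), (-42, 24), (39, -1), (60, 32), (-58, -12), (-7, 49), (-19, -61), (-33, -51), (36, 36)],
  [(0, 0), (0, 0), (0, 0), (0, 0), (0, 0), (0, 0), (0, 0), (0, 0), (0, 0), (0, 0), (0, -2), (2, 0), (0, 0), (2, 2), (2, 2), (-4, 2), (0, 4), (-2, -2), (-2, -6), (-3, 4), (-4, 0), (2, 0), (4, 2), (-2, -2), (-1, 3), (0, -3), (0, -5), (1, 1)],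
  [(0, 0), (0, 0), (0, 0), (0, 0), (0, 0), (0, 0), (0, 0), (0, 0), (0, 0), (0, 0), (0, 0), (0, 0), (0, 0), (0, -2), (0, 0), (2, 2), (0, -2), (2, 2), (0, 2), (1, -3), (1, 0), (-1, -1), (-1, -3), (0, 0), (1, -1), (0, 1), (-1, -1), (-2, -1)],
  [(0, 0), (0, 0), (0, 0), (0, 0), (0, 0), (0, 0), (0, 0), (0, 0), (0, 0), (0, 0), (0, 0), (0, 0), (0, 0), (0, 0), (0, -2), (0, 0), (2, 0), (-2, 0), (-2, 2), (2, 2), (1, 1), (0, -1), (1, -1), (-1, 2), (1, 0), (-2, 0), (-1, 2), (2, -1)],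
  [(0, 0), (0, 0), (0, 0), (0, 0), (0, 0), (0, 0), (0, 0), (0, 0), (0, 0), (0, 0), (0, 0), (0, 0), (0, 0), (0, 0), (0, 0), (0, 0), (0, -2), (0, 2), (0, 2), (2, -2), (1, -1), (0, 0), (0, -1), (1, 0), (1, 0), (0, 1), (1, 1), (0, -1)],
  [(0, 0), (0, 0), (0, 0), (0, 0), (0, 0), (0, 0), (0, 0), (0, 0), (0, 0), (0, 0), (0, 0), (0, 0), (0, 0), (0, 0), (0, 0), (0, 0), (0, 0), (0, 0), (0, 0), (0, 0), (0, 0), (0, 0), (0, 0), (0, 0), (-1, 0), (0, 0), (0, 0), (0, 0)],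
  [(0, 0), (0, 0), (0, 0), (0, 0), (0, 0), (0, 0), (0, 0), (0, 0), (0, 0), (0, 0), (0, 0), (0, 0), (0, 0), (0, 0), (0, 0), (0, 0), (0, 0), (0, 0), (0, 0), (0, 0), (0, 0), (0, 0), (0, 0), (1, 0), (0, 0), (0, 0), (0, 0), (0, 0)],
  [(0, 0), (0, 0), (0, 0), (0, 0), (0, 0), (0, 0), (0, 0), (0, 0), (0, 0), (2, 2), (-2, 2), (-2, -2), (0, 0), (-2, -6), (-4, -4), (6, 2), (4, -8), (0, 4), (0, 10), (8, -2), (6, 2), (-6, 0), (-6, -6), (3, 7), (1, -5), (-3, 8), (-4, 9), (-2, -3)],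
  [(0, 0), (0, 0), (0, 0), (0, 0), (0, 0), (0, 0), (0, 0), (0, 0), (0, 0), (0, 0), (0, 0), (0, 0), (0, 0), (0, 0), (0, 0), (0, 0), (0, 0), (0, 0), (0, 0), (0, 0), (0, 0), (0, 0), (0, 0), (0, 0), (0, 0), (0, 0), (0, 0), (-1, 0)],
  [(0, 0), (0, 0), (0, 0), (0, 0), (0, 0), (0, 0), (0, 0), (0, 0), (0, 0), (0, 0), (0, 0), (0, 0), (0, 0), (0, 0), (0, 0), (0, 0), (0, 0), (0, 0), (0, 0), (0, 0), (0, 0), (0, 0), (0, 0), (0, 0), (0, 0), (0, 0), (1, 0), (0, 0)]]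

def RkCoefTab : List (List (ℤ × ℤ)) := [
  [(0, 1), (0, 0), (0, 0), (1, -1), (0, 0), (0, 0), (1, -3), (1, 1), (-1, -1), (-2, 4), (-8, -3), (8, -7), (1, 4), (12, -6), (10, -16), (-7, 17), (26, 4), (-25, 1), (-34, 10), (21, 31), (-2, 15), (5, -15), (18, -19), (-14, 18), (14, 8), (-24, -2), (-27, 3), (19, -7)],
  [(0, 1), (-1, 0), (1, -1), (1, -1), (1, 0), (0, 0), (-2, -4), (-1, 1), (3, -2), (-4, 7), (-9, 0), (4, -7), (0, 9), (13, -15), (7, -27), (-6, 18), (48, -1), (-33, 7), (-52, 24), (40, 40), (16, 28), (4, -20), (27, -28), (-16, 32), (27, 7), (-37, 2), (-36, 14), (26, -11)],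
  [(0, 1), (0, 0), (0, -1), (2, -1), (2, 0), (0, 1), (-3, -5), (0, 0), (2, 1), (-1, 6), (-11, 4), (0, -13), (0, 6), (9, -20), (1, -27), (8, 21), (38, -10), (-24, 19), (-40, 32), (44, 22), (16, 30), (-4, -18), (10, -30), (-6, 30), (28, 3), (-28, 13), (-31, 22), (16, -15)],
  [(0, 0), (0, -2), (0, 2), (0, -1), (0, 0), (1, 1), (-1, -1), (-1, -5), (4, 10), (0, -10), (4, 7), (-17, -1), (-11, -8), (-9, 4), (2, 14), (27, -26), (-35, 28), (36, -14), (29, -37), (-49, -18), (-14, 15), (-6, 22), (-26, 43), (-2, -28), (-17, 3), (35, -14), (15, -10), (-26, 26)],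
  [(0, 0), (-2, 0), (2, 0), (-1, 1), (1, 0), (0, 2), (2, 2), (0, 0), (1, 1), (1, -5), (5, 0), (-3, 9), (-6, -2), (-9, 7), (3, 15), (6, -17), (-24, 6), (14, -13), (19, -19), (-25, -12), (-3, -12), (3, 14), (-9, 19), (4, -16), (-13, 6), (23, -4), (15, -7), (-12, 17)],
  [(0, 0), (-2, 0), (2, 0), (-2, 0), (-2, 2), (-2, 1), (3, 1), (-1, 1), (3, 3), (-3, -7), (5, -5), (-1, 11), (-10, -1), (-1, 12), (16, 14), (-8, -20), (-7, 30), (-2, -31), (-8, -42), (-33, 27), (-8, 5), (16, 17), (16, 32), (-14, -14), (-16, 24), (10, -23), (2, -17), (4, 30)],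
  [(0, 0), (1, 1), (-1, -1), (-1, -1), (1, 0), (1, 0), (-3, -1), (0, -1), (2, -2), (-1, 8), (-6, 6), (-5, -7), (4, 5), (2, -19), (-10, -25), (10, 13), (31, -24), (-9, 25), (-19, 47), (45, -2), (28, 12), (-11, -18), (-1, -34), (3, 27), (25, -17), (-24, 18), (-17, 26), (8, -23)],
  [(0, 0), (-1, 1), (1, -1), (-1, -1), (0, 1), (1, 2), (3, -2), (-2, 0), (8, 2), (-9, -6), (3, -5), (1, 12), (-15, 8), (4, 12), (28, 0), (-15, -28), (10, 50), (-11, -42), (-37, -45), (-35, 53), (-4, 20), (28, 10), (36, 37), (-34, -8), (0, 31), (0, -42), (-14, -21), (25, 39)],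
  [(0, 0), (0, 0), (0, 0), (1, 1), (1, 1), (0, 2), (2, 0), (2, 0), (-2, 3), (0, -4), (-2, -3), (2, -2), (-3, -3), (2, 4), (9, 8), (4, 2), (-14, 8), (4, -2), (2, -15), (-12, -3), (-13, 1), (5, 5), (-2, 7), (-1, -12), (-2, 10), (11, -5), (2, -11), (-4, 8)],
  [(0, 0), (0, -2), (0, 2), (0, 2), (-2, 0), (-2, 2), (6, 8), (4, 0), (-12, 8), (15, -20), (15, -2), (-7, 10), (-1, -26), (-31, 29), (-11, 70), (29, -26), (-121, -7), (72, -9), (120, -58), (-88, -96), (-47, -61), (-12, 51), (-72, 58), (46, -75), (-67, -4), (94, 10), (77, -29), (-70, 29)],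
  [(0, 0), (0, 0), (0, 0), (-2, 2), (0, 2), (-2, 2), (0, 2), (2, 0), (-4, 4), (9, -7), (4, 5), (-8, 0), (-1, -9), (-18, 2), (-16, 20), (24, -8), (-42, -22), (25, 13), (51, 0), (-8, -48), (-3, -20), (-14, 19), (-40, 11), (33, -16), (-20, -5), (37, 24), (34, 12), (-32, 2)],
  [(0, 0), (0, 0), (0, 0), (-2, 0), (0, 2), (0, 0), (-2, -2), (0, 0), (2, 0), (-1, 3), (-5, 3), (-3, -4), (-1, 5), (2, -10), (-3, -17), (2, 4), (27, -7), (-17, 7), (-23, 22), (31, 18), (18, 17), (-1, -7), (10, -14), (-2, 23), (13, 2), (-19, 8), (-14, 20), (13, -9)],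
  [(0, 0), (0, 0), (0, 0), (0, 0), (0, 0), (-2, 0), (-2, 2), (2, 2), (-8, -2), (12, 6), (-5, 5), (-2, -10), (11, -6), (-10, -18), (-27, -3), (21, 27), (-3, -59), (1, 39), (26, 54), (47, -42), (17, -17), (-26, -5), (-33, -40), (37, 21), (0, -24), (-3, 52), (7, 36), (-19, -33)],
  [(0, 0), (0, 0), (0, 0), (0, 2), (-2, 0), (0, 0), (6, 2), (0, 0), (-2, 4), (-2, -10), (8, -10), (6, 12), (-9, -7), (-1, 26), (21, 31), (-12, -26), (-42, 46), (19, -43), (22, -72), (-76, 9), (-40, -12), (15, 25), (2, 53), (-16, -41), (-33, 21), (32, -37), (16, -42), (-9, 41)],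
  [(0, 0), (-2, -2), (2, 2), (0, 2), (0, 0), (-2, 0), (0, 4), (0, 0), (-6, 4), (13, -7), (7, 5), (-11, 3), (1, -15), (-23, 3), (-23, 34), (27, -11), (-57, -25), (39, 5), (73, -12), (-28, -62), (-9, -28), (-22, 31), (-53, 22), (39, -24), (-39, -12), (46, 29), (41, 7), (-49, 7)],
  [(0, 0), (0, 0), (0, 0), (-2, 0), (0, 0), (0, 0), (-2, 2), (0, 0), (0, -2), (4, 2), (2, 6), (-7, 1), (3, 1), (-11, -7), (-17, -3), (10, -3), (0, -26), (6, 14), (16, 28), (20, -22), (21, -10), (-11, 1), (-15, -10), (18, 10), (1, -16), (2, 20), (11, 22), (-7, -12)],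
  [(0, 0), (-2, -2), (2, 2), (-2, 0), (0, 0), (0, 0), (0, 4), (-2, -2), (4, 4), (1, -9), (11, 5), (-16, 12), (-9, -5), (-16, 10), (-4, 24), (13, -37), (-35, 18), (33, -23), (37, -36), (-48, -20), (0, -6), (-1, 29), (-18, 46), (6, -27), (-26, 1), (37, -12), (28, -9), (-23, 29)],
  [(0, 0), (0, 0), (0, 0), (0, 0), (0, 0), (0, 0), (-2, -2), (0, 0), (-2, 2), (5, 1), (-4, 4), (-2, -8), (2, -2), (-4, -8), (-11, -5), (13, 7), (-1, -15), (-3, 14), (9, 16), (17, -9), (2, 4), (-13, 0), (-17, -9), (14, 11), (0, -4), (1, 20), (0, 19), (-8, -9)],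
  [(0, 0), (-2, -2), (2, 2), (0, 0), (0, 0), (0, 0), (0, 0), (-2, -2), (4, 4), (-2, -6), (5, 1), (-9, 7), (-9, -1), (-4, 6), (7, 11), (3, -23), (-10, 28), (11, -25), (3, -36), (-35, 11), (-4, 12), (6, 18), (3, 35), (-10, -14), (-14, 12), (14, -20), (5, -11), (-6, 26)],
  [(0, 0), (0, 0), (0, 0), (0, 0), (0, 0), (0, 0), (-4, 0), (0, 0), (0, 0), (4, 0), (0, 6), (-6, -4), (4, 0), (-8, -6), (-16, -2), (10, 2), (0, -22), (2, 20), (12, 22), (23, -20), (14, -2), (-10, 2), (-14, -8), (20, 7), (4, -9), (4, 19), (12, 20), (-7, -12)],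
  [(0, 0), (0, 0), (0, 0), (0, 0), (0, 0), (0, 0), (0, 0), (0, 0), (0, 0), (0, 0), (0, 0), (0, 2), (0, 0), (-2, 0), (0, 0), (0, -2), (0, -2), (0, -2), (0, 2), (0, 0), (3, -2), (1, 1), (0, 0), (0, 1), (-1, 0), (-1, 1), (0, 2), (1, 1)],
  [(0, 0), (0, 0), (0, 0), (0, 0), (0, 0), (0, 0), (0, 0), (0, 0), (0, 0), (0, 0), (0, 0), (0, 0), (0, 2), (0, 0), (0, -2), (-2, -2), (4, 2), (-4, -2), (-4, 0), (2, 6), (2, 2), (1, 0), (3, 1), (-1, 3), (1, 1), (-2, -2), (-1, 2), (4, 1)],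
  [(0, 0), (0, 0), (0, 0), (0, 0), (0, 0), (0, 0), (0, 0), (0, 0), (0, 0), (0, 0), (0, 0), (0, 0), (0, 0), (0, 0), (0, 0), (0, 2), (0, -2), (0, 2), (0, 2), (2, -2), (1, -1), (1, -1), (1, -2), (1, 0), (1, 0), (0, 1), (1, 0), (0, -2)],
  [(0, 0), (0, 0), (0, 0), (0, 0), (0, 0), (0, 0), (0, 0), (0, 0), (0, 4), (2, -6), (2, 2), (-4, 0), (-4, -4), (-6, 6), (0, 12), (8, -12), (-22, 10), (12, -6), (18, -20), (-21, -9), (-10, 0), (0, 14), (-12, 22), (6, -15), (-12, 6), (22, -3), (13, -4), (-11, 13)],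
  [(0, 0), (0, 0), (0, 0), (0, 0), (0, 0), (0, 0), (0, 0), (0, 0), (0, 0), (0, 0), (0, 0), (0, 0), (0, 0), (0, 0), (0, 0), (0, 0), (0, 0), (0, 2), (0, 0), (1, -1), (0, 0), (0, 0), (0, 0), (1, -1), (1, 0), (1, 0), (1, 0), (0, 0)],
  [(0, 0), (0, 0), (0, 0), (0, 0), (0, 0), (0, 0), (0, 0), (0, 0), (0, 0), (0, 0), (0, 0), (0, 0), (0, 0), (0, 0), (0, 0), (0, 0), (0, 0), (0, 0), (0, 0), (0, 0), (0, 0), (0, 0), (0, 0), (0, 0), (0, 0), (0, 0), (0, 0), (1, 0)],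
  [(0, 0), (0, 0), (0, 0), (0, 0), (0, 0), (0, 0), (0, 0), (0, 0), (0, 0), (2, 2), (-2, 2), (-2, -2), (0, 0), (-2, -6), (-4, -4), (6, 2), (4, -8), (0, 4), (0, 10), (8, -2), (6, 2), (-6, 0), (-6, -6), (3, 7), (1, -5), (-3, 8), (-4, 9), (-2, -3)],
  [(0, 0), (0, 0), (0, 0), (0, 0), (0, 0), (0, 0), (0, 0), (0, 0), (0, 0), (0, 0), (0, 0), (0, 0), (0, 0), (0, 0), (0, 0), (0, 0), (0, 0), (0, 0), (0, 0), (0, 0), (0, 0), (0, 0), (0, 0), (0, 0), (0, 0), (-1, 0), (0, 0), (0, 0)]]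

def SignCoefTab : List (List (ℤ × ℤ)) := [
  [(-1, 0), (0, 0), (0, 0), (0, 2), (0, 0), (0, 0), (2, 4), (-2, 0), (2, 0), (-2, -6), (10, -4), (-2, 14), (-5, -3), (-6, 16), (6, 24), (-6, -24), (-28, 22), (24, -26), (22, -42), (-50, -8), (-12, -14), (8, 19), (-1, 35), (-5, -30), (-21, 5), (25, -22), (20, -28), (-12, 27)],
  [(0, 0), (-1, 0), (0, 0), (0, 0), (0, -2), (0, 0), (0, 6), (-2, 0), (2, 0), (2, -6), (13, 2), (-10, 15), (-3, -5), (-18, 11), (-7, 27), (8, -30), (-39, 4), (39, -17), (43, -26), (-47, -34), (2, -23), (-2, 24), (-20, 34), (10, -31), (-24, -10), (36, -8), (32, -14), (-24, 23)],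
  [(0, 0), (0, 0), (-1, 0), (0, 0), (0, -2), (0, 0), (-2, 6), (0, 0), (-2, 0), (7, -5), (11, 6), (-11, 7), (4, -8), (-23, 6), (-22, 26), (19, -18), (-49, -23), (43, 9), (65, 0), (-25, -64), (4, -34), (-15, 20), (-42, 17), (33, -27), (-21, -23), (42, 16), (44, 2), (-36, 3)],
  [(0, 0), (0, 0), (0, 0), (1, 0), (0, 0), (0, 0), (0, 0), (0, 0), (0, 2), (-1, -3), (1, -1), (0, 0), (-2, -2), (1, 5), (5, 7), (0, -4), (-10, 12), (6, -6), (3, -18), (-16, 1), (-10, 3), (4, 6), (0, 13), (-3, -12), (-4, 6), (9, -9), (4, -11), (-3, 10)],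
  [(0, 0), (0, 0), (0, 0), (0, 0), (1, 0), (0, 0), (0, 0), (0, 0), (0, -2), (-1, 5), (-3, -1), (2, -2), (2, 2), (5, -7), (0, -8), (-2, 10), (15, -7), (-7, 5), (-13, 14), (15, 6), (7, 3), (-2, -10), (6, -16), (-4, 11), (9, -4), (-14, 5), (-13, 3), (5, -9)],
  [(0, 0), (0, 0), (0, 0), (0, 0), (0, 0), (-1, 0), (-2, 2), (2, 2), (-4, -4), (4, 2), (1, 1), (2, -2), (10, 0), (-3, -3), (-16, 2), (-3, 17), (2, -36), (-6, 30), (11, 33), (38, -27), (14, -19), (-5, -7), (-4, -26), (25, 7), (7, -11), (-2, 24), (16, 13), (-2, -27)],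
  [(0, 0), (0, 0), (0, 0), (0, 0), (0, 0), (0, 0), (1, 0), (0, 0), (0, 0), (-2, 0), (0, -2), (2, 0), (-2, 0), (4, 2), (7, 0), (-2, 0), (0, 11), (0, -8), (-5, -10), (-11, 8), (-7, 4), (3, -2), (5, 3), (-9, -3), (-1, 3), (-1, -9), (-7, -9), (2, 5)],
  [(0, 0), (0, 0), (0, 0), (0, 0), (0, 0), (0, 0), (0, 0), (1, 0), (-4, 0), (3, 1), (-1, -1), (3, -3), (5, -3), (-1, -1), (-6, 3), (3, 9), (-9, -12), (2, 10), (14, 8), (5, -15), (-6, -10), (-7, -3), (-11, -9), (10, -1), (-3, -6), (3, 11), (5, 2), (-8, -10)],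
  [(0, 0), (0, 0), (0, 0), (0, 0), (0, 0), (0, 0), (0, 0), (0, 0), (-1, 0), (0, 0), (0, -2), (3, -1), (0, 0), (2, 2), (2, 2), (-1, 1), (-5, 5), (2, -2), (3, -7), (-8, 0), (-8, -1), (-1, -1), (-1, 2), (-2, -4), (-1, 1), (3, -3), (0, -7), (-3, 2)],
  [(0, 0), (0, 0), (0, 0), (0, 0), (0, 0), (0, 0), (0, 0), (0, 0), (0, 0), (-1, 0), (0, -2), (2, 0), (0, 0), (4, 2), (2, 2), (-4, 2), (0, 4), (-2, 0), (-2, -6), (-2, 3), (-4, 1), (1, -1), (4, 1), (-2, -3), (0, 3), (0, -3), (1, -6), (0, 0)],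
  [(0, 0), (0, 0), (0, 0), (0, 0), (0, 0), (0, 0), (0, 0), (0, 0), (0, 0), (0, 0), (1, 0), (0, 0), (0, 0), (0, 0), (-2, 2), (0, 0), (-2, -2), (2, 4), (4, 0), (1, -5), (0, -2), (-2, 0), (-2, 0), (3, -2), (0, -1), (3, 1), (4, -1), (-3, -2)],
  [(0, 0), (0, 0), (0, 0), (0, 0), (0, 0), (0, 0), (0, 0), (0, 0), (0, 0), (0, 0), (0, 0), (1, 0), (0, 0), (0, 0), (0, 0), (0, 0), (0, 0), (-2, 0), (0, 0), (1, 1), (0, 0), (-1, -1), (0, 0), (0, 1), (0, 1), (0, 1), (-1, 0), (0, 0)],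
  [(0, 0), (0, 0), (0, 0), (0, 0), (0, 0), (0, 0), (0, 0), (0, 0), (0, 0), (0, 0), (0, 0), (0, 0), (-1, 0), (0, 0), (0, 0), (2, -2), (-2, 2), (2, -2), (2, -2), (-4, 0), (-1, 1), (-2, 0), (-2, 2), (-1, -1), (-1, -1), (1, -1), (-1, -1), (-2, 2)],
  [(0, 0), (0, 0), (0, 0), (0, 0), (0, 0), (0, 0), (0, 0), (0, 0), (0, 0), (0, 0), (0, 0), (0, 0), (0, 0), (1, 0), (0, 0), (0, 0), (0, 0), (0, 2), (0, 0), (1, -1), (0, 0), (-1, -1), (0, 0), (0, -1), (1, 0), (0, 0), (1, -1), (-1, -1)],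
  [(0, 0), (0, 0), (0, 0), (0, 0), (0, 0), (0, 0), (0, 0), (0, 0), (0, 0), (0, 0), (0, 0), (0, 0), (0, 0), (0, 0), (-1, 0), (0, 0), (0, -2), (0, 2), (0, 2), (3, -1), (2, 0), (0, 0), (0, 0), (1, 0), (1, 0), (0, 1), (1, 1), (0, -1)],
  [(0, 0), (0, 0), (0, 0), (0, 0), (0, 0), (0, 0), (0, 0), (0, 0), (0, 0), (0, 0), (0, 0), (0, 0), (0, 0), (0, 0), (0, 0), (1, 0), (0, 0), (0, 0), (0, 0), (0, 0), (0, 0), (-1, -1), (0, 0), (0, 0), (0, 0), (0, 0), (-1, 0), (-1, 0)],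
  [(0, 0), (0, 0), (0, 0), (0, 0), (0, 0), (0, 0), (0, 0), (0, 0), (0, 0), (0, 0), (0, 0), (0, 0), (0, 0), (0, 0), (0, 0), (0, 0), (1, 0), (-2, 0), (-2, 0), (2, 2), (1, 1), (0, 0), (1, 1), (0, 1), (0, 1), (-1, 0), (-1, 1), (1, 0)],
  [(0, 0), (0, 0), (0, 0), (0, 0), (0, 0), (0, 0), (0, 0), (0, 0), (0, 0), (0, 0), (0, 0), (0, 0), (0, 0), (0, 0), (0, 0), (0, 0), (0, 0), (-1, 0), (0, 0), (1, 1), (0, 0), (0, 0), (0, 0), (0, 0), (0, 0), (0, 0), (0, 0), (0, 0)],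
  [(0, 0), (0, 0), (0, 0), (0, 0), (0, 0), (0, 0), (0, 0), (0, 0), (0, 0), (0, 0), (0, 0), (0, 0), (0, 0), (0, 0), (0, 0), (0, 0), (0, 0), (0, 0), (-1, 0), (1, 1), (1, 1), (0, 0), (1, 1), (0, 0), (0, 0), (0, 0), (0, 0), (0, 0)],
  [(0, 0), (0, 0), (0, 0), (0, 0), (0, 0), (0, 0), (0, 0), (0, 0), (0, 0), (0, 0), (0, 0), (0, 0), (0, 0), (0, 0), (0, 0), (0, 0), (0, 0), (0, 0), (0, 0), (1, 0), (0, 0), (0, 0), (0, 0), (0, 0), (0, 0), (0, 0), (0, 0), (0, 0)],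
  [(0, 0), (0, 0), (0, 0), (0, 0), (0, 0), (0, 0), (0, 0), (0, 0), (0, 0), (0, 0), (0, 0), (0, 0), (0, 0), (0, 0), (0, 0), (0, 0), (0, 0), (0, 0), (0, 0), (0, 0), (1, 0), (0, 0), (0, 0), (0, 0), (0, 0), (0, 0), (0, 0), (0, 0)],
  [(0, 0), (0, 0), (0, 0), (0, 0), (0, 0), (0, 0), (0, 0), (0, 0), (0, 0), (0, 0), (0, 0), (0, 0), (0, 0), (0, 0), (0, 0), (0, 0), (0, 0), (0, 0), (0, 0), (0, 0), (0, 0), (-1, 0), (0, 0), (0, 0), (0, 0), (0, 0), (0, 0), (0, 0)],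
  [(0, 0), (0, 0), (0, 0), (0, 0), (0, 0), (0, 0), (0, 0), (0, 0), (0, 0), (0, 0), (0, 0), (0, 0), (0, 0), (0, 0), (0, 0), (0, 0), (0, 0), (0, 0), (0, 0), (0, 0), (0, 0), (0, 0), (1, 0), (0, 0), (0, 0), (0, 0), (0, 0), (0, 0)],
  [(0, 0), (0, 0), (0, 0), (0, 0), (0, 0), (0, 0), (0, 0), (0, 0), (0, 0), (0, 0), (0, 0), (0, 0), (0, 0), (0, 0), (0, 0), (0, 0), (0, 0), (0, 0), (0, 0), (0, 0), (0, 0), (0, 0), (0, 0), (-1, 0), (0, 0), (0, 0), (0, 0), (0, 0)],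
  [(0, 0), (0, 0), (0, 0), (0, 0), (0, 0), (0, 0), (0, 0), (0, 0), (0, 0), (0, 0), (0, 0), (0, 0), (0, 0), (0, 0), (0, 0), (0, 0), (0, 0), (0, 0), (0, 0), (0, 0), (0, 0), (0, 0), (0, 0), (0, 0), (-1, 0), (0, 0), (0, 0), (0, 0)],
  [(0, 0), (0, 0), (0, 0), (0, 0), (0, 0), (0, 0), (0, 0), (0, 0), (0, 0), (0, 0), (0, 0), (0, 0), (0, 0), (0, 0), (0, 0), (0, 0), (0, 0), (0, 0), (0, 0), (0, 0), (0, 0), (0, 0), (0, 0), (0, 0), (0, 0), (-1, 0), (0, 0), (0, 0)],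
  [(0, 0), (0, 0), (0, 0), (0, 0), (0, 0), (0, 0), (0, 0), (0, 0), (0, 0), (0, 0), (0, 0), (0, 0), (0, 0), (0, 0), (0, 0), (0, 0), (0, 0), (0, 0), (0, 0), (0, 0), (0, 0), (0, 0), (0, 0), (0, 0), (0, 0), (0, 0), (-1, 0), (0, 0)],
  [(0, 0), (0, 0), (0, 0), (0, 0), (0, 0), (0, 0), (0, 0), (0, 0), (0, 0), (0, 0), (0, 0), (0, 0), (0, 0), (0, 0), (0, 0), (0, 0), (0, 0), (0, 0), (0, 0), (0, 0), (0, 0), (0, 0), (0, 0), (0, 0), (0, 0), (0, 0), (0, 0), (-1, 0)]]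

def ShiftCoefTab : List (List (ℤ × ℤ)) := [
  [(-1, 0), (1, 1), (0, -2), (0, 1), (1, 1), (0, 1), (-1, -2), (1, 0), (-2, 0), (2, 3), (-6, 2), (2, -8), (3, 1), (2, -10), (-5, -11), (8, 16), (9, -19), (-8, 22), (-5, 26), (29, -8), (5, 3), (-7, -11), (-7, -24), (9, 13), (13, -4), (-8, 18), (-6, 14), (0, -16)],
  [(-1, 0), (1, 1), (0, -1), (0, 1), (0, 1), (0, 0), (0, -2), (0, 0), (0, 0), (-2, 2), (-4, -2), (5, -4), (0, 2), (8, -2), (5, -8), (-6, 9), (14, 4), (-13, 3), (-17, 2), (11, 15), (-4, 9), (3, -8), (10, -9), (-7, 8), (8, 6), (-12, -2), (-11, -1), (9, -4)],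
  [(0, 0), (-1, 1), (1, 0), (0, 0), (-1, 0), (0, 0), (4, 0), (-1, 0), (2, 2), (-5, -5), (3, -7), (5, 8), (-8, -1), (6, 14), (21, 12), (-12, -14), (-10, 38), (2, -32), (-8, -46), (-43, 25), (-22, 3), (16, 9), (16, 28), (-23, -19), (-13, 19), (8, -31), (-4, -30), (4, 27)],
  [(0, 0), (-1, 1), (0, 0), (0, -1), (-1, -1), (1, 0), (3, 1), (-2, 0), (6, 1), (-8, -6), (7, -6), (1, 14), (-10, 3), (2, 17), (23, 12), (-17, -29), (-5, 48), (5, -43), (-15, -53), (-52, 34), (-12, 6), (22, 14), (25, 42), (-30, -22), (-12, 19), (9, -44), (-3, -32), (12, 38)],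
  [(0, 0), (2, 0), (0, 0), (0, 1), (0, 2), (0, 0), (1, -6), (3, 0), (-4, -1), (-2, 7), (-14, -4), (14, -16), (4, 4), (21, -11), (10, -27), (-8, 37), (36, -6), (-38, 20), (-41, 29), (47, 28), (-8, 18), (2, -30), (19, -43), (-11, 29), (26, 9), (-37, 8), (-34, 9), (23, -27)],
  [(1, 1), (-2, 0), (1, 1), (0, 0), (0, -1), (0, 0), (4, 2), (-1, 1), (0, 0), (0, -4), (7, -5), (3, 12), (-5, -2), (-4, 14), (9, 19), (-10, -20), (-22, 22), (9, -31), (13, -38), (-42, 7), (-14, -13), (9, 16), (3, 31), (-8, -19), (-23, 10), (18, -18), (9, -20), (-3, 25)],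
  [(0, 0), (1, 0), (-2, 0), (0, 0), (0, -1), (0, 0), (0, 3), (1, 0), (-2, 1), (4, -3), (4, 3), (-4, 1), (2, -5), (-11, 4), (-9, 13), (11, -7), (-29, -10), (24, 5), (34, -1), (-15, -33), (-3, -18), (-7, 9), (-23, 9), (16, -16), (-11, -12), (24, 7), (21, -1), (-18, 1)],
  [(1, 0), (-1, 0), (2, 2), (2, -1), (-2, 1), (0, 0), (8, -6), (0, 0), (3, 6), (-12, -8), (-4, -17), (17, 3), (-17, 1), (28, 23), (56, 8), (-33, -9), (8, 91), (-26, -63), (-59, -93), (-65, 90), (-53, 36), (41, 8), (56, 48), (-63, -23), (-11, 58), (-8, -70), (-37, -58), (32, 50)],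
  [(0, 0), (0, 0), (2, 0), (1, 0), (0, 2), (0, 0), (4, -6), (0, 0), (3, 3), (-11, -1), (-9, -11), (15, -5), (-10, 5), (30, 7), (39, -12), (-27, 11), (33, 55), (-39, -27), (-66, -41), (-10, 76), (-28, 38), (29, -12), (52, 8), (-46, 5), (14, 42), (-28, -40), (-41, -31), (35, 17)],
  [(0, 0), (0, 0), (2, 0), (0, 0), (0, 2), (0, 0), (2, -6), (0, 0), (3, 1), (-9, 2), (-8, -7), (11, -4), (-6, 7), (24, 0), (26, -19), (-22, 13), (41, 32), (-40, -12), (-61, -13), (15, 62), (-9, 32), (21, -17), (46, -7), (-34, 16), (19, 30), (-34, -24), (-36, -12), (34, 3)],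
  [(0, 0), (0, 0), (0, 2), (0, 0), (-2, 0), (0, 0), (8, 2), (0, 0), (0, 2), (-6, -8), (7, -14), (10, 14), (-10, -5), (9, 27), (33, 26), (-23, -20), (-27, 58), (11, -53), (-2, -76), (-77, 30), (-41, -6), (25, 16), (23, 47), (-36, -39), (-28, 26), (17, -51), (0, -55), (4, 41)],
  [(0, 0), (0, 0), (0, 0), (0, 0), (0, 0), (0, 0), (0, 2), (0, 0), (0, 0), (0, -2), (3, -1), (-1, 3), (0, -3), (-2, 5), (1, 10), (1, -3), (-14, 1), (12, -1), (12, -9), (-13, -13), (-4, -8), (2, 5), (-4, 7), (3, -13), (-5, -1), (11, -3), (10, -10), (-8, 4)],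
  [(0, 0), (0, 0), (0, 0), (0, 0), (0, 0), (0, 0), (0, 0), (0, 0), (0, 0), (0, 0), (0, 0), (1, 0), (1, -1), (1, 1), (-1, 1), (-2, 3), (0, -3), (-1, 3), (1, 2), (4, -2), (0, -2), (1, -1), (1, -2), (2, 0), (0, 0), (-1, 2), (2, -1), (0, -4)],
  [(0, 0), (0, 0), (0, 0), (0, 0), (0, 0), (0, 0), (0, 0), (0, 0), (0, 0), (0, 0), (1, 0), (0, 1), (1, -1), (-1, 1), (-2, 1), (-1, -1), (-2, -3), (1, 1), (4, 2), (1, -4), (1, -3), (-1, 1), (-2, 0), (2, 0), (-1, -1), (0, 2), (3, 1), (-1, -2)],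
  [(0, 0), (0, 0), (0, 0), (0, 0), (0, 0), (0, 0), (0, 0), (0, 0), (0, 0), (0, 0), (0, 0), (0, 0), (0, 0), (1, 0), (0, -1), (-1, 1), (3, -1), (-2, 2), (-2, 2), (4, 1), (1, 1), (0, -1), (2, -2), (0, 1), (1, 0), (-2, 0), (0, 1), (2, -2)],
  [(0, 0), (0, 0), (0, 0), (0, 0), (0, 0), (0, 0), (0, 0), (0, 0), (0, 0), (0, 0), (0, 0), (0, 0), (1, 0), (0, 0), (0, 0), (-1, 1), (1, -1), (-1, 1), (-1, 1), (2, 0), (1, 0), (1, 0), (1, -1), (1, 0), (1, 0), (-1, 0), (0, 0), (1, -1)],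
  [(0, 0), (0, 0), (0, 0), (0, 0), (0, 0), (0, 0), (0, 0), (0, 0), (0, 0), (0, 0), (0, 0), (0, 0), (0, 0), (0, 0), (1, 0), (1, 0), (-1, 0), (2, -1), (0, 0), (-2, -1), (0, 0), (0, 0), (0, 0), (-1, -1), (0, 0), (0, -1), (-1, -1), (0, 1)],
  [(0, 0), (0, 0), (0, 0), (0, 0), (0, 0), (0, 0), (0, 0), (0, 0), (0, 0), (0, 0), (0, 0), (0, 0), (0, 0), (0, 0), (0, 0), (1, 0), (0, -1), (1, 1), (1, 1), (0, -2), (0, -1), (-1, -1), (-1, -1), (0, 0), (0, -1), (0, 0), (0, 0), (-1, -1)],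
  [(0, 0), (0, 0), (0, 0), (0, 0), (0, 0), (0, 0), (0, 0), (0, 0), (0, 0), (0, 0), (0, 0), (0, 0), (0, 0), (0, 0), (0, 0), (0, 0), (0, 0), (0, 0), (1, 0), (0, 0), (0, 0), (0, 0), (0, 0), (0, 0), (0, 0), (0, 0), (0, 0), (0, 0)],
  [(0, 0), (0, 0), (0, 0), (0, 0), (0, 0), (0, 0), (0, 0), (0, 0), (0, 0), (0, 0), (0, 0), (0, 0), (0, 0), (0, 0), (0, 0), (0, 0), (0, 0), (0, 0), (1, -1), (-1, 0), (-1, 0), (-1, 0), (-1, 0), (0, 0), (-1, 0), (0, 0), (0, 0), (-1, 0)],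
  [(0, 0), (0, 0), (0, 0), (0, 0), (0, 0), (0, 0), (0, 0), (0, 0), (0, 0), (0, 0), (0, 0), (0, 0), (0, 0), (0, 0), (0, 0), (0, 0), (0, 0), (0, 0), (0, 0), (1, 0), (0, 0), (0, 0), (0, 0), (0, 0), (0, 0), (0, 0), (0, 0), (0, 0)],
  [(0, 0), (0, 0), (0, 0), (0, 0), (0, 0), (0, 0), (0, 0), (0, 0), (0, 0), (0, 0), (0, 0), (0, 0), (0, 0), (0, 0), (0, 0), (0, 0), (0, 0), (0, 0), (0, 0), (0, 0), (1, 0), (0, 0), (0, 0), (0, 0), (0, 0), (0, 0), (0, 0), (0, 0)],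
  [(0, 0), (0, 0), (0, 0), (0, 0), (0, 0), (0, 0), (0, 0), (0, 0), (0, 0), (0, 0), (0, 0), (0, 0), (0, 0), (0, 0), (0, 0), (0, 0), (0, 0), (0, 0), (0, 0), (0, 0), (0, 0), (1, 0), (0, 0), (0, 0), (0, 0), (0, 0), (0, 0), (0, 0)],
  [(0, 0), (0, 0), (0, 0), (0, 0), (0, 0), (0, 0), (0, 0), (0, 0), (0, 0), (0, 0), (0, 0), (0, 0), (0, 0), (0, 0), (0, 0), (0, 0), (0, -2), (0, 2), (0, 2), (2, -2), (1, -1), (0, 0), (0, -1), (1, 0), (1, 0), (0, 1), (1, 1), (0, -1)],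
  [(0, 0), (0, 0), (0, 0), (0, 0), (0, 0), (0, 0), (0, 0), (0, 0), (0, 0), (0, 0), (0, 0), (0, 0), (0, 0), (0, 0), (0, 0), (0, 0), (0, 0), (0, 0), (0, 0), (0, 0), (0, 0), (0, 0), (1, 0), (0, 0), (0, 0), (0, 0), (0, 0), (0, 0)],
  [(0, 0), (0, 0), (0, 0), (0, 0), (0, 0), (0, 0), (0, 0), (0, 0), (0, 0), (0, 0), (0, 0), (0, 0), (0, 0), (0, 0), (0, 0), (0, 0), (0, 0), (0, -2), (0, 0), (-1, 1), (0, 0), (0, 0), (0, 0), (-1, 1), (-1, 0), (-1, 0), (-1, 0), (0, 0)],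
  [(0, 0), (0, 0), (0, 0), (0, 0), (0, 0), (0, 0), (0, 0), (0, 0), (0, 0), (0, 0), (0, 0), (0, 0), (0, 0), (0, 0), (0, 0), (0, 0), (0, 0), (0, 0), (0, 0), (0, 0), (0, 0), (0, 0), (0, 0), (1, 0), (0, 0), (0, 0), (0, 0), (0, 0)],
  [(0, 0), (0, 0), (0, 0), (0, 0), (0, 0), (0, 0), (0, 0), (0, 0), (0, 0), (0, 0), (0, 0), (0, 0), (0, 0), (0, 0), (0, 0), (0, 0), (0, 0), (0, 0), (0, 0), (0, 0), (0, 0), (0, 0), (0, 0), (0, 0), (1, 0), (0, 0), (0, 0), (0, 0)]]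

def tv0CoefTab : List (List (ℤ × ℤ)) := [
  [(0, 0), (0, 0), (0, 0), (0, 0), (0, 0), (0, 0), (0, 0), (0, 0), (0, 0), (0, 0), (0, 0), (0, 0), (0, 0), (0, 0), (0, 0), (0, 0), (0, 0), (0, 0), (0, 0), (0, 0), (0, 0), (0, 0), (0, 0), (0, 0), (0, 0), (0, 0), (0, 0), (0, 0)],
  [(0, 0), (0, 0), (0, 0), (0, 0), (0, 0), (0, 0), (0, 0), (0, 0), (0, 0), (0, 0), (0, 0), (0, 0), (0, 0), (0, 0), (0, 0), (0, 0), (0, 0), (0, 0), (0, 0), (0, 0), (0, 0), (0, 0), (0, 0), (0, 0), (0, 0), (0, 0), (0, 0), (0, 0)],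
  [(0, 0), (0, 0), (0, 0), (0, 0), (0, 0), (0, 0), (0, 0), (0, 0), (0, 0), (0, 0), (0, 0), (0, 0), (0, 0), (0, 0), (0, 0), (0, 0), (0, 0), (0, 0), (0, 0), (0, 0), (0, 0), (0, 0), (0, 0), (0, 0), (0, 0), (0, 0), (0, 0), (0, 0)],
  [(-2, 2), (0, 0), (0, 0), (-2, 2), (0, 0), (0, 0), (-2, 2), (-2, 2), (-2, 2), (0, 2), (0, 0), (0, 0), (0, 0), (0, 0), (0, 0), (0, 0), (0, 0), (0, 0), (0, 0), (0, 0), (0, 0), (0, 0), (0, 0), (0, 0), (0, 0), (0, 0), (0, 0), (0, 0)],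
  [(0, 0), (0, 0), (0, 0), (0, 0), (0, 0), (0, 0), (0, 0), (0, 0), (0, 0), (0, 0), (0, 0), (0, 0), (0, 0), (0, 0), (0, 0), (0, 0), (0, 0), (0, 0), (0, 0), (0, 0), (0, 0), (0, 0), (0, 0), (0, 0), (0, 0), (0, 0), (0, 0), (0, 0)],
  [(0, 0), (0, 0), (0, 0), (0, 0), (0, 0), (0, 0), (0, 0), (0, 0), (0, 0), (0, 0), (0, 0), (0, 0), (0, 0), (0, 0), (0, 0), (0, 0), (0, 0), (0, 0), (0, 0), (0, 0), (0, 0), (0, 0), (0, 0), (0, 0), (0, 0), (0, 0), (0, 0), (0, 0)],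
  [(-2, 2), (-2, 2), (-2, 2), (-2, 2), (0, 0), (0, 0), (-2, 2), (0, 0), (-2, 2), (0, 2), (0, 0), (1, 1), (0, 0), (1, 1), (0, 0), (0, 0), (1, 1), (1, 1), (0, 0), (0, 0), (0, 0), (0, 0), (0, 0), (0, 0), (0, 0), (0, 0), (0, 0), (0, 0)],
  [(-2, 2), (-2, 2), (-2, 2), (-2, 2), (0, 0), (0, 0), (0, 0), (-2, 2), (-2, 2), (0, 0), (0, 0), (1, 1), (0, 0), (1, 1), (0, 0), (0, 0), (1, 1), (1, 1), (0, 0), (0, 0), (0, 0), (0, 0), (0, 0), (0, 0), (0, 0), (0, 0), (0, 0), (0, 0)],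
  [(0, 0), (0, 0), (0, 0), (0, 0), (0, 0), (0, 0), (0, 0), (0, 0), (0, 0), (0, 0), (0, 0), (0, 0), (0, 0), (0, 0), (0, 0), (0, 0), (0, 0), (0, 0), (0, 0), (0, 0), (0, 0), (0, 0), (0, 0), (0, 0), (0, 0), (0, 0), (0, 0), (0, 0)],
  [(0, 0), (-2, 2), (0, 0), (0, 0), (0, 0), (0, 0), (-2, 2), (-2, 2), (0, 0), (0, 2), (1, 1), (1, 1), (1, 1), (0, 0), (1, 1), (0, 0), (1, 1), (0, 0), (0, 0), (0, 0), (0, 0), (0, 0), (0, 0), (0, 0), (0, 0), (0, 0), (0, 0), (0, 0)],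
  [(-2, 2), (0, 0), (-2, 2), (-2, 2), (0, 0), (0, 0), (0, 0), (0, 0), (-2, 2), (0, 2), (0, 0), (0, 0), (1, 1), (0, 0), (0, 0), (1, 1), (1, 1), (1, 1), (0, 0), (0, 0), (0, 0), (0, 0), (0, 0), (0, 0), (0, 0), (0, 0), (0, 0), (0, 0)],
  [(-2, 2), (-2, 2), (-2, 2), (-2, 2), (-2, 2), (0, 0), (-2, 2), (-2, 2), (0, 0), (0, 2), (1, 1), (1, 1), (0, 0), (0, 0), (1, 1), (1, 1), (0, 0), (1, 1), (0, 0), (0, 0), (0, 0), (0, 0), (0, 0), (0, 0), (0, 0), (0, 0), (0, 0), (0, 0)],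
  [(0, 0), (0, 0), (0, 0), (0, 0), (0, 0), (0, 0), (0, 0), (0, 0), (0, 0), (0, 0), (0, 0), (0, 0), (0, 0), (0, 0), (0, 0), (0, 0), (0, 0), (0, 0), (0, 0), (0, 0), (0, 0), (0, 0), (0, 0), (0, 0), (0, 0), (0, 0), (0, 0), (0, 0)],
  [(-2, 2), (-2, 2), (-2, 2), (-2, 2), (0, 0), (-2, 2), (0, 0), (0, 0), (-2, 2), (0, 0), (0, 0), (1, 1), (0, 0), (0, 0), (0, 0), (1, 1), (1, 1), (1, 1), (0, 0), (0, 0), (0, 0), (0, 0), (0, 0), (0, 0), (0, 0), (0, 0), (0, 0), (0, 0)],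
  [(0, 0), (-2, 2), (0, 0), (0, 0), (-2, 2), (-2, 2), (0, 0), (0, 0), (-2, 2), (0, 0), (0, 0), (0, 0), (0, 0), (1, 1), (0, 0), (1, 1), (1, 1), (1, 1), (0, 0), (0, 0), (0, 0), (0, 0), (0, 0), (0, 0), (0, 0), (0, 0), (0, 0), (0, 0)],
  [(-2, 2), (0, 0), (-2, 2), (-2, 2), (-2, 2), (-2, 2), (0, 0), (0, 0), (0, 0), (0, 2), (0, 0), (1, 1), (0, 0), (1, 1), (0, 0), (0, 0), (0, 0), (0, 0), (0, 0), (0, 0), (0, 0), (0, 0), (0, 0), (0, 0), (0, 0), (0, 0), (0, 0), (0, 0)],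
  [(0, 0), (0, 0), (0, 0), (0, 0), (0, 0), (0, 0), (0, 0), (0, 0), (0, 0), (0, 0), (0, 0), (0, 0), (0, 0), (0, 0), (0, 0), (0, 0), (0, 0), (0, 0), (0, 0), (0, 0), (0, 0), (0, 0), (0, 0), (0, 0), (0, 0), (0, 0), (0, 0), (0, 0)],
  [(-2, 2), (-2, 2), (-2, 2), (0, 0), (0, 0), (0, 0), (-2, 2), (-2, 2), (0, 0), (0, 2), (1, 1), (0, 0), (0, 0), (0, 0), (1, 1), (0, 0), (1, 1), (1, 1), (0, 0), (0, 0), (0, 0), (0, 0), (0, 0), (0, 0), (0, 0), (0, 0), (0, 0), (0, 0)],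
  [(-2, 2), (0, 0), (-2, 2), (0, 0), (-2, 2), (0, 0), (-2, 2), (-2, 2), (-2, 2), (0, 0), (1, 1), (0, 0), (1, 1), (1, 1), (0, 0), (0, 0), (1, 1), (1, 1), (0, 0), (0, 0), (0, 0), (0, 0), (0, 0), (0, 0), (0, 0), (0, 0), (0, 0), (0, 0)],
  [(0, 0), (-2, 2), (0, 0), (-2, 2), (-2, 2), (0, 0), (0, 0), (0, 0), (0, 0), (0, 0), (0, 0), (0, 0), (1, 1), (1, 1), (1, 1), (0, 0), (0, 0), (0, 0), (0, 0), (0, 0), (0, 0), (0, 0), (0, 0), (0, 0), (0, 0), (0, 0), (0, 0), (0, 0)],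
  [(0, 0), (0, 0), (0, 0), (0, 0), (0, 0), (0, 0), (0, 0), (0, 0), (0, 0), (0, 0), (0, 0), (0, 0), (0, 0), (0, 0), (0, 0), (0, 0), (0, 0), (0, 0), (0, 0), (0, 0), (0, 0), (0, 0), (0, 0), (0, 0), (0, 0), (0, 0), (0, 0), (0, 0)],
  [(-2, 2), (0, 0), (-2, 2), (-2, 2), (-2, 2), (0, 0), (0, 0), (0, 0), (-2, 2), (0, 2), (0, 0), (1, 1), (1, 1), (1, 1), (0, 0), (0, 0), (0, 0), (0, 0), (0, 0), (0, 0), (0, 0), (0, 0), (0, 0), (0, 0), (0, 0), (0, 0), (0, 0), (0, 0)],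
  [(0, 0), (0, 0), (0, 0), (0, 0), (0, 0), (0, 0), (-2, 2), (-2, 2), (-2, 2), (0, 0), (1, 1), (1, 1), (0, 0), (0, 0), (0, 0), (1, 1), (0, 0), (1, 1), (0, 0), (0, 0), (0, 0), (0, 0), (0, 0), (0, 0), (0, 0), (0, 0), (0, 0), (0, 0)],
  [(-2, 2), (0, 0), (-2, 2), (-2, 2), (-2, 2), (0, 0), (-2, 2), (-2, 2), (-2, 2), (0, 0), (1, 1), (0, 0), (1, 1), (1, 1), (0, 0), (1, 1), (0, 0), (1, 1), (0, 0), (0, 0), (0, 0), (0, 0), (0, 0), (0, 0), (0, 0), (0, 0), (0, 0), (0, 0)],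
  [(-2, 2), (-2, 2), (0, 0), (0, 0), (0, 0), (-2, 2), (0, 0), (-2, 2), (-2, 2), (0, 2), (1, 1), (0, 0), (0, 0), (0, 0), (0, 0), (1, 1), (1, 1), (1, 1), (1, 0), (0, 0), (0, 0), (0, 0), (0, 0), (0, 0), (0, 0), (0, 0), (0, 0), (0, 0)],
  [(-2, 2), (0, 0), (0, 0), (0, 0), (-2, 2), (-2, 2), (0, 0), (-2, 2), (0, 0), (0, 2), (1, 1), (0, 0), (1, 1), (1, 1), (1, 1), (0, 0), (1, 1), (1, 1), (1, 0), (0, 0), (0, 0), (0, 0), (0, 0), (0, 0), (0, 0), (0, 0), (0, 0), (0, 0)],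
  [(-2, 2), (0, 0), (0, 0), (0, 0), (-2, 2), (-2, 2), (-2, 2), (0, 0), (0, 0), (0, 0), (0, 0), (1, 1), (1, 1), (1, 1), (1, 1), (1, 1), (1, 1), (1, 1), (1, 0), (0, 0), (0, 0), (0, 0), (0, 0), (0, 0), (0, 0), (0, 0), (0, 0), (0, 0)],
  [(-2, 2), (-2, 2), (0, 0), (0, 0), (0, 0), (-2, 2), (-2, 2), (0, 0), (-2, 2), (0, 2), (0, 0), (1, 1), (0, 0), (0, 0), (0, 0), (0, 0), (1, 1), (1, 1), (1, 0), (0, 0), (0, 0), (0, 0), (0, 0), (0, 0), (0, 0), (0, 0), (0, 0), (0, 0)]]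

def c0Tab : List (List (ℤ × ℤ)) := [
  [(0, 0), (0, 0), (0, 0), (0, 0), (0, 0), (0, 0), (0, 0), (0, 0), (0, 0), (0, 0), (0, 0), (0, 0), (0, 0), (0, 0), (0, 0), (0, 0), (0, 0), (0, 0), (0, 0), (0, 0), (0, 0), (0, 0), (0, 0), (0, 0), (0, 0), (0, 0), (0, 0), (0, 0)],
  [(0, 0), (0, 0), (0, 0), (0, 0), (0, 0), (0, 0), (0, 0), (0, 0), (0, 0), (0, 0), (0, 0), (0, 0), (0, 0), (0, 0), (0, 0), (0, 0), (0, 0), (0, 0), (0, 0), (0, 0), (0, 0), (0, 0), (0, 0), (0, 0), (0, 0), (0, 0), (0, 0), (0, 0)],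
  [(0, 0), (0, 0), (0, 0), (0, 0), (0, 0), (0, 0), (0, 0), (0, 0), (0, 0), (0, 0), (0, 0), (0, 0), (0, 0), (0, 0), (0, 0), (0, 0), (0, 0), (0, 0), (0, 0), (0, 0), (0, 0), (0, 0), (0, 0), (0, 0), (0, 0), (0, 0), (0, 0), (0, 0)],
  [(1, 0), (1, 0), (1, 0), (1, 0), (0, 0), (0, 2), (3, 1), (0, 2), (0, 0), (2, 0), (3, -1), (2, 4), (0, 0), (3, 3), (7, -3), (3, -3), (1, 1), (5, 5), (-2, 0), (5, 1), (3, -1), (4, 0), (4, 2), (2, 4), (4, 6), (2, 6), (0, 4), (-1, 3)],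
  [(0, 0), (0, 0), (0, 0), (0, 0), (0, 0), (0, 0), (0, 0), (0, 0), (0, 0), (0, 0), (0, 0), (0, 0), (0, 0), (0, 0), (0, 0), (0, 0), (0, 0), (0, 0), (0, 0), (0, 0), (0, 0), (0, 0), (0, 0), (0, 0), (0, 0), (0, 0), (0, 0), (0, 0)],
  [(0, 0), (0, 0), (0, 0), (0, 0), (0, 0), (0, 0), (0, 0), (0, 0), (0, 0), (0, 0), (0, 0), (0, 0), (0, 0), (0, 0), (0, 0), (0, 0), (0, 0), (0, 0), (0, 0), (0, 0), (0, 0), (0, 0), (0, 0), (0, 0), (0, 0), (0, 0), (0, 0), (0, 0)],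
  [(1, 0), (2, 0), (3, 0), (2, -2), (-2, 0), (-1, 4), (1, 0), (4, 4), (0, -2), (3, 1), (3, -3), (4, 2), (0, 0), (2, 6), (6, -2), (3, -7), (1, 1), (4, 4), (-1, -3), (8, -2), (1, -1), (5, -1), (3, -3), (3, 1), (3, 5), (6, 4), (1, 5), (0, -2)],
  [(1, 0), (2, 0), (3, 0), (3, -3), (-1, 0), (-2, 4), (3, 3), (4, 5), (0, -2), (0, 0), (3, -3), (0, 0), (0, 0), (3, 3), (6, -2), (3, -5), (1, 1), (5, 5), (-2, -2), (9, -1), (3, -1), (7, -1), (4, -2), (-1, -1), (2, 6), (6, 4), (0, 2), (1, -1)],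
  [(0, 0), (0, 0), (0, 0), (0, 0), (0, 0), (0, 0), (0, 0), (0, 0), (0, 0), (0, 0), (0, 0), (0, 0), (0, 0), (0, 0), (0, 0), (0, 0), (0, 0), (0, 0), (0, 0), (0, 0), (0, 0), (0, 0), (0, 0), (0, 0), (0, 0), (0, 0), (0, 0), (0, 0)],
  [(0, 0), (1, 0), (1, 0), (4, -4), (0, 0), (1, 1), (3, 1), (1, -1), (0, -1), (1, -2), (2, -2), (5, -1), (0, 0), (2, 2), (7, -3), (6, -6), (0, 0), (4, 0), (1, -1), (8, -2), (2, 0), (4, 0), (5, -3), (6, 0), (3, 3), (5, 3), (2, -2), (0, 2)],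
  [(1, 0), (1, 0), (2, 0), (2, 0), (-1, 0), (-2, 3), (2, 0), (4, 4), (0, -1), (1, 1), (2, -1), (3, 1), (0, 0), (3, 3), (7, -1), (4, -6), (1, 1), (6, 4), (1, -3), (6, -2), (1, -1), (5, 1), (5, -1), (2, 0), (2, 4), (6, 2), (-1, 1), (1, -1)],
  [(1, 0), (2, 0), (3, 0), (5, -3), (-1, 0), (1, 4), (4, 2), (5, 5), (1, -2), (1, -3), (2, -4), (4, -1), (0, 0), (1, 3), (10, -4), (3, -5), (1, 1), (5, 3), (-1, -1), (9, -3), (2, 0), (4, 2), (6, -2), (3, 1), (4, 4), (5, 7), (1, 1), (-3, 1)],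
  [(0, 0), (0, 0), (0, 0), (0, 0), (0, 0), (0, 0), (0, 0), (0, 0), (0, 0), (0, 0), (0, 0), (0, 0), (0, 0), (0, 0), (0, 0), (0, 0), (0, 0), (0, 0), (0, 0), (0, 0), (0, 0), (0, 0), (0, 0), (0, 0), (0, 0), (0, 0), (0, 0), (0, 0)],
  [(1, 0), (2, 0), (3, 0), (4, -2), (-1, 1), (-3, 5), (1, 3), (5, 5), (0, -2), (2, 0), (3, -1), (2, 0), (1, 0), (3, 4), (5, 1), (4, -6), (1, 1), (2, 4), (0, 0), (8, -4), (0, 0), (7, -1), (4, -2), (0, 0), (0, 6), (6, 4), (0, 4), (-1, -1)],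
  [(0, 0), (1, 0), (1, 0), (6, -2), (0, 1), (1, 2), (4, 2), (2, 2), (1, -1), (1, -1), (4, 0), (1, -1), (1, 0), (3, 3), (5, 2), (6, -2), (0, 0), (4, 0), (3, 1), (6, -2), (0, 2), (6, -2), (5, -3), (2, -2), (1, 3), (3, -1), (5, 3), (2, 2)],
  [(1, 0), (1, 0), (2, 0), (5, 1), (0, 1), (-1, 4), (2, 2), (3, 7), (1, -1), (2, -2), (4, 0), (4, -4), (1, 0), (1, 1), (7, 1), (3, -4), (1, 1), (3, -1), (0, 0), (5, -3), (-1, 1), (4, 2), (5, -1), (1, 1), (1, 3), (1, 3), (1, 3), (-2, 2)],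
  [(0, 0), (0, 0), (0, 0), (0, 0), (0, 0), (0, 0), (0, 0), (0, 0), (0, 0), (0, 0), (0, 0), (0, 0), (0, 0), (0, 0), (0, 0), (0, 0), (0, 0), (0, 0), (0, 0), (0, 0), (0, 0), (0, 0), (0, 0), (0, 0), (0, 0), (0, 0), (0, 0), (0, 0)],
  [(1, 0), (2, 0), (3, 0), (4, -6), (-1, 0), (0, 3), (3, 1), (3, 1), (0, -2), (0, -2), (2, -2), (3, 1), (0, 0), (1, 3), (7, -3), (3, -5), (0, 1), (3, 4), (-2, -2), (7, -1), (2, 0), (4, 2), (5, -3), (5, -1), (2, 4), (6, 6), (-1, 1), (-1, 1)],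
  [(1, 0), (1, 0), (2, 0), (3, -5), (0, 0), (2, 2), (6, 2), (1, 3), (1, -1), (2, -2), (3, -5), (1, 1), (0, 0), (4, 4), (9, -3), (6, -4), (0, 1), (6, 2), (0, -1), (8, 0), (3, 1), (5, 1), (5, -3), (3, -1), (3, 5), (5, 1), (6, 2), (3, 3)],
  [(0, 0), (1, 0), (1, 0), (4, 0), (-1, 0), (1, 2), (1, 1), (4, 4), (1, -1), (-1, -1), (1, -1), (2, -4), (0, 0), (1, 1), (5, -1), (1, -1), (1, 0), (3, -1), (-1, -1), (5, -2), (0, 0), (0, -2), (3, -1), (0, 0), (2, 0), (3, -1), (2, 0), (-1, -1)],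
  [(0, 0), (0, 0), (0, 0), (0, 0), (0, 0), (0, 0), (0, 0), (0, 0), (0, 0), (0, 0), (0, 0), (0, 0), (0, 0), (0, 0), (0, 0), (0, 0), (0, 0), (0, 0), (0, 0), (0, 0), (0, 0), (0, 0), (0, 0), (0, 0), (0, 0), (0, 0), (0, 0), (0, 0)],
  [(1, 0), (1, 0), (2, 0), (3, 1), (-1, 0), (0, 3), (4, 0), (3, 7), (1, -1), (2, 0), (3, -3), (4, -2), (0, 0), (3, 3), (9, -1), (4, -4), (1, 1), (7, 1), (1, -3), (6, -2), (1, 0), (4, 1), (5, -1), (0, 0), (3, 3), (3, 1), (2, 2), (1, 1)],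
  [(0, 0), (0, 0), (0, 0), (0, -2), (1, 0), (1, 0), (4, 2), (0, -2), (0, 0), (3, -1), (2, -4), (1, 3), (0, 0), (3, 3), (5, -3), (6, -4), (0, 0), (4, 2), (2, 0), (6, 0), (3, 0), (5, -1), (3, -2), (2, 2), (3, 5), (3, 3), (5, 1), (2, 2)],
  [(1, 0), (1, 0), (2, 0), (2, -2), (0, 0), (1, 3), (5, 3), (3, 5), (1, -1), (2, -2), (3, -5), (1, 1), (0, 0), (4, 4), (10, -4), (5, -5), (1, 1), (7, 3), (-1, -1), (9, -1), (3, 0), (4, 0), (5, -1), (1, 2), (4, 6), (5, 3), (5, 3), (1, 1)],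
  [(1, 0), (2, 0), (2, 0), (6, -4), (0, 1), (-1, 3), (6, 2), (2, 0), (0, -1), (0, -2), (5, 1), (2, 0), (1, 0), (4, 2), (8, 0), (8, -6), (0, 1), (6, 4), (2, 0), (7, -3), (2, 1), (9, -1), (8, -2), (4, -2), (1, 6), (5, 5), (0, 2), (1, 3)],
  [(1, 0), (1, 0), (1, 0), (8, -4), (1, 1), (1, 2), (6, 2), (2, 0), (1, 0), (0, -4), (5, 1), (4, -6), (1, 0), (3, -1), (10, 0), (9, -5), (0, 1), (6, -2), (2, 0), (7, -3), (1, 2), (7, 1), (10, -4), (6, -2), (1, 3), (4, 1), (4, -2), (1, 5)],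
  [(1, 0), (1, 0), (1, 0), (5, -5), (0, 1), (2, 2), (1, 1), (1, -1), (1, 0), (4, -2), (3, -1), (5, -5), (1, 0), (2, 2), (5, 1), (8, -6), (0, 1), (2, -4), (2, 2), (8, -6), (-1, 2), (4, 0), (5, -5), (6, 0), (0, 2), (3, -1), (8, -1), (-1, 1)],
  [(1, 0), (2, 0), (2, 0), (4, -4), (-1, 1), (0, 3), (2, 0), (1, -1), (0, -1), (4, 0), (4, 0), (5, 1), (1, 0), (3, 5), (5, 1), (6, -6), (0, 1), (2, 2), (1, 1), (6, -4), (0, 1), (7, -1), (5, -3), (6, 0), (1, 5), (4, 4), (3, 5), (-1, 2)]]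

def tv1CoefTab : List (List (ℤ × ℤ)) := [
  [(0, 0), (0, 0), (0, 0), (0, 0), (0, 0), (0, 0), (0, 0), (0, 0), (0, 0), (0, 0), (0, 0), (0, 0), (0, 0), (0, 0), (0, 0), (0, 0), (0, 0), (0, 0), (0, 0), (0, 0), (0, 0), (0, 0), (0, 0), (0, 0), (0, 0), (0, 0), (0, 0), (0, 0)],
  [(0, 0), (0, 0), (0, 0), (0, 0), (0, 0), (0, 0), (0, 0), (0, 0), (0, 0), (0, 0), (0, 0), (0, 0), (0, 0), (0, 0), (0, 0), (0, 0), (0, 0), (0, 0), (0, 0), (0, 0), (0, 0), (0, 0), (0, 0), (0, 0), (0, 0), (0, 0), (0, 0), (0, 0)],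
  [(0, 0), (0, 0), (0, 0), (0, 0), (0, 0), (0, 0), (0, 0), (0, 0), (0, 0), (0, 0), (0, 0), (0, 0), (0, 0), (0, 0), (0, 0), (0, 0), (0, 0), (0, 0), (0, 0), (0, 0), (0, 0), (0, 0), (0, 0), (0, 0), (0, 0), (0, 0), (0, 0), (0, 0)],
  [(0, 2), (0, 0), (0, 0), (0, 2), (0, 0), (0, 0), (0, 2), (0, 2), (0, 2), (1, 1), (0, 0), (0, 0), (0, 0), (0, 0), (0, 0), (0, 0), (0, 0), (0, 0), (0, 0), (0, 0), (0, 0), (0, 0), (0, 0), (0, 0), (0, 0), (0, 0), (0, 0), (0, 0)],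
  [(0, 0), (0, 0), (0, 0), (0, 0), (0, 0), (0, 0), (0, 0), (0, 0), (0, 0), (0, 0), (0, 0), (0, 0), (0, 0), (0, 0), (0, 0), (0, 0), (0, 0), (0, 0), (0, 0), (0, 0), (0, 0), (0, 0), (0, 0), (0, 0), (0, 0), (0, 0), (0, 0), (0, 0)],
  [(0, 0), (0, 0), (0, 0), (0, 0), (0, 0), (0, 0), (0, 0), (0, 0), (0, 0), (0, 0), (0, 0), (0, 0), (0, 0), (0, 0), (0, 0), (0, 0), (0, 0), (0, 0), (0, 0), (0, 0), (0, 0), (0, 0), (0, 0), (0, 0), (0, 0), (0, 0), (0, 0), (0, 0)],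
  [(0, 2), (0, 2), (0, 2), (0, 2), (0, 0), (0, 0), (0, 2), (0, 0), (0, 2), (1, 1), (0, 0), (1, 0), (0, 0), (1, 0), (0, 0), (0, 0), (1, 0), (1, 0), (0, 0), (0, 0), (0, 0), (0, 0), (0, 0), (0, 0), (0, 0), (0, 0), (0, 0), (0, 0)],
  [(0, 2), (0, 2), (0, 2), (0, 2), (0, 0), (0, 0), (0, 0), (0, 2), (0, 2), (0, 0), (0, 0), (1, 0), (0, 0), (1, 0), (0, 0), (0, 0), (1, 0), (1, 0), (0, 0), (0, 0), (0, 0), (0, 0), (0, 0), (0, 0), (0, 0), (0, 0), (0, 0), (0, 0)],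
  [(0, 0), (0, 0), (0, 0), (0, 0), (0, 0), (0, 0), (0, 0), (0, 0), (0, 0), (0, 0), (0, 0), (0, 0), (0, 0), (0, 0), (0, 0), (0, 0), (0, 0), (0, 0), (0, 0), (0, 0), (0, 0), (0, 0), (0, 0), (0, 0), (0, 0), (0, 0), (0, 0), (0, 0)],
  [(0, 0), (0, 2), (0, 0), (0, 0), (0, 0), (0, 0), (0, 2), (0, 2), (0, 0), (1, 1), (1, 0), (1, 0), (1, 0), (0, 0), (1, 0), (0, 0), (1, 0), (0, 0), (0, 0), (0, 0), (0, 0), (0, 0), (0, 0), (0, 0), (0, 0), (0, 0), (0, 0), (0, 0)],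
  [(0, 2), (0, 0), (0, 2), (0, 2), (0, 0), (0, 0), (0, 0), (0, 0), (0, 2), (1, 1), (0, 0), (0, 0), (1, 0), (0, 0), (0, 0), (1, 0), (1, 0), (1, 0), (0, 0), (0, 0), (0, 0), (0, 0), (0, 0), (0, 0), (0, 0), (0, 0), (0, 0), (0, 0)],
  [(0, 2), (0, 2), (0, 2), (0, 2), (0, 2), (0, 0), (0, 2), (0, 2), (0, 0), (1, 1), (1, 0), (1, 0), (0, 0), (0, 0), (1, 0), (1, 0), (0, 0), (1, 0), (0, 0), (0, 0), (0, 0), (0, 0), (0, 0), (0, 0), (0, 0), (0, 0), (0, 0), (0, 0)],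
  [(0, 0), (0, 0), (0, 0), (0, 0), (0, 0), (0, 0), (0, 0), (0, 0), (0, 0), (0, 0), (0, 0), (0, 0), (0, 0), (0, 0), (0, 0), (0, 0), (0, 0), (0, 0), (0, 0), (0, 0), (0, 0), (0, 0), (0, 0), (0, 0), (0, 0), (0, 0), (0, 0), (0, 0)],
  [(0, 2), (0, 2), (0, 2), (0, 2), (0, 0), (0, 2), (0, 0), (0, 0), (0, 2), (0, 0), (0, 0), (1, 0), (0, 0), (0, 0), (0, 0), (1, 0), (1, 0), (1, 0), (0, 0), (0, 0), (0, 0), (0, 0), (0, 0), (0, 0), (0, 0), (0, 0), (0, 0), (0, 0)],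
  [(0, 0), (0, 2), (0, 0), (0, 0), (0, 2), (0, 2), (0, 0), (0, 0), (0, 2), (0, 0), (0, 0), (0, 0), (0, 0), (1, 0), (0, 0), (1, 0), (1, 0), (1, 0), (0, 0), (0, 0), (0, 0), (0, 0), (0, 0), (0, 0), (0, 0), (0, 0), (0, 0), (0, 0)],
  [(0, 2), (0, 0), (0, 2), (0, 2), (0, 2), (0, 2), (0, 0), (0, 0), (0, 0), (1, 1), (0, 0), (1, 0), (0, 0), (1, 0), (0, 0), (0, 0), (0, 0), (0, 0), (0, 0), (0, 0), (0, 0), (0, 0), (0, 0), (0, 0), (0, 0), (0, 0), (0, 0), (0, 0)],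
  [(0, 0), (0, 0), (0, 0), (0, 0), (0, 0), (0, 0), (0, 0), (0, 0), (0, 0), (0, 0), (0, 0), (0, 0), (0, 0), (0, 0), (0, 0), (0, 0), (0, 0), (0, 0), (0, 0), (0, 0), (0, 0), (0, 0), (0, 0), (0, 0), (0, 0), (0, 0), (0, 0), (0, 0)],
  [(0, 2), (0, 2), (0, 2), (0, 0), (0, 0), (0, 0), (0, 2), (0, 2), (0, 0), (1, 1), (1, 0), (0, 0), (0, 0), (0, 0), (1, 0), (0, 0), (1, 0), (1, 0), (0, 0), (0, 0), (0, 0), (0, 0), (0, 0), (0, 0), (0, 0), (0, 0), (0, 0), (0, 0)],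
  [(0, 2), (0, 0), (0, 2), (0, 0), (0, 2), (0, 0), (0, 2), (0, 2), (0, 2), (0, 0), (1, 0), (0, 0), (1, 0), (1, 0), (0, 0), (0, 0), (1, 0), (1, 0), (0, 0), (0, 0), (0, 0), (0, 0), (0, 0), (0, 0), (0, 0), (0, 0), (0, 0), (0, 0)],
  [(0, 0), (0, 2), (0, 0), (0, 2), (0, 2), (0, 0), (0, 0), (0, 0), (0, 0), (0, 0), (0, 0), (0, 0), (1, 0), (1, 0), (1, 0), (0, 0), (0, 0), (0, 0), (0, 0), (0, 0), (0, 0), (0, 0), (0, 0), (0, 0), (0, 0), (0, 0), (0, 0), (0, 0)],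
  [(0, 0), (0, 0), (0, 0), (0, 0), (0, 0), (0, 0), (0, 0), (0, 0), (0, 0), (0, 0), (0, 0), (0, 0), (0, 0), (0, 0), (0, 0), (0, 0), (0, 0), (0, 0), (0, 0), (0, 0), (0, 0), (0, 0), (0, 0), (0, 0), (0, 0), (0, 0), (0, 0), (0, 0)],
  [(0, 2), (0, 0), (0, 2), (0, 2), (0, 2), (0, 0), (0, 0), (0, 0), (0, 2), (1, 1), (0, 0), (1, 0), (1, 0), (1, 0), (0, 0), (0, 0), (0, 0), (0, 0), (0, 0), (0, 0), (0, 0), (0, 0), (0, 0), (0, 0), (0, 0), (0, 0), (0, 0), (0, 0)],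
  [(0, 0), (0, 0), (0, 0), (0, 0), (0, 0), (0, 0), (0, 2), (0, 2), (0, 2), (0, 0), (1, 0), (1, 0), (0, 0), (0, 0), (0, 0), (1, 0), (0, 0), (1, 0), (0, 0), (0, 0), (0, 0), (0, 0), (0, 0), (0, 0), (0, 0), (0, 0), (0, 0), (0, 0)],
  [(0, 2), (0, 0), (0, 2), (0, 2), (0, 2), (0, 0), (0, 2), (0, 2), (0, 2), (0, 0), (1, 0), (0, 0), (1, 0), (1, 0), (0, 0), (1, 0), (0, 0), (1, 0), (0, 0), (0, 0), (0, 0), (0, 0), (0, 0), (0, 0), (0, 0), (0, 0), (0, 0), (0, 0)],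
  [(0, 0), (0, 0), (0, 0), (0, 0), (0, 0), (0, 0), (0, 0), (0, 0), (0, 0), (0, 0), (0, 0), (0, 0), (0, 0), (0, 0), (0, 0), (0, 0), (0, 0), (0, 0), (0, 0), (0, 0), (0, 0), (0, 0), (0, 0), (0, 0), (0, 0), (0, 0), (0, 0), (0, 0)],
  [(0, 0), (0, 2), (0, 0), (0, 0), (0, 2), (0, 0), (0, 0), (0, 0), (0, 2), (0, 0), (0, 0), (0, 0), (1, 0), (1, 0), (1, 0), (1, 0), (0, 0), (0, 0), (0, 0), (0, 0), (0, 0), (0, 0), (0, 0), (0, 0), (0, 0), (0, 0), (0, 0), (0, 0)],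
  [(0, 0), (0, 2), (0, 0), (0, 0), (0, 2), (0, 0), (0, 2), (0, 2), (0, 2), (1, 1), (1, 0), (1, 0), (1, 0), (1, 0), (1, 0), (0, 0), (0, 0), (0, 0), (0, 0), (0, 0), (0, 0), (0, 0), (0, 0), (0, 0), (0, 0), (0, 0), (0, 0), (0, 0)],
  [(0, 0), (0, 0), (0, 0), (0, 0), (0, 0), (0, 0), (0, 2), (0, 2), (0, 0), (0, 0), (1, 0), (1, 0), (0, 0), (0, 0), (0, 0), (1, 0), (0, 0), (0, 0), (0, 0), (0, 0), (0, 0), (0, 0), (0, 0), (0, 0), (0, 0), (0, 0), (0, 0), (0, 0)]]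

def c1Tab : List (List (ℤ × ℤ)) := [
  [(0, 0), (0, 0), (0, 0), (0, 0), (0, 0), (0, 0), (0, 0), (0, 0), (0, 0), (0, 0), (0, 0), (0, 0), (0, 0), (0, 0), (0, 0), (0, 0), (0, 0), (0, 0), (0, 0), (0, 0), (0, 0), (0, 0), (0, 0), (0, 0), (0, 0), (0, 0), (0, 0), (0, 0)],
  [(0, 0), (0, 0), (0, 0), (0, 0), (0, 0), (0, 0), (0, 0), (0, 0), (0, 0), (0, 0), (0, 0), (0, 0), (0, 0), (0, 0), (0, 0), (0, 0), (0, 0), (0, 0), (0, 0), (0, 0), (0, 0), (0, 0), (0, 0), (0, 0), (0, 0), (0, 0), (0, 0), (0, 0)],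
  [(0, 0), (0, 0), (0, 0), (0, 0), (0, 0), (0, 0), (0, 0), (0, 0), (0, 0), (0, 0), (0, 0), (0, 0), (0, 0), (0, 0), (0, 0), (0, 0), (0, 0), (0, 0), (0, 0), (0, 0), (0, 0), (0, 0), (0, 0), (0, 0), (0, 0), (0, 0), (0, 0), (0, 0)],
  [(1, 0), (1, 0), (1, 0), (1, 0), (0, 0), (0, 2), (3, 1), (0, 2), (0, 0), (2, 0), (3, -1), (2, 4), (0, 0), (3, 3), (7, -3), (3, -3), (1, 1), (5, 5), (-2, 0), (5, 1), (3, -1), (4, 0), (4, 2), (2, 4), (4, 6), (2, 6), (0, 4), (-1, 3)],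
  [(0, 0), (0, 0), (0, 0), (0, 0), (0, 0), (0, 0), (0, 0), (0, 0), (0, 0), (0, 0), (0, 0), (0, 0), (0, 0), (0, 0), (0, 0), (0, 0), (0, 0), (0, 0), (0, 0), (0, 0), (0, 0), (0, 0), (0, 0), (0, 0), (0, 0), (0, 0), (0, 0), (0, 0)],
  [(0, 0), (0, 0), (0, 0), (0, 0), (0, 0), (0, 0), (0, 0), (0, 0), (0, 0), (0, 0), (0, 0), (0, 0), (0, 0), (0, 0), (0, 0), (0, 0), (0, 0), (0, 0), (0, 0), (0, 0), (0, 0), (0, 0), (0, 0), (0, 0), (0, 0), (0, 0), (0, 0), (0, 0)],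
  [(1, 0), (2, 0), (3, 0), (2, -2), (-2, 0), (-1, 4), (1, 0), (4, 4), (0, -2), (3, 1), (3, -3), (4, 2), (0, 0), (2, 6), (6, -2), (3, -7), (1, 1), (4, 4), (-1, -3), (8, -2), (1, -1), (5, -1), (3, -3), (3, 1), (3, 5), (6, 4), (1, 5), (0, -2)],
  [(1, 0), (2, 0), (3, 0), (3, -3), (-1, 0), (-2, 4), (3, 3), (4, 5), (0, -2), (0, 0), (3, -3), (0, 0), (0, 0), (3, 3), (6, -2), (3, -5), (1, 1), (5, 5), (-2, -2), (9, -1), (3, -1), (7, -1), (4, -2), (-1, -1), (2, 6), (6, 4), (0, 2), (1, -1)],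
  [(0, 0), (0, 0), (0, 0), (0, 0), (0, 0), (0, 0), (0, 0), (0, 0), (0, 0), (0, 0), (0, 0), (0, 0), (0, 0), (0, 0), (0, 0), (0, 0), (0, 0), (0, 0), (0, 0), (0, 0), (0, 0), (0, 0), (0, 0), (0, 0), (0, 0), (0, 0), (0, 0), (0, 0)],
  [(0, 0), (1, 0), (1, 0), (4, -4), (0, 0), (1, 1), (3, 1), (1, -1), (0, -1), (1, -2), (2, -2), (5, -1), (0, 0), (2, 2), (7, -3), (6, -6), (0, 0), (4, 0), (1, -1), (8, -2), (2, 0), (4, 0), (5, -3), (6, 0), (3, 3), (5, 3), (2, -2), (0, 2)],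
  [(1, 0), (1, 0), (2, 0), (2, 0), (-1, 0), (-2, 3), (2, 0), (4, 4), (0, -1), (1, 1), (2, -1), (3, 1), (0, 0), (3, 3), (7, -1), (4, -6), (1, 1), (6, 4), (1, -3), (6, -2), (1, -1), (5, 1), (5, -1), (2, 0), (2, 4), (6, 2), (-1, 1), (1, -1)],
  [(1, 0), (2, 0), (3, 0), (5, -3), (-1, 0), (1, 4), (4, 2), (5, 5), (1, -2), (1, -3), (2, -4), (4, -1), (0, 0), (1, 3), (10, -4), (3, -5), (1, 1), (5, 3), (-1, -1), (9, -3), (2, 0), (4, 2), (6, -2), (3, 1), (4, 4), (5, 7), (1, 1), (-3, 1)],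
  [(0, 0), (0, 0), (0, 0), (0, 0), (0, 0), (0, 0), (0, 0), (0, 0), (0, 0), (0, 0), (0, 0), (0, 0), (0, 0), (0, 0), (0, 0), (0, 0), (0, 0), (0, 0), (0, 0), (0, 0), (0, 0), (0, 0), (0, 0), (0, 0), (0, 0), (0, 0), (0, 0), (0, 0)],
  [(1, 0), (2, 0), (3, 0), (4, -2), (-1, 1), (-3, 5), (1, 3), (5, 5), (0, -2), (2, 0), (3, -1), (2, 0), (1, 0), (3, 4), (5, 1), (4, -6), (1, 1), (2, 4), (0, 0), (8, -4), (0, 0), (7, -1), (4, -2), (0, 0), (0, 6), (6, 4), (0, 4), (-1, -1)],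
  [(0, 0), (1, 0), (1, 0), (6, -2), (0, 1), (1, 2), (4, 2), (2, 2), (1, -1), (1, -1), (4, 0), (1, -1), (1, 0), (3, 3), (5, 2), (6, -2), (0, 0), (4, 0), (3, 1), (6, -2), (0, 2), (6, -2), (5, -3), (2, -2), (1, 3), (3, -1), (5, 3), (2, 2)],
  [(1, 0), (1, 0), (2, 0), (5, 1), (0, 1), (-1, 4), (2, 2), (3, 7), (1, -1), (2, -2), (4, 0), (4, -4), (1, 0), (1, 1), (7, 1), (3, -4), (1, 1), (3, -1), (0, 0), (5, -3), (-1, 1), (4, 2), (5, -1), (1, 1), (1, 3), (1, 3), (1, 3), (-2, 2)],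
  [(0, 0), (0, 0), (0, 0), (0, 0), (0, 0), (0, 0), (0, 0), (0, 0), (0, 0), (0, 0), (0, 0), (0, 0), (0, 0), (0, 0), (0, 0), (0, 0), (0, 0), (0, 0), (0, 0), (0, 0), (0, 0), (0, 0), (0, 0), (0, 0), (0, 0), (0, 0), (0, 0), (0, 0)],
  [(1, 0), (2, 0), (3, 0), (4, -6), (-1, 0), (0, 3), (3, 1), (3, 1), (0, -2), (0, -2), (2, -2), (3, 1), (0, 0), (1, 3), (7, -3), (3, -5), (0, 1), (3, 4), (-2, -2), (7, -1), (2, 0), (4, 2), (5, -3), (5, -1), (2, 4), (6, 6), (-1, 1), (-1, 1)],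
  [(1, 0), (1, 0), (2, 0), (3, -5), (0, 0), (2, 2), (6, 2), (1, 3), (1, -1), (2, -2), (3, -5), (1, 1), (0, 0), (4, 4), (9, -3), (6, -4), (0, 1), (6, 2), (0, -1), (8, 0), (3, 1), (5, 1), (5, -3), (3, -1), (3, 5), (5, 1), (6, 2), (3, 3)],
  [(0, 0), (1, 0), (1, 0), (4, 0), (-1, 0), (1, 2), (1, 1), (4, 4), (1, -1), (-1, -1), (1, -1), (2, -4), (0, 0), (1, 1), (5, -1), (1, -1), (1, 0), (3, -1), (-1, -1), (5, -2), (0, 0), (0, -2), (3, -1), (0, 0), (2, 0), (3, -1), (2, 0), (-1, -1)],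
  [(0, 0), (0, 0), (0, 0), (0, 0), (0, 0), (0, 0), (0, 0), (0, 0), (0, 0), (0, 0), (0, 0), (0, 0), (0, 0), (0, 0), (0, 0), (0, 0), (0, 0), (0, 0), (0, 0), (0, 0), (0, 0), (0, 0), (0, 0), (0, 0), (0, 0), (0, 0), (0, 0), (0, 0)],
  [(1, 0), (1, 0), (2, 0), (3, 1), (-1, 0), (0, 3), (4, 0), (3, 7), (1, -1), (2, 0), (3, -3), (4, -2), (0, 0), (3, 3), (9, -1), (4, -4), (1, 1), (7, 1), (1, -3), (6, -2), (1, 0), (4, 1), (5, -1), (0, 0), (3, 3), (3, 1), (2, 2), (1, 1)],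
  [(0, 0), (0, 0), (0, 0), (0, -2), (1, 0), (1, 0), (4, 2), (0, -2), (0, 0), (3, -1), (2, -4), (1, 3), (0, 0), (3, 3), (5, -3), (6, -4), (0, 0), (4, 2), (2, 0), (6, 0), (3, 0), (5, -1), (3, -2), (2, 2), (3, 5), (3, 3), (5, 1), (2, 2)],
  [(1, 0), (1, 0), (2, 0), (2, -2), (0, 0), (1, 3), (5, 3), (3, 5), (1, -1), (2, -2), (3, -5), (1, 1), (0, 0), (4, 4), (10, -4), (5, -5), (1, 1), (7, 3), (-1, -1), (9, -1), (3, 0), (4, 0), (5, -1), (1, 2), (4, 6), (5, 3), (5, 3), (1, 1)],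
  [(0, 0), (0, 0), (0, 0), (0, 0), (0, 0), (0, 0), (0, 0), (0, 0), (0, 0), (0, 0), (0, 0), (0, 0), (0, 0), (0, 0), (0, 0), (0, 0), (0, 0), (0, 0), (0, 0), (0, 0), (0, 0), (0, 0), (0, 0), (0, 0), (0, 0), (0, 0), (0, 0), (0, 0)],
  [(0, 0), (1, 0), (1, 0), (4, -2), (-1, 0), (2, 1), (4, 0), (2, 2), (1, -1), (0, 0), (2, -2), (2, -2), (0, 0), (3, 3), (6, 0), (5, -1), (0, 0), (6, 0), (2, -2), (6, -2), (1, 1), (2, -2), (4, -2), (0, -2), (2, 1), (3, -2), (4, 0), (2, 0)],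
  [(0, 0), (1, 0), (1, 0), (5, -3), (0, 0), (3, 1), (7, 1), (1, 1), (1, -1), (2, -2), (4, -4), (5, -1), (0, 0), (4, 4), (11, -3), (8, -4), (0, 0), (8, 0), (2, -2), (9, -1), (3, 1), (5, -1), (7, -3), (4, 0), (5, 4), (4, 2), (6, 1), (2, 4)],
  [(0, 0), (0, 0), (0, 0), (0, -2), (1, 0), (1, 0), (2, 2), (-1, -1), (0, 0), (2, -2), (1, -3), (1, 1), (0, 0), (1, 1), (3, -3), (4, -4), (0, 0), (2, 0), (1, 1), (5, -1), (2, 0), (2, 0), (1, -1), (2, 2), (2, 3), (1, 3), (3, -1), (0, 1)]]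

def yaCoefTab : List (List (ℤ × ℤ)) := [
  [(0, 0), (0, 0), (0, 0), (0, 0), (2, 0), (0, 0), (-4, 0), (0, 0), (0, -2), (4, 6), (-4, 8), (-6, -8), (6, 2), (-3, -18), (-20, -14), (14, 16), (16, -37), (-3, 33), (3, 47), (46, -23), (25, 2), (-17, -12), (-14, -33), (20, 22), (16, -19), (-10, 32), (-1, 29), (-6, -28)],
  [(0, 0), (0, 0), (0, 0), (0, 0), (0, 0), (0, 0), (0, 0), (0, 0), (0, 0), (0, 0), (0, 0), (0, 0), (0, -1), (0, 0), (0, 0), (2, 0), (-2, 0), (3, -1), (3, 0), (-3, -2), (-2, -1), (-2, -1), (-3, -1), (-1, -1), (-1, -2), (0, 0), (-1, -1), (-2, 0)],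
  [(0, 0), (0, 0), (0, 0), (0, 0), (0, 0), (0, 0), (0, 0), (0, 0), (0, 2), (2, -2), (0, 2), (-3, -1), (-2, -2), (-4, 0), (-2, 4), (7, -6), (-8, 2), (5, -2), (8, -6), (-6, -3), (-2, 2), (-3, 8), (-9, 9), (4, -3), (-6, 1), (9, 2), (4, 3), (-6, 6)],
  [(0, 0), (0, 0), (0, 0), (0, 0), (2, 0), (0, 0), (-4, 0), (0, 0), (2, 0), (2, 0), (0, 8), (-8, -4), (2, 2), (-6, -7), (-14, -4), (10, 0), (3, -18), (2, 20), (8, 22), (24, -19), (17, 2), (-7, -1), (-10, -8), (18, 7), (9, -8), (5, 16), (10, 19), (-5, -12)],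
  [(0, 0), (0, 0), (0, 0), (0, 0), (0, 0), (0, 0), (0, 0), (0, 0), (0, 0), (0, 0), (0, 0), (1, 0), (0, 0), (0, 1), (0, 0), (0, 0), (-2, 0), (0, 0), (2, 0), (-1, -1), (-1, -2), (0, -1), (-1, 0), (1, 0), (0, 0), (1, 1), (1, 0), (0, 0)],
  [(0, 0), (0, 0), (0, 0), (0, 0), (0, 0), (0, 0), (0, 0), (0, 0), (0, 0), (0, 0), (0, 0), (0, -1), (0, 0), (2, 0), (0, 0), (0, 2), (0, 0), (0, 2), (0, 0), (1, -1), (-1, 1), (0, -1), (1, -1), (0, 0), (1, 0), (0, 0), (1, -1), (-1, -2)],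
  [(0, 0), (0, 0), (0, 0), (0, 0), (0, 0), (0, 0), (0, 0), (0, 0), (0, 0), (0, 0), (0, 0), (0, 0), (0, 0), (0, 0), (0, 0), (0, 0), (1, 0), (-1, 0), (0, 0), (1, 1), (0, 0), (0, 0), (0, 0), (0, 1), (0, 0), (0, 0), (0, 1), (0, 0)],
  [(0, 0), (0, 0), (0, 0), (0, 0), (0, 0), (0, 0), (0, 0), (0, 0), (0, 0), (2, 0), (0, 2), (-2, 0), (0, 0), (-4, -2), (-4, 0), (5, -2), (-2, -6), (2, 2), (5, 5), (3, -5), (4, -2), (-3, 3), (-6, 0), (5, 2), (-2, -3), (3, 6), (2, 7), (-3, 0)],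
  [(0, 0), (0, 0), (0, 0), (0, 0), (0, 0), (0, 0), (0, 0), (0, 0), (0, 0), (0, 0), (0, 0), (0, 0), (0, 0), (0, 0), (0, 0), (0, 0), (0, 0), (1, 0), (0, 0), (0, 0), (0, 0), (0, 0), (0, 0), (0, 0), (0, 0), (0, 0), (0, 0), (0, 0)],
  [(0, 0), (0, 0), (0, 0), (0, 0), (0, 2), (0, 0), (0, -4), (0, 0), (2, 0), (-4, 4), (-8, -2), (5, -6), (-2, 6), (14, -8), (10, -20), (-9, 13), (36, 9), (-28, 0), (-42, 8), (25, 39), (3, 25), (6, -14), (25, -16), (-18, 22), (17, 12), (-29, -5), (-28, 5), (22, -6)],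
  [(0, 0), (0, 0), (0, 0), (0, 0), (0, 0), (0, 0), (0, 0), (0, 0), (0, 0), (0, 0), (0, 0), (0, 0), (0, -1), (0, 0), (0, 1), (2, 0), (-2, 0), (2, -1), (3, -1), (-3, -2), (-2, -1), (-2, 0), (-3, 0), (0, -1), (-2, -1), (1, 1), (-1, -1), (-3, 0)],
  [(0, 0), (0, 0), (0, 0), (0, 0), (0, 0), (0, 0), (0, 0), (0, 0), (0, 0), (0, 0), (0, 0), (0, 0), (0, 0), (0, 0), (0, 0), (0, 0), (1, 0), (0, 0), (-1, 0), (1, 1), (1, 1), (0, 0), (1, 0), (0, 0), (0, 0), (0, 0), (0, 0), (1, 0)],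
  [(0, 0), (0, 0), (0, 0), (0, 0), (0, 0), (0, 0), (0, 0), (0, 0), (0, 0), (2, 0), (0, 2), (-2, 0), (1, 0), (-4, -2), (-4, 0), (4, -2), (-2, -6), (2, 2), (6, 5), (3, -5), (3, -3), (-4, 2), (-7, -1), (5, 2), (-2, -4), (2, 5), (2, 6), (-3, -1)],
  [(0, 0), (0, 0), (0, 0), (0, 0), (0, 0), (0, 0), (0, 0), (0, 0), (0, 0), (1, 1), (0, 1), (-1, 0), (1, -1), (-2, -2), (-3, -1), (2, 0), (0, -6), (2, 2), (4, 6), (3, -5), (3, -2), (-4, 0), (-5, -3), (2, 2), (-1, -4), (-1, 5), (0, 5), (-2, -3)],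
  [(0, 0), (0, 0), (0, 0), (0, 0), (0, 0), (0, 0), (0, 0), (0, 0), (0, 0), (0, 0), (0, 0), (0, 0), (0, -1), (0, 0), (0, 1), (2, 0), (-3, -1), (3, 0), (4, 0), (-3, -4), (-2, -2), (-2, 0), (-3, -1), (0, -1), (-1, -1), (1, 1), (0, -1), (-3, 0)],
  [(0, 0), (0, 0), (0, 0), (0, 0), (0, 0), (0, 0), (0, 0), (0, 0), (0, 0), (0, 0), (0, 0), (0, -1), (0, 0), (2, 0), (0, 0), (0, 1), (0, 2), (0, 0), (1, -2), (-1, 1), (-3, 1), (-1, -1), (0, 0), (-1, 0), (0, 0), (0, -1), (0, -2), (-1, -1)],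
  [(0, 0), (0, 0), (0, 0), (0, 0), (0, 0), (0, 0), (0, 2), (0, 0), (0, 0), (2, -2), (3, 2), (-3, 3), (0, -2), (-7, 3), (-5, 8), (4, -8), (-14, -6), (12, 0), (17, -1), (-8, -16), (2, -10), (-2, 8), (-10, 8), (8, -8), (-7, -5), (12, 4), (13, 1), (-8, 3)],
  [(0, 0), (0, 0), (0, 0), (0, 0), (0, 0), (0, 0), (0, 0), (0, 0), (0, 0), (0, 0), (0, 0), (0, 0), (0, 0), (1, 0), (0, 0), (0, 0), (0, 0), (0, 1), (1, 0), (0, -1), (-1, 0), (-1, -1), (0, -1), (0, 0), (0, 0), (0, 0), (1, 0), (-1, -1)],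
  [(0, 0), (0, 0), (0, 0), (0, 0), (0, 0), (0, 0), (0, 0), (0, 0), (0, 0), (0, 0), (0, 0), (0, 0), (1, 0), (0, -1), (-1, 0), (0, 2), (2, -4), (-1, 4), (-1, 4), (6, -2), (3, -1), (0, -1), (1, -3), (2, 1), (2, 0), (-1, 2), (1, 1), (0, -3)],
  [(0, 0), (0, 0), (0, 0), (0, 0), (0, 0), (0, 0), (0, 0), (0, 0), (0, 0), (0, 0), (1, 0), (0, 0), (0, 0), (1, 1), (-1, 0), (-2, 0), (1, 0), (-2, 2), (0, 0), (3, 0), (0, 0), (0, 0), (2, 1), (1, 0), (1, 1), (0, 0), (3, 1), (1, -2)],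
  [(0, 0), (0, 0), (2, 0), (0, 0), (0, 4), (0, 0), (4, -8), (0, 2), (4, -4), (-16, 8), (-14, -16), (26, -4), (-6, 17), (42, 2), (45, -38), (-52, 25), (82, 50), (-79, -30), (-115, -13), (31, 121), (-11, 46), (41, -35), (90, -22), (-64, 39), (35, 46), (-73, -42), (-70, -20), (73, 1)]]

def caTab : List (List (ℤ × ℤ)) := [
  [(0, 0), (0, 0), (0, 0), (0, -1), (0, 0), (0, 0), (0, 0), (0, 0), (0, 0), (0, 0), (0, 0), (0, 0), (0, 0), (0, 0), (0, 0), (0, 0), (0, 0), (0, 0), (0, 0), (0, 0), (0, 0), (0, 0), (0, 0), (0, 0), (0, 0), (0, 0), (0, 0), (0, 0)],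
  [(0, 0), (0, 0), (0, 0), (0, -1), (0, 0), (0, 0), (0, 0), (0, 0), (0, 0), (0, 0), (0, 0), (0, 0), (0, 0), (0, 0), (0, 0), (0, 0), (0, 0), (0, 0), (0, 0), (0, 0), (0, 0), (0, 0), (0, 0), (0, 0), (0, 0), (0, 0), (0, 0), (0, 0)],
  [(0, 0), (0, 0), (0, 0), (0, 0), (0, 0), (0, 0), (0, 0), (0, 0), (0, 0), (0, 0), (0, 0), (0, 0), (0, 0), (0, 0), (0, 0), (0, -1), (0, 0), (0, 0), (0, 0), (0, 0), (0, 0), (0, 0), (0, 0), (0, 0), (0, 0), (0, 0), (0, 0), (0, 0)],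
  [(0, 0), (0, 0), (0, 0), (0, -1), (0, 0), (0, 0), (0, 0), (0, 0), (0, 0), (0, 0), (0, 0), (0, 0), (0, 0), (0, 0), (0, 0), (0, 0), (0, 0), (0, 0), (0, 0), (0, 0), (0, 0), (0, 0), (0, 0), (0, 0), (0, 0), (0, 0), (0, 0), (0, 0)],
  [(0, 0), (0, 0), (0, 0), (0, 0), (0, 0), (0, 0), (0, 0), (0, 0), (0, 0), (0, 0), (0, 0), (0, 0), (0, 0), (0, 0), (0, 0), (0, 0), (0, 0), (0, 0), (0, 0), (0, 0), (0, 0), (0, 0), (0, -1), (0, 0), (0, 0), (0, 0), (0, 0), (0, 0)],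
  [(0, 0), (0, 0), (0, 0), (0, 0), (0, 0), (0, 0), (0, 0), (0, 0), (0, 0), (0, 0), (0, 0), (0, 0), (0, 0), (0, 0), (0, 0), (0, 0), (0, 0), (0, 0), (0, 0), (0, 0), (0, 0), (0, 0), (0, 0), (0, 0), (0, 0), (0, 0), (0, -1), (0, 0)],
  [(0, 0), (0, 0), (0, 0), (0, 0), (0, 0), (0, 0), (0, 0), (0, -1), (0, 0), (0, 0), (0, 0), (0, 0), (0, 0), (0, 0), (0, 0), (0, 0), (0, 0), (0, 0), (0, 0), (0, 0), (0, 0), (0, 0), (0, 0), (0, 0), (0, 0), (0, 0), (0, 0), (0, 0)],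
  [(0, 0), (0, 0), (0, 0), (0, 0), (0, 0), (0, 0), (0, 0), (0, 0), (0, 0), (0, 0), (0, 0), (0, 0), (0, 0), (0, 0), (0, 0), (0, -1), (0, 0), (0, 0), (0, 0), (0, 0), (0, 0), (0, 0), (0, 0), (0, 0), (0, 0), (0, 0), (0, 0), (0, 0)],
  [(0, 0), (0, 0), (0, 0), (0, 0), (0, 0), (0, 0), (0, 0), (0, -1), (0, 0), (0, 0), (0, 0), (0, 0), (0, 0), (0, 0), (0, 0), (0, 0), (0, 0), (0, 0), (0, 0), (0, 0), (0, 0), (0, 0), (0, 0), (0, 0), (0, 0), (0, 0), (0, 0), (0, 0)],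
  [(0, 0), (0, 0), (0, 0), (0, 0), (0, 0), (0, 0), (0, 0), (0, 0), (0, 0), (0, 0), (0, 0), (0, 0), (0, 0), (0, 0), (0, 0), (0, 0), (0, 0), (0, 0), (0, 0), (0, 0), (0, 0), (0, 0), (0, 0), (0, -1), (0, 0), (0, 0), (0, 0), (0, 0)],
  [(0, 0), (0, 0), (0, 0), (0, 0), (0, 0), (0, 0), (0, 0), (0, 0), (0, 0), (0, 0), (0, 0), (0, 0), (0, 0), (0, 0), (0, 0), (0, 0), (0, 0), (0, 0), (0, 0), (0, 0), (0, 0), (0, 0), (0, 0), (0, 0), (0, 0), (0, -1), (0, 0), (0, 0)],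
  [(0, 0), (0, 0), (0, 0), (0, 0), (0, 0), (0, 0), (0, 0), (0, 0), (0, 0), (0, 0), (0, 0), (0, -1), (0, 0), (0, 0), (0, 0), (0, 0), (0, 0), (0, 0), (0, 0), (0, 0), (0, 0), (0, 0), (0, 0), (0, 0), (0, 0), (0, 0), (0, 0), (0, 0)],
  [(0, 0), (0, 0), (0, 0), (0, 0), (0, 0), (0, 0), (0, 0), (0, 0), (0, 0), (0, 0), (0, 0), (0, 0), (0, 0), (0, 0), (0, 0), (0, 0), (0, 0), (0, -1), (0, 0), (0, 0), (0, 0), (0, 0), (0, 0), (0, 0), (0, 0), (0, 0), (0, 0), (0, 0)],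
  [(0, 0), (0, 0), (0, 0), (0, 0), (0, 0), (0, 0), (0, 0), (0, 0), (0, 0), (0, 0), (0, 0), (0, -1), (0, 0), (0, 0), (0, 0), (0, 0), (0, 0), (0, 0), (0, 0), (0, 0), (0, 0), (0, -1), (0, 0), (0, -1), (0, 0), (0, 0), (0, 0), (0, 0)],
  [(0, 0), (0, 0), (0, 0), (0, 0), (0, 0), (0, 0), (0, 0), (0, 0), (0, 0), (0, 0), (0, 0), (0, 0), (0, 0), (0, 0), (0, 0), (0, 0), (0, 0), (0, 0), (0, 0), (0, 0), (0, 0), (0, 0), (0, 0), (0, 0), (0, 0), (0, 0), (0, 0), (0, -1)],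
  [(0, 0), (0, 0), (0, 0), (0, 0), (0, 0), (0, 0), (0, 0), (0, 0), (0, 0), (0, 0), (0, 0), (0, 0), (0, 0), (0, 0), (0, 0), (0, -1), (0, 0), (0, -1), (0, 0), (0, -1), (0, 0), (0, 0), (0, 0), (0, 0), (0, 0), (0, 0), (0, 0), (0, 0)],
  [(0, 0), (0, 0), (0, 0), (0, 0), (0, 0), (0, 0), (0, 0), (0, 0), (0, 0), (0, 0), (0, 0), (0, 0), (0, 0), (0, 0), (0, 0), (0, 0), (0, 0), (0, 0), (0, 0), (0, 0), (0, 0), (0, -1), (0, 0), (0, 0), (0, 0), (0, 0), (0, 0), (0, 0)],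
  [(0, 0), (0, 0), (0, 0), (0, 0), (0, 0), (0, 0), (0, 0), (0, 0), (0, 0), (0, 0), (0, 0), (0, 0), (0, 0), (0, 0), (0, 0), (0, 0), (0, 0), (0, 0), (0, 0), (0, 0), (0, 0), (0, 0), (0, 0), (0, 0), (0, 0), (0, 0), (0, -1), (0, 0)],
  [(0, 0), (0, 0), (0, 0), (0, 0), (0, 0), (0, 0), (0, 0), (0, 0), (0, 0), (0, 0), (0, 0), (0, 0), (0, 0), (0, 0), (0, 0), (0, 0), (0, 0), (0, 0), (0, -1), (0, -1), (0, 0), (0, 0), (0, 0), (0, -1), (0, 0), (0, 0), (0, 0), (0, 0)],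
  [(0, 0), (0, 0), (0, 0), (0, 0), (0, 0), (0, 0), (0, 0), (0, 0), (0, 0), (0, 0), (0, 0), (0, 0), (0, 0), (0, 0), (0, 0), (0, 0), (0, 0), (0, 0), (0, -1), (0, -1), (0, 0), (0, 0), (0, 0), (0, 0), (0, 0), (0, 0), (0, -1), (0, 0)],
  [(0, 0), (0, 0), (0, 0), (0, 0), (0, 0), (0, 0), (0, 0), (0, 0), (0, 0), (0, 0), (0, 0), (0, 0), (0, 0), (0, 0), (0, 0), (0, 0), (0, 0), (0, 0), (0, 0), (0, 0), (0, 0), (0, -1), (0, 0), (0, 0), (0, 0), (0, 0), (0, 0), (0, 0)]]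

def ybCoefTab : List (List (ℤ × ℤ)) := [
  [(0, 0), (0, 0), (0, 0), (0, 0), (0, 0), (0, 0), (0, 0), (0, 0), (0, 0), (0, 1), (-1, 0), (0, -2), (0, 0), (2, -2), (1, -3), (2, 2), (4, 2), (-2, 0), (-4, 1), (2, 4), (-1, 4), (-2, -3), (0, -3), (-3, 3), (2, -1), (-3, -1), (-6, 1), (1, -1)],
  [(0, 0), (0, 0), (0, 0), (1, 1), (0, 0), (0, 0), (4, 0), (0, 0), (1, 1), (-6, -3), (2, -8), (7, 6), (-6, 0), (10, 12), (23, 8), (-16, -7), (-4, 37), (-1, -28), (-15, -41), (-37, 26), (-22, 5), (17, 3), (21, 21), (-26, -17), (-6, 18), (2, -32), (-9, -32), (9, 22)],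
  [(0, 0), (0, 0), (0, 0), (0, 0), (0, 2), (0, 0), (2, -4), (0, 0), (4, 0), (-11, 2), (-6, -8), (11, -2), (-6, 8), (24, 4), (28, -18), (-25, 8), (38, 39), (-33, -20), (-59, -19), (2, 63), (-11, 29), (23, -18), (48, -3), (-40, 11), (19, 26), (-32, -33), (-35, -20), (35, 6)],
  [(0, 0), (0, 0), (0, 0), (0, 0), (0, 0), (0, 0), (0, 0), (0, 0), (0, 0), (1, 0), (0, 0), (0, 0), (0, 0), (0, -1), (0, 0), (0, 2), (1, -1), (-1, 0), (-1, 0), (1, 1), (0, 1), (0, 0), (1, -1), (0, 1), (-1, 1), (-1, 1), (-1, 0), (0, -1)],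
  [(0, 0), (0, 0), (0, 0), (0, 0), (0, 0), (0, 0), (0, 2), (0, 0), (0, 0), (0, -3), (4, 0), (-2, 4), (0, -2), (-3, 6), (0, 10), (0, -6), (-14, 2), (12, -2), (13, -9), (-13, -13), (-3, -9), (3, 5), (-3, 9), (3, -14), (-5, -1), (12, -5), (13, -9), (-6, 4)],
  [(0, 0), (0, 0), (0, 0), (0, 0), (0, 0), (0, 0), (0, 0), (0, 0), (0, 0), (1, 0), (0, 0), (0, 0), (1, 0), (0, 0), (-2, 0), (-2, 2), (2, -4), (-3, 4), (0, 3), (6, -1), (2, -1), (0, 0), (1, -2), (3, 2), (0, 0), (-1, 3), (3, 2), (1, -4)],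
  [(0, 0), (0, 0), (0, 0), (0, 0), (0, 2), (0, 0), (0, -2), (0, 0), (1, 1), (-3, 0), (-4, -2), (4, -3), (-2, 2), (8, 0), (8, -8), (-6, 6), (14, 8), (-14, 0), (-21, -1), (10, 20), (-3, 12), (7, -6), (15, -4), (-10, 7), (8, 11), (-12, -5), (-11, -2), (12, -1)]]

def cbTab : List (List (ℤ × ℤ)) := [
  [(0, 0), (0, 0), (0, 0), (1, 0), (0, 0), (0, 0), (0, 0), (0, 0), (0, 0), (0, 0), (0, 0), (0, 0), (0, 0), (0, 0), (0, 0), (0, 0), (0, 0), (0, 0), (0, 0), (0, 0), (0, 0), (0, 0), (0, 0), (0, 0), (0, 0), (0, 0), (0, 0), (0, 0)],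
  [(0, 0), (0, 0), (0, 0), (0, 0), (0, 0), (0, -1), (0, 0), (0, 0), (0, 0), (0, 0), (0, 0), (0, 0), (0, 0), (0, 0), (0, 0), (0, 0), (0, 0), (0, 0), (0, 0), (0, 0), (0, 0), (0, 0), (0, 0), (0, 0), (0, 0), (0, 0), (0, 0), (0, 0)],
  [(0, 0), (0, 0), (0, 0), (0, 0), (0, 0), (0, 0), (0, 0), (0, 0), (1, 0), (1, -1), (0, 0), (0, 0), (0, 0), (0, 0), (0, 0), (0, 0), (0, 0), (0, 0), (0, 0), (0, 0), (0, 0), (0, 0), (0, 0), (0, 0), (0, 0), (0, 0), (0, 0), (0, 0)],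
  [(0, 0), (0, 0), (0, 0), (0, 0), (0, 0), (0, 0), (0, 0), (0, 0), (0, 0), (0, 0), (0, 0), (0, 0), (0, 0), (0, 0), (1, -1), (0, -1), (0, 0), (0, 0), (0, 0), (0, 0), (0, 0), (0, 0), (0, 0), (0, 0), (0, 0), (0, 0), (0, 0), (0, 0)],
  [(0, 0), (0, 0), (0, 0), (0, 0), (0, 0), (0, 0), (0, 0), (0, 0), (0, 0), (0, 0), (0, 0), (0, 0), (0, 0), (0, 0), (0, 0), (0, 0), (0, 0), (1, 0), (0, 0), (0, 0), (0, 0), (0, 0), (0, 0), (0, 0), (0, 0), (0, 0), (0, 0), (0, 0)],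
  [(0, 0), (0, 0), (0, 0), (0, 0), (0, 0), (0, 0), (0, 0), (0, 0), (0, 0), (0, 0), (0, 0), (0, 0), (0, 0), (0, 0), (0, 0), (0, 0), (0, 0), (0, 0), (0, 0), (0, 0), (0, 0), (0, 0), (1, 0), (0, 0), (0, 0), (0, 0), (0, 0), (0, 0)],
  [(0, 0), (0, 0), (0, 0), (0, 0), (0, 0), (0, 0), (0, 0), (0, 0), (0, 0), (0, 0), (0, 0), (0, 0), (0, 0), (0, 0), (0, 0), (0, 0), (0, 0), (0, 0), (0, 0), (0, 0), (0, 0), (0, 0), (0, 0), (0, 0), (0, 0), (0, 0), (0, 0), (1, 0)]]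

def G0tab : List (List ℕ) := [
  [1, 0, 0, 1, 0, 0, 1, 1, 0, 0, 1, 1, 0, 1, 0, 1, 0, 1, 1, 0, 0, 1, 0, 1, 1, 1, 1, 1],
  [0, 1, 0, 1, 0, 0, 0, 0, 0, 1, 1, 0, 0, 0, 1, 1, 0, 0, 1, 1, 0, 1, 0, 1, 0, 1, 1, 0],
  [0, 0, 1, 1, 0, 0, 1, 1, 0, 1, 0, 1, 0, 1, 1, 0, 0, 1, 0, 1, 0, 0, 0, 0, 0, 1, 1, 0],
  [0, 0, 0, 0, 1, 0, 0, 1, 0, 0, 1, 1, 0, 0, 1, 1, 0, 1, 0, 1, 0, 1, 1, 0, 1, 0, 1, 0],
  [0, 0, 0, 0, 0, 1, 1, 0, 0, 0, 1, 1, 0, 0, 1, 1, 0, 1, 0, 1, 0, 1, 1, 0, 0, 1, 0, 1],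
  [0, 0, 0, 0, 0, 0, 0, 0, 1, 1, 1, 1, 0, 0, 0, 0, 0, 0, 0, 0, 0, 0, 0, 0, 1, 1, 1, 1],
  [0, 0, 0, 0, 0, 0, 0, 0, 0, 0, 0, 0, 1, 1, 1, 1, 0, 0, 0, 0, 0, 0, 0, 0, 1, 1, 1, 1],
  [0, 0, 0, 0, 0, 0, 0, 0, 0, 0, 0, 0, 0, 0, 0, 0, 1, 1, 1, 1, 0, 0, 0, 0, 1, 1, 1, 1],
  [0, 0, 0, 0, 0, 0, 0, 0, 0, 0, 0, 0, 0, 0, 0, 0, 0, 0, 0, 0, 1, 1, 1, 1, 1, 1, 1, 1]]

def piv0tab : List ℕ := [0, 1, 2, 4, 5, 8, 12, 16, 20]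

def G1tab : List (List ℕ) := [
  [1, 0, 0, 1, 0, 0, 1, 1, 0, 0, 1, 1, 0, 1, 0, 1, 0, 1, 1, 0, 0, 1, 0, 1, 0, 0, 0, 0],
  [0, 1, 0, 1, 0, 0, 0, 0, 0, 1, 1, 0, 0, 0, 1, 1, 0, 0, 1, 1, 0, 1, 0, 1, 0, 1, 1, 0],
  [0, 0, 1, 1, 0, 0, 1, 1, 0, 1, 0, 1, 0, 1, 1, 0, 0, 1, 0, 1, 0, 0, 0, 0, 0, 1, 1, 0],
  [0, 0, 0, 0, 1, 0, 0, 1, 0, 0, 1, 1, 0, 0, 1, 1, 0, 1, 0, 1, 0, 1, 1, 0, 0, 1, 0, 1],
  [0, 0, 0, 0, 0, 1, 1, 0, 0, 0, 1, 1, 0, 0, 1, 1, 0, 1, 0, 1, 0, 1, 1, 0, 0, 1, 0, 1],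
  [0, 0, 0, 0, 0, 0, 0, 0, 1, 1, 1, 1, 0, 0, 0, 0, 0, 0, 0, 0, 0, 0, 0, 0, 0, 0, 0, 0],
  [0, 0, 0, 0, 0, 0, 0, 0, 0, 0, 0, 0, 1, 1, 1, 1, 0, 0, 0, 0, 0, 0, 0, 0, 0, 0, 0, 0],
  [0, 0, 0, 0, 0, 0, 0, 0, 0, 0, 0, 0, 0, 0, 0, 0, 1, 1, 1, 1, 0, 0, 0, 0, 0, 0, 0, 0],
  [0, 0, 0, 0, 0, 0, 0, 0, 0, 0, 0, 0, 0, 0, 0, 0, 0, 0, 0, 0, 1, 1, 1, 1, 0, 0, 0, 0],
  [0, 0, 0, 0, 0, 0, 0, 0, 0, 0, 0, 0, 0, 0, 0, 0, 0, 0, 0, 0, 0, 0, 0, 0, 1, 1, 1, 1]]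

def piv1tab : List ℕ := [0, 1, 2, 4, 5, 8, 12, 16, 20, 24]

def octTab : List (List ℕ) := [
  [1, 1, 1, 1, 1, 1, 1, 1, 0, 0, 0, 0, 0, 0, 0, 0, 0, 0, 0, 0, 0, 0, 0, 0, 0, 0, 0, 0],
  [1, 1, 1, 1, 0, 0, 0, 0, 1, 1, 1, 1, 0, 0, 0, 0, 0, 0, 0, 0, 0, 0, 0, 0, 0, 0, 0, 0],
  [1, 1, 1, 1, 0, 0, 0, 0, 0, 0, 0, 0, 1, 1, 1, 1, 0, 0, 0, 0, 0, 0, 0, 0, 0, 0, 0, 0],
  [1, 1, 1, 1, 0, 0, 0, 0, 0, 0, 0, 0, 0, 0, 0, 0, 1, 1, 1, 1, 0, 0, 0, 0, 0, 0, 0, 0],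
  [1, 1, 1, 1, 0, 0, 0, 0, 0, 0, 0, 0, 0, 0, 0, 0, 0, 0, 0, 0, 1, 1, 1, 1, 0, 0, 0, 0],
  [1, 1, 1, 1, 0, 0, 0, 0, 0, 0, 0, 0, 0, 0, 0, 0, 0, 0, 0, 0, 0, 0, 0, 0, 1, 1, 1, 1],
  [0, 0, 0, 0, 1, 1, 1, 1, 1, 1, 1, 1, 0, 0, 0, 0, 0, 0, 0, 0, 0, 0, 0, 0, 0, 0, 0, 0],
  [0, 0, 0, 0, 1, 1, 1, 1, 0, 0, 0, 0, 1, 1, 1, 1, 0, 0, 0, 0, 0, 0, 0, 0, 0, 0, 0, 0],
  [0, 0, 0, 0, 1, 1, 1, 1, 0, 0, 0, 0, 0, 0, 0, 0, 1, 1, 1, 1, 0, 0, 0, 0, 0, 0, 0, 0],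
  [0, 0, 0, 0, 1, 1, 1, 1, 0, 0, 0, 0, 0, 0, 0, 0, 0, 0, 0, 0, 1, 1, 1, 1, 0, 0, 0, 0],
  [0, 0, 0, 0, 1, 1, 1, 1, 0, 0, 0, 0, 0, 0, 0, 0, 0, 0, 0, 0, 0, 0, 0, 0, 1, 1, 1, 1],
  [0, 0, 0, 0, 0, 0, 0, 0, 1, 1, 1, 1, 1, 1, 1, 1, 0, 0, 0, 0, 0, 0, 0, 0, 0, 0, 0, 0],
  [0, 0, 0, 0, 0, 0, 0, 0, 1, 1, 1, 1, 0, 0, 0, 0, 1, 1, 1, 1, 0, 0, 0, 0, 0, 0, 0, 0],
  [0, 0, 0, 0, 0, 0, 0, 0, 1, 1, 1, 1, 0, 0, 0, 0, 0, 0, 0, 0, 1, 1, 1, 1, 0, 0, 0, 0],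
  [0, 0, 0, 0, 0, 0, 0, 0, 1, 1, 1, 1, 0, 0, 0, 0, 0, 0, 0, 0, 0, 0, 0, 0, 1, 1, 1, 1],
  [0, 0, 0, 0, 0, 0, 0, 0, 0, 0, 0, 0, 1, 1, 1, 1, 1, 1, 1, 1, 0, 0, 0, 0, 0, 0, 0, 0],
  [0, 0, 0, 0, 0, 0, 0, 0, 0, 0, 0, 0, 1, 1, 1, 1, 0, 0, 0, 0, 1, 1, 1, 1, 0, 0, 0, 0],
  [0, 0, 0, 0, 0, 0, 0, 0, 0, 0, 0, 0, 1, 1, 1, 1, 0, 0, 0, 0, 0, 0, 0, 0, 1, 1, 1, 1],
  [0, 0, 0, 0, 0, 0, 0, 0, 0, 0, 0, 0, 0, 0, 0, 0, 1, 1, 1, 1, 1, 1, 1, 1, 0, 0, 0, 0],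
  [0, 0, 0, 0, 0, 0, 0, 0, 0, 0, 0, 0, 0, 0, 0, 0, 1, 1, 1, 1, 0, 0, 0, 0, 1, 1, 1, 1],
  [0, 0, 0, 0, 0, 0, 0, 0, 0, 0, 0, 0, 0, 0, 0, 0, 0, 0, 0, 0, 1, 1, 1, 1, 1, 1, 1, 1]]

def blkTab : List (List ℕ) := [
  [1, 1, 1, 1, 0, 0, 0, 0, 0, 0, 0, 0, 0, 0, 0, 0, 0, 0, 0, 0, 0, 0, 0, 0, 0, 0, 0, 0],
  [0, 0, 0, 0, 1, 1, 1, 1, 0, 0, 0, 0, 0, 0, 0, 0, 0, 0, 0, 0, 0, 0, 0, 0, 0, 0, 0, 0],
  [0, 0, 0, 0, 0, 0, 0, 0, 1, 1, 1, 1, 0, 0, 0, 0, 0, 0, 0, 0, 0, 0, 0, 0, 0, 0, 0, 0],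
  [0, 0, 0, 0, 0, 0, 0, 0, 0, 0, 0, 0, 1, 1, 1, 1, 0, 0, 0, 0, 0, 0, 0, 0, 0, 0, 0, 0],
  [0, 0, 0, 0, 0, 0, 0, 0, 0, 0, 0, 0, 0, 0, 0, 0, 1, 1, 1, 1, 0, 0, 0, 0, 0, 0, 0, 0],
  [0, 0, 0, 0, 0, 0, 0, 0, 0, 0, 0, 0, 0, 0, 0, 0, 0, 0, 0, 0, 1, 1, 1, 1, 0, 0, 0, 0],
  [0, 0, 0, 0, 0, 0, 0, 0, 0, 0, 0, 0, 0, 0, 0, 0, 0, 0, 0, 0, 0, 0, 0, 0, 1, 1, 1, 1]]

def L0rows : List ℕ := [0, 1, 2, 3, 4, 5, 6, 7, 8]

end Cfsg.Agent.Helper91.Ru
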