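import Cfsg.Agent.Lib.Helper91.RuBasic
import Cfsg.Agent.Lib.Helper91.RuData

set_option autoImplicit false
open Cfsg Cfsg.Spor

namespace Cfsg.Agent.Helper91.Ru

def mkVec (l : List (ℤ × ℤ)) : RuVec := fun p =>
  let e := l.getD (4 * p.1.val + p.2.val) (0, 0); ⟨e.1, e.2⟩

def mkCoef (l : List (ℤ × ℤ)) : Fin 28 → GaussianInt := fun k =>
  let e := l.getD k.val (0, 0); ⟨e.1, e.2⟩

def bvec (k : Fin 28) : RuVec := mkVec (Btab.getD k.val [])

def comb (c : Fin 28 → GaussianInt) : RuVec := ∑ k, c k • bvec k

/-- the span of the basis -/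
def LB : Submodule GaussianInt RuVec := Submodule.span GaussianInt (Set.range bvec)

theorem bvec_mem (k : Fin 28) : bvec k ∈ LB := Submodule.subset_span ⟨k, rfl⟩

theorem comb_mem (c : Fin 28 → GaussianInt) : comb c ∈ LB :=
  Submodule.sum_mem _ fun k _ => Submodule.smul_mem _ _ (bvec_mem k)

theorem op_closed (f : RuVec → RuVec) (hadd : ∀ x y, f (x + y) = f x + f y)
    (hsmul : ∀ (c : GaussianInt) x, f (c • x) = c • f x)
    (hcert : ∀ k, f (bvec k) ∈ LB) : ∀ v ∈ LB, f v ∈ LB := by
  intro v hv
  induction hv using Submodule.span_induction with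
  | mem x hx => obtain ⟨k, rfl⟩ := hx; exact hcert k
  | zero =>
    have : f 0 = 0 := by have := hsmul 0 0; simpa using this
    rw [this]; exact LB.zero_mem
  | add x y _ _ hx hy => rw [hadd]; exact LB.add_mem hx hy
  | smul c x _ hx => rw [hsmul]; exact LB.smul_mem c hx

/-! ### linearity of the four maps -/

theorem ruRj_add (x y : RuVec) : ruRj (x + y) = ruRj x + ruRj y := by
  funext ⟨n, t⟩
  fin_cases t <;> simp [ruRj, mul_add] <;> ring

theorem ruRj_smul (c : GaussianInt) (x : RuVec) : ruRj (c • x) = c • ruRj x := by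
  funext ⟨n, t⟩
  fin_cases t <;> simp [ruRj] <;> ring

theorem ruRk_add (x y : RuVec) : ruRk (x + y) = ruRk x + ruRk y := by
  funext ⟨n, t⟩
  fin_cases t <;> simp [ruRk, mul_add] <;> ring

theorem ruRk_smul (c : GaussianInt) (x : RuVec) : ruRk (c • x) = c • ruRk x := by
  funext ⟨n, t⟩
  fin_cases t <;> simp [ruRk] <;> ring

theorem ruSign_add (x y : RuVec) : ruSign (x + y) = ruSign x + ruSign y := by
  funext p
  simp only [ruSign, Pi.add_apply]
  split_ifs <;> ring

theorem ruSign_smul (c : GaussianInt) (x : RuVec) : ruSign (c • x) = c • ruSign x := by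
  funext p
  simp only [ruSign, Pi.smul_apply, smul_eq_mul]
  split_ifs <;> ring

theorem ruShift_add (x y : RuVec) : ruShift (x + y) = ruShift x + ruShift y := rfl

theorem ruShift_smul (c : GaussianInt) (x : RuVec) : ruShift (c • x) = c • ruShift x := rfl

/-! ### certificates -/

set_option maxRecDepth 100000 in
theorem rj_cert : ∀ k : Fin 28, ruRj (bvec k) = comb (mkCoef (RjCoefTab.getD k.val [])) := by
  decide +kernel

set_option maxRecDepth 100000 in
theorem rk_cert : ∀ k : Fin 28, ruRk (bvec k) = comb (mkCoef (RkCoefTab.getD k.val [])) := by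
  decide +kernel

set_option maxRecDepth 100000 in
theorem sign_cert : ∀ k : Fin 28, ruSign (bvec k) = comb (mkCoef (SignCoefTab.getD k.val [])) := by
  decide +kernel

set_option maxRecDepth 100000 in
theorem shift_cert : ∀ k : Fin 28, ruShift (bvec k) = comb (mkCoef (ShiftCoefTab.getD k.val [])) := by
  decide +kernel

set_option maxRecDepth 100000 in
theorem gen_cert : ∀ vc ∈ List.zip ruTable genCoefTab, vc.1 = comb (mkCoef vc.2) := by
  decide +kernel

theorem zip_partner {α β : Type} (L : List α) (cs : List β) (hlen : L.length = cs.length) :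
    ∀ s ∈ L, ∃ c, (s, c) ∈ List.zip L cs := by
  intro s hs
  obtain ⟨n, hn, rfl⟩ := List.getElem_of_mem hs
  have hn' : n < cs.length := by rw [← hlen]; exact hn
  have hz : n < (List.zip L cs).length := by rw [List.length_zip]; omega
  have e : (List.zip L cs)[n] = (L[n], cs[n]) := List.getElem_zip
  exact ⟨cs[n], by rw [← e]; exact List.getElem_mem hz⟩

theorem LB_closed : LB.toAddSubgroup ∈ ruClosed := by
  refine ⟨?_, ?_⟩
  · intro v hv
    obtain ⟨c, hc⟩ := zip_partner ruTable genCoefTab (by decide) v hv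
    have := gen_cert _ hc
    simp only at this
    rw [this]
    exact comb_mem _
  · intro v hv
    have hv' : v ∈ LB := hv
    refine ⟨LB.smul_mem gI hv', ?_, ?_, ?_, ?_⟩
    · exact op_closed ruRj ruRj_add ruRj_smul (fun k => by rw [rj_cert]; exact comb_mem _) v hv'
    · exact op_closed ruRk ruRk_add ruRk_smul (fun k => by rw [rk_cert]; exact comb_mem _) v hv'
    · exact op_closed ruSign ruSign_add ruSign_smul
        (fun k => by rw [sign_cert]; exact comb_mem _) v hv'
    · exact op_closed ruShift ruShift_add ruShift_smul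
        (fun k => by rw [shift_cert]; exact comb_mem _) v hv'

theorem ruLattice_le : ∀ x ∈ ruLattice, x ∈ LB := by
  intro x hx
  have : ruLattice ≤ LB.toAddSubgroup := sInf_le LB_closed
  exact this hx

/-! ### Gram matrix -/

def div4 (z : GaussianInt) : Prop := (4 : ℤ) ∣ z.re ∧ (4 : ℤ) ∣ z.im

instance (z : GaussianInt) : Decidable (div4 z) := by unfold div4; infer_instance

theorem dvd_of_div4 {z : GaussianInt} (h : div4 z) : (4 : GaussianInt) ∣ z := by
  have : ((4 : ℤ) : GaussianInt) ∣ z := (Zsqrtd.intCast_dvd 4 z).mpr h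
  simpa using this

set_option maxRecDepth 100000 in
theorem gram_cert : ∀ j k : Fin 28, div4 (herm (bvec j) (bvec k)) := by
  decide +kernel

set_option maxRecDepth 100000 in
theorem norm_cert : ∀ k : Fin 28, (8 : ℤ) ∣ ruNorm (bvec k) := by
  decide +kernel

theorem herm_dvd : ∀ x ∈ LB, ∀ y ∈ LB, (4 : GaussianInt) ∣ herm x y := by
  have h1 : ∀ x ∈ LB, ∀ k, (4 : GaussianInt) ∣ herm x (bvec k) := by
    intro x hx k
    induction hx using Submodule.span_induction with
    | mem x hx => obtain ⟨j, rfl⟩ := hx; exact dvd_of_div4 (gram_cert j k)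
    | zero => rw [herm_zero_left]; exact dvd_zero _
    | add x y _ _ hx hy => rw [herm_add_left]; exact dvd_add hx hy
    | smul c x _ hx => rw [herm_smul_left]; exact Dvd.dvd.mul_left hx c
  intro x hx y hy
  induction hy using Submodule.span_induction with
  | mem y hy => obtain ⟨k, rfl⟩ := hy; exact h1 x hx k
  | zero => rw [herm_zero_right]; exact dvd_zero _
  | add y y' _ _ hy hy' => rw [herm_add_right]; exact dvd_add hy hy'
  | smul c y _ hy => rw [herm_smul_right]; exact Dvd.dvd.mul_left hy _

theorem norm_dvd : ∀ x ∈ LB, (8 : ℤ) ∣ ruNorm x := by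
  intro x hx
  induction hx using Submodule.span_induction with
  | mem x hx => obtain ⟨k, rfl⟩ := hx; exact norm_cert k
  | zero => simp [ruNorm]
  | add x y hx hy ihx ihy =>
    rw [ruNorm_add]
    have h4 : (4 : GaussianInt) ∣ herm x y := herm_dvd x hx y hy
    have h4' : ((4 : ℤ) : GaussianInt) ∣ herm x y := by simpa using h4
    have h4re : (4 : ℤ) ∣ (herm x y).re := ((Zsqrtd.intCast_dvd 4 _).mp h4').1
    omega
  | smul c x _ ih => rw [ruNorm_smul]; exact Dvd.dvd.mul_left ih _

end Cfsg.Agent.Helper91.Ru
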