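import Cfsg.Agent.Lib.Helper91.RuRoot

set_option autoImplicit false
open Cfsg Cfsg.Spor

namespace Cfsg.Agent.Helper91.Ru

theorem small (w : RuIdx → ZMod 2) (hw : wt w ≤ 2)
    (hc : ∀ k : Fin 9, ∑ p, w p * gL0 k p = 0) : ∀ p, w p = 0 := by
  by_contra h
  rw [not_forall] at h
  obtain ⟨p0, hp0⟩ := h
  have hsum : ∀ g : RuIdx → ZMod 2,
      ∑ p, w p * g p = ∑ p ∈ Finset.univ.filter (fun p => w p ≠ 0), g p := by
    intro g
    rw [Finset.sum_filter]
    apply Finset.sum_congr rfl
    intro p _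
    by_cases hp : w p = 0
    · simp [hp]
    · rw [if_pos hp, eq_one_of_ne_zero_zmod2 _ hp, one_mul]
  generalize hS : Finset.univ.filter (fun p => w p ≠ 0) = S at hsum
  have hwS : S.card ≤ 2 := by rw [← hS]; exact hw
  have hp0S : p0 ∈ S := by rw [← hS]; simp [hp0]
  have hcard : (S.erase p0).card ≤ 1 := by
    rw [Finset.card_erase_of_mem hp0S]
    omega
  obtain ⟨p1, hp1⟩ := Finset.card_le_one_iff_subset_singleton.mp hcard
  have hSe : insert p0 (S.erase p0) = S := Finset.insert_erase hp0S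
  by_cases hmem : p1 ∈ S.erase p0
  · have he : S.erase p0 = {p1} :=
      Finset.Subset.antisymm hp1 (Finset.singleton_subset_iff.mpr hmem)
    have hne : p1 ≠ p0 := (Finset.mem_erase.mp hmem).1
    obtain ⟨k, _, hk⟩ := sep_cert p0 p1
    have := hc k
    rw [hsum, ← hSe, he, Finset.sum_insert (by simpa using hne.symm), Finset.sum_singleton,
      hk hne] at this
    exact one_ne_zero this
  · have he : S.erase p0 = ∅ := by
      apply Finset.eq_empty_of_forall_notMem
      intro a ha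
      have h1 := hp1 ha
      rw [Finset.mem_singleton] at h1
      exact hmem (h1 ▸ ha)
    obtain ⟨k, hk, _⟩ := sep_cert p0 p0
    have := hc k
    rw [hsum, ← hSe, he, Finset.sum_insert (by simp), Finset.sum_empty, add_zero, hk rfl] at this
    exact one_ne_zero this

theorem wt_le_of_norm (z : RuVec) (n : ℕ) (h : ruNorm z = (n : ℤ)) : wt (rho z) ≤ n := by
  have := wt_le_ruNorm z
  rw [h] at this
  exact_mod_cast this

theorem no_norm_eight (x : RuVec) (hx : x ∈ LB) (hn : ruNorm x = 8) : False := by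
  have D : ∀ y ∈ LB, (4 : GaussianInt) ∣ herm x y := fun y hy => herm_dvd x hx y hy
  -- level 0
  have h0 : ∀ q, rho x q = ∑ j, G0 j q * rho x (piv0 j) := by
    apply recon_of_checks G0 piv0 (rho x)
    intro q
    have h4 : (4 : GaussianInt) ∣ herm (gpi ^ 0 • x) (tv0 q) := by
      rw [pow_zero, one_smul]; exact D _ (comb_mem _)
    have := master 0 3 (by norm_num) x (tv0 q) (c0 q) (fun p => Or.inr (tv0_cert q p)) h4
    rw [← this]
    apply Finset.sum_congr rfl
    intro p _
    rw [← c0_cert q p]; rfl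
  have hrec0 : rho x = recon0 (fun j => rho x (piv0 j)) := funext h0
  have hwt0 : wt (recon0 (fun j => rho x (piv0 j))) ≤ 8 := by
    rw [← hrec0]; exact wt_le_of_norm x 8 (by rw [hn]; rfl)
  rcases enum0 (fun j => rho x (piv0 j)) hwt0 with hz | ⟨nm, hnm⟩
  swap
  · -- an octad
    have hrho : rho x = octInd nm := hrec0.trans (funext hnm)
    have hw8 : ruNorm x = (wt (rho x) : ℤ) := by rw [hrho, wt_oct, hn]; rfl
    have ht := tight x hw8
    have h4 : (4 : GaussianInt) ∣ herm (gpi ^ 0 • x) (ya nm) := by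
      rw [pow_zero, one_smul]; exact D _ (comb_mem _)
    have hyc : ∀ p, x p = 0 ∨ ya nm p = gpi ^ 3 * ca nm p := by
      intro p
      by_cases hp : rr (x p) = 0
      · exact Or.inl (ht p hp)
      · refine Or.inr (ya_cert nm p ?_)
        rw [← hrho]; exact hp
    have := master 0 3 (by norm_num) x (ya nm) (ca nm) hyc h4
    rw [hrho] at this
    exact one_ne_zero ((ca_cert nm).symm.trans this)
  -- all entries divisible by `1+i`
  have hz' : ∀ p, rr (x p) = 0 := fun p => (congrFun hrec0 p).trans (hz p)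
  obtain ⟨z1, hz1⟩ := exists_smul_gpi x hz'
  have hn1 : ruNorm z1 = 4 := by
    have := ruNorm_gpi_smul z1
    rw [← hz1, hn] at this
    omega
  have D1 : ∀ y ∈ LB, (4 : GaussianInt) ∣ herm (gpi ^ 1 • z1) y := by
    intro y hy; rw [pow_one, ← hz1]; exact D y hy
  have h1 : ∀ q, rho z1 q = ∑ j, G1 j q * rho z1 (piv1 j) := by
    apply recon_of_checks G1 piv1 (rho z1)
    intro q
    have := master 1 2 (by norm_num) z1 (tv1 q) (c1 q) (fun p => Or.inr (tv1_cert q p))
      (D1 _ (comb_mem _))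
    rw [← this]
    apply Finset.sum_congr rfl
    intro p _
    rw [← c1_cert q p]; rfl
  have hrec1 : rho z1 = recon1 (fun j => rho z1 (piv1 j)) := funext h1
  have hwt1 : wt (recon1 (fun j => rho z1 (piv1 j))) ≤ 4 := by
    rw [← hrec1]; exact wt_le_of_norm z1 4 (by rw [hn1]; rfl)
  rcases enum1 (fun j => rho z1 (piv1 j)) hwt1 with hz1z | ⟨n, hnb⟩
  swap
  · -- a block
    have hrho : rho z1 = blkInd n := hrec1.trans (funext hnb)
    have hw4 : ruNorm z1 = (wt (rho z1) : ℤ) := by rw [hrho, wt_blk, hn1]; rfl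
    have ht := tight z1 hw4
    have hyc : ∀ p, z1 p = 0 ∨ yb n p = gpi ^ 2 * cb n p := by
      intro p
      by_cases hp : rr (z1 p) = 0
      · exact Or.inl (ht p hp)
      · refine Or.inr (yb_cert n p ?_)
        rw [← hrho]; exact hp
    have := master 1 2 (by norm_num) z1 (yb n) (cb n) hyc (D1 _ (comb_mem _))
    rw [hrho] at this
    exact one_ne_zero ((cb_cert n).symm.trans this)
  have hz1' : ∀ p, rr (z1 p) = 0 := fun p => (congrFun hrec1 p).trans (hz1z p)
  obtain ⟨z2, hz2⟩ := exists_smul_gpi z1 hz1'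
  have hn2 : ruNorm z2 = 2 := by
    have := ruNorm_gpi_smul z2
    rw [← hz2, hn1] at this
    omega
  have D2 : ∀ y ∈ LB, (4 : GaussianInt) ∣ herm (gpi ^ 2 • z2) y := by
    intro y hy
    have e : gpi ^ 2 • z2 = x := by rw [hz1, hz2, smul_smul, pow_two]
    rw [e]; exact D y hy
  have hc2 : ∀ k : Fin 9, ∑ p, rho z2 p * gL0 k p = 0 := fun k =>
    master 2 0 (by norm_num) z2 (bvec _) (bvec _) (fun p => Or.inr (by rw [pow_zero, one_mul]))
      (D2 _ (bvec_mem _))
  have hz2' : ∀ p, rr (z2 p) = 0 :=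
    small (rho z2) (wt_le_of_norm z2 2 (by rw [hn2]; rfl)) hc2
  obtain ⟨z3, hz3⟩ := exists_smul_gpi z2 hz2'
  have hn3 : ruNorm z3 = 1 := by
    have := ruNorm_gpi_smul z3
    rw [← hz3, hn2] at this
    omega
  have D3 : ∀ y ∈ LB, (4 : GaussianInt) ∣ herm (gpi ^ 3 • z3) y := by
    intro y hy
    have e : gpi ^ 3 • z3 = x := by
      rw [hz1, hz2, hz3, smul_smul, smul_smul]
      congr 1
    rw [e]; exact D y hy
  have hc3 : ∀ k : Fin 9, ∑ p, rho z3 p * gL0 k p = 0 := fun k =>
    master 3 0 (by norm_num) z3 (bvec _) (bvec _) (fun p => Or.inr (by rw [pow_zero, one_mul]))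
      (D3 _ (bvec_mem _))
  have hz3' : ∀ p, rr (z3 p) = 0 :=
    small (rho z3) ((wt_le_of_norm z3 1 (by rw [hn3]; rfl)).trans (by norm_num)) hc3
  obtain ⟨z4, hz4⟩ := exists_smul_gpi z3 hz3'
  have := ruNorm_gpi_smul z4
  rw [← hz4, hn3] at this
  omega

end Cfsg.Agent.Helper91.Ru
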