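import Cfsg.Agent.Lib.Helper91.RuLat

set_option autoImplicit false
open Cfsg Cfsg.Spor

namespace Cfsg.Agent.Helper91.Ru

def idxOf (p : RuIdx) : ℕ := 4 * p.1.val + p.2.val

def pidx (i : ℕ) : RuIdx := (⟨i / 4 % 7, Nat.mod_lt _ (by norm_num)⟩, ⟨i % 4, Nat.mod_lt _ (by norm_num)⟩)

def bitTab (t : List (List ℕ)) (j : ℕ) (p : RuIdx) : ZMod 2 :=
  (((t.getD j []).getD (idxOf p) 0 : ℕ) : ZMod 2)

def G0 (j : Fin 9) (p : RuIdx) : ZMod 2 := bitTab G0tab j.val p
def piv0 (j : Fin 9) : RuIdx := pidx (piv0tab.getD j.val 0)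
def G1 (j : Fin 10) (p : RuIdx) : ZMod 2 := bitTab G1tab j.val p
def piv1 (j : Fin 10) : RuIdx := pidx (piv1tab.getD j.val 0)
def octInd (nm : Fin 21) (p : RuIdx) : ZMod 2 := bitTab octTab nm.val p
def blkInd (n : Fin 7) (p : RuIdx) : ZMod 2 := bitTab blkTab n.val p

/-- systematic parity check attached to the coordinate `q` -/
def hbq {k : ℕ} (G : Fin k → RuIdx → ZMod 2) (piv : Fin k → RuIdx) (q p : RuIdx) : ZMod 2 :=
  (if p = q then 1 else 0) + ∑ j, G j q * (if p = piv j then 1 else 0)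

theorem sum_hbq_gen {ι R : Type*} [Fintype ι] [DecidableEq ι] [CommSemiring R] {k : ℕ}
    (a : Fin k → R) (piv : Fin k → ι) (w : ι → R) (q : ι) :
    ∑ p, w p * ((if p = q then 1 else 0) + ∑ j, a j * (if p = piv j then 1 else 0)) =
      w q + ∑ j, a j * w (piv j) := by
  simp only [mul_add, Finset.sum_add_distrib, Finset.mul_sum]
  congr 1
  · simp
  · rw [Finset.sum_comm]
    apply Finset.sum_congr rfl
    intro j _
    simp [mul_comm]

theorem sum_hbq {k : ℕ} (G : Fin k → RuIdx → ZMod 2) (piv : Fin k → RuIdx)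
    (w : RuIdx → ZMod 2) (q : RuIdx) :
    ∑ p, w p * hbq G piv q p = w q + ∑ j, G j q * w (piv j) :=
  sum_hbq_gen (fun j => G j q) piv w q

theorem recon_of_checks {k : ℕ} (G : Fin k → RuIdx → ZMod 2) (piv : Fin k → RuIdx)
    (w : RuIdx → ZMod 2) (h : ∀ q, ∑ p, w p * hbq G piv q p = 0) :
    ∀ q, w q = ∑ j, G j q * w (piv j) := by
  intro q
  have := h q
  rw [sum_hbq] at this
  exact eq_of_add_eq_zero_zmod2 _ _ this

/-! ### test vectors -/

def tv0 (q : RuIdx) : RuVec := comb (mkCoef (tv0CoefTab.getD (idxOf q) []))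
def c0 (q : RuIdx) : RuVec := mkVec (c0Tab.getD (idxOf q) [])
def tv1 (q : RuIdx) : RuVec := comb (mkCoef (tv1CoefTab.getD (idxOf q) []))
def c1 (q : RuIdx) : RuVec := mkVec (c1Tab.getD (idxOf q) [])
def ya (nm : Fin 21) : RuVec := comb (mkCoef (yaCoefTab.getD nm.val []))
def ca (nm : Fin 21) : RuVec := mkVec (caTab.getD nm.val [])
def yb (n : Fin 7) : RuVec := comb (mkCoef (ybCoefTab.getD n.val []))
def cb (n : Fin 7) : RuVec := mkVec (cbTab.getD n.val [])

set_option maxRecDepth 100000 in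
theorem tv0_cert : ∀ q p : RuIdx, tv0 q p = gpi ^ 3 * c0 q p := by decide +kernel

set_option maxRecDepth 100000 in
theorem c0_cert : ∀ q p : RuIdx, rr (c0 q p) = hbq G0 piv0 q p := by decide +kernel

set_option maxRecDepth 100000 in
theorem tv1_cert : ∀ q p : RuIdx, tv1 q p = gpi ^ 2 * c1 q p := by decide +kernel

set_option maxRecDepth 100000 in
theorem c1_cert : ∀ q p : RuIdx, rr (c1 q p) = hbq G1 piv1 q p := by decide +kernel

set_option maxRecDepth 100000 in
theorem ya_cert : ∀ (nm : Fin 21) (p : RuIdx), octInd nm p ≠ 0 → ya nm p = gpi ^ 3 * ca nm p := by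
  decide +kernel

set_option maxRecDepth 100000 in
theorem ca_cert : ∀ nm : Fin 21, ∑ p, octInd nm p * rr (ca nm p) = 1 := by decide +kernel

set_option maxRecDepth 100000 in
theorem yb_cert : ∀ (n : Fin 7) (p : RuIdx), blkInd n p ≠ 0 → yb n p = gpi ^ 2 * cb n p := by
  decide +kernel

set_option maxRecDepth 100000 in
theorem cb_cert : ∀ n : Fin 7, ∑ p, blkInd n p * rr (cb n p) = 1 := by decide +kernel

set_option maxRecDepth 100000 in
theorem wt_oct : ∀ nm : Fin 21, wt (octInd nm) = 8 := by decide +kernel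

set_option maxRecDepth 100000 in
theorem wt_blk : ∀ n : Fin 7, wt (blkInd n) = 4 := by decide +kernel

/-! ### enumeration of the two small codes -/

def recon0 (b : Fin 9 → ZMod 2) : RuIdx → ZMod 2 := fun p => ∑ j, G0 j p * b j
def recon1 (b : Fin 10 → ZMod 2) : RuIdx → ZMod 2 := fun p => ∑ j, G1 j p * b j

set_option maxRecDepth 100000 in
theorem enum0 : ∀ b : Fin 9 → ZMod 2, wt (recon0 b) ≤ 8 →
    (∀ p, recon0 b p = 0) ∨ ∃ nm : Fin 21, ∀ p, recon0 b p = octInd nm p := by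
  decide +kernel

set_option maxRecDepth 100000 in
theorem enum1 : ∀ b : Fin 10 → ZMod 2, wt (recon1 b) ≤ 4 →
    (∀ p, recon1 b p = 0) ∨ ∃ n : Fin 7, ∀ p, recon1 b p = blkInd n p := by
  decide +kernel

/-! ### words of weight at most two -/

def gL0 (k : Fin 9) (p : RuIdx) : ZMod 2 := rr (bvec (Fin.castLE (by norm_num) k) p)

set_option maxRecDepth 100000 in
theorem sep_cert : ∀ p0 p1 : RuIdx, ∃ k : Fin 9,
    (p1 = p0 → gL0 k p0 = 1) ∧ (p1 ≠ p0 → gL0 k p0 + gL0 k p1 = 1) := by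
  decide +kernel

end Cfsg.Agent.Helper91.Ru
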