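import Cfsg.Agent.Lib.Helper91.GenTabs

/-!
# Elements of a subgroup of `Perm GolayPt` and their tables

`TabM a l`: the element `a : ↥H` has the table `l` (of length `24`).  Word identities between
elements with known tables reduce to equalities of computed tables.
-/

set_option autoImplicit false

namespace Cfsg.Agent.Helper91
open Cfsg Cfsg.Agent.Helper7

variable {H : Subgroup (Equiv.Perm GolayPt)}

/-- `a : ↥H` has the table `l` -/
def TabM (a : ↥H) (l : List ℕ) : Prop := Tab (a : Equiv.Perm GolayPt) l ∧ l.length = 24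

/-- table of a power -/
def powTab (l : List ℕ) : ℕ → List ℕ
  | 0 => idTab
  | n + 1 => mulTab (powTab l n) l

theorem TabM.one : TabM (1 : ↥H) idTab := ⟨tab_one, rfl⟩

theorem TabM.mul {a b : ↥H} {l l' : List ℕ} (ha : TabM a l) (hb : TabM b l') :
    TabM (a * b) (mulTab l l') :=
  ⟨ha.1.mul hb.1 hb.2, by rw [mulTab_length, hb.2]⟩

theorem TabM.pow {a : ↥H} {l : List ℕ} (ha : TabM a l) (n : ℕ) : TabM (a ^ n) (powTab l n) := by
  induction n with
  | zero => rw [pow_zero]; exact TabM.one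
  | succ n ih => rw [pow_succ]; exact ih.mul ha

theorem TabM.eq {a b : ↥H} {l l' : List ℕ} (ha : TabM a l) (hb : TabM b l') (h : l = l') :
    a = b := by
  subst h
  exact Subtype.ext (tab_unique ha.1 hb.1)

theorem TabM.tab_eq {a : ↥H} {l l' : List ℕ} (ha : TabM a l) (hb : TabM a l') : l = l' :=
  tab_list_unique ha.1 hb.1 ha.2 hb.2

theorem TabM.eq_one {a : ↥H} {l : List ℕ} (ha : TabM a l) (h : l = idTab) : a = 1 :=
  ha.eq TabM.one h

theorem TabM.conj_eq {e g t : ↥H} {le lg lt : List ℕ} (he : TabM e le) (hg : TabM g lg)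
    (ht : TabM t lt) (h : mulTab le lg = mulTab lg lt) : e = g * t * g⁻¹ := by
  have h1 : e * g = g * t := (he.mul hg).eq (hg.mul ht) h
  rw [← h1]
  group

theorem TabM.sq_eq_one {a : ↥H} {l : List ℕ} (ha : TabM a l) (h : mulTab l l = idTab) :
    a * a = 1 :=
  (ha.mul ha).eq_one h

theorem TabM.inv_of_sq {a : ↥H} {l : List ℕ} (ha : TabM a l) (h : mulTab l l = idTab) :
    a⁻¹ = a :=
  inv_eq_of_mul_eq_one_left (ha.sq_eq_one h)

theorem TabM.tab_of_sq_one {a : ↥H} {l : List ℕ} (ha : TabM a l) (h : a * a = 1) :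
    mulTab l l = idTab :=
  (ha.mul ha).tab_eq (h ▸ TabM.one)

theorem TabM.cube_eq_one {a : ↥H} {l : List ℕ} (ha : TabM a l) (h : powTab l 3 = idTab) :
    a ^ 3 = 1 :=
  (ha.pow 3).eq_one h

theorem TabM.inv_of_cube {a : ↥H} {l : List ℕ} (ha : TabM a l) (h : powTab l 3 = idTab) :
    a⁻¹ = a * a := by
  apply inv_eq_of_mul_eq_one_left
  have := ha.cube_eq_one h
  rw [pow_succ, pow_two] at this
  exact this

theorem TabM.good {a : ↥H} {l : List ℕ} (ha : TabM a l) :
    ∃ σ ∈ H, Tab σ l ∧ l.length = 24 :=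
  ⟨a.1, a.2, ha.1, ha.2⟩

theorem GoodTabs.exists_tabM {L : List (List ℕ)} (h : GoodTabs H L) {l : List ℕ} (hl : l ∈ L) :
    ∃ a : ↥H, TabM a l := by
  obtain ⟨σ, hσ, ht, hlen⟩ := h l hl
  exact ⟨⟨σ, hσ⟩, ht, hlen⟩

/-- membership in a `tabSubgroup` -/
theorem mem_tabSubgroup_iff {L : List (List ℕ)} (hgood : GoodTabs H L) (hone : idTab ∈ L)
    (hmul : ∀ l1 ∈ L, ∀ l2 ∈ L, mulTab l1 l2 ∈ L) (a : ↥H) :
    a ∈ tabSubgroup H L hgood hone hmul ↔ ∃ l ∈ L, TabM a l := by
  rw [mem_tabSubgroup]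
  constructor
  · rintro ⟨l, hl, ht⟩
    obtain ⟨_, _, _, hlen⟩ := hgood l hl
    exact ⟨l, hl, ht, hlen⟩
  · rintro ⟨l, hl, ht⟩
    exact ⟨l, hl, ht.1⟩

/-- elements with a table in `spanTabs gens` lie in the closure of the elements with a table in
`gens` -/
theorem mem_closure_of_spanTabs {gens : List (List ℕ)} (hgood : GoodTabs H gens) :
    ∀ l ∈ spanTabs gens, ∀ a : ↥H, TabM a l →
      a ∈ Subgroup.closure {b : ↥H | ∃ s ∈ gens, TabM b s} := by
  induction gens with
  | nil =>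
    intro l hl a ha
    rw [spanTabs, List.mem_singleton] at hl
    rw [ha.eq_one hl]
    exact Subgroup.one_mem _
  | cons s ss ih =>
    have hss : GoodTabs H ss := fun l hl => hgood l (List.mem_cons_of_mem _ hl)
    have hmono : Subgroup.closure {b : ↥H | ∃ t ∈ ss, TabM b t} ≤
        Subgroup.closure {b : ↥H | ∃ t ∈ s :: ss, TabM b t} := by
      apply Subgroup.closure_mono
      rintro b ⟨t, ht, hb⟩
      exact ⟨t, List.mem_cons_of_mem _ ht, hb⟩
    intro l hl a ha
    rw [spanTabs, List.mem_append, List.mem_map] at hl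
    rcases hl with hl | ⟨l', hl', rfl⟩
    · exact hmono (ih hss l hl a ha)
    · obtain ⟨a', ha'⟩ := GoodTabs.exists_tabM (goodTabs_spanTabs hss) hl'
      obtain ⟨b, hb⟩ := GoodTabs.exists_tabM hgood (List.mem_cons_self (a := s) (l := ss))
      have e : a = a' * b := ha.eq (ha'.mul hb) rfl
      rw [e]
      exact Subgroup.mul_mem _ (hmono (ih hss l' hl' a' ha'))
        (Subgroup.subset_closure ⟨s, List.mem_cons_self .., hb⟩)

end Cfsg.Agent.Helper91
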