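import Cfsg.Agent.Lib.Helper91.GenTabs
import Cfsg.Agent.Lib.Helper91.QuotCenter

set_option autoImplicit false

namespace Cfsg.Agent.Helper91
open Cfsg Cfsg.Agent.Helper7

/-- A group whose elements are faithfully labelled by the tables of a list. -/
structure TabModel (T : Type*) [Group T] (L : List (List ℕ)) where
  /-- the table of an element -/
  tb : T → List ℕ
  mem : ∀ x, tb x ∈ L
  len : ∀ x, (tb x).length = 24
  mul : ∀ x y, tb (x * y) = mulTab (tb x) (tb y)
  one : tb 1 = idTab
  inj : Function.Injective tb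
  surj : ∀ l ∈ L, ∃ x, tb x = l

/-! ### Boolean checks on tables -/

/-- Equality of tables up to the central table `z`. -/
def eqZ (z a b : List ℕ) : Bool := tabBeq a b || tabBeq a (mulTab b z)

/-- Pairwise inequality of the first components, up to `z` (the second components are the
products with `z`). -/
def nodupZ' : List (List ℕ × List ℕ) → Bool
  | [] => true
  | a :: as => as.all (fun b => !(tabBeq a.1 b.1 || tabBeq a.1 b.2)) && nodupZ' as

/-- Pairwise inequality up to `z`. -/
def nodupZ (z : List ℕ) (ts : List (List ℕ)) : Bool :=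
  nodupZ' (ts.map fun t => (t, mulTab t z))

/-- `z` is central of order two and the tables commuting with the generators are `1`, `z`. -/
def centerOK (L gens : List (List ℕ)) (z : List ℕ) : Bool :=
  tabBeq (mulTab z z) idTab && !tabBeq z idTab && elemTab z L &&
  gens.all (fun g => elemTab g L) &&
  L.all fun l => tabBeq (mulTab z l) (mulTab l z) &&
    (!(gens.all fun g => tabBeq (mulTab l g) (mulTab g l)) || tabBeq l idTab || tabBeq l z)

/-- The conjugates of `l` by the pairs (element, inverse) indexed by `cs`. -/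
def conjList (L : List (List ℕ)) (l : List ℕ) (cs : List (ℕ × ℕ)) : List (List ℕ) :=
  cs.map fun kk => mulTab (mulTab (L.getD kk.1 idTab) l) (L.getD kk.2 idTab)

/-- The pairs indexed by `cs` are mutually inverse and the conjugates are distinct up to `z`. -/
def classOK (L : List (List ℕ)) (z l : List ℕ) (cs : List (ℕ × ℕ)) : Bool :=
  cs.all (fun kk => tabBeq (mulTab (L.getD kk.1 idTab) (L.getD kk.2 idTab)) idTab) &&
    nodupZ z (conjList L l cs)

/-- The tables commute up to `z`. -/
def commZ (z a b : List ℕ) : Bool := eqZ z (mulTab a b) (mulTab b a)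

/-- Two elements commuting with `l` up to `z` which do not commute up to `z`. -/
def uvOK (L : List (List ℕ)) (z l : List ℕ) (uv : ℕ × ℕ) : Bool :=
  commZ z l (L.getD uv.1 idTab) && commZ z l (L.getD uv.2 idTab) &&
    !commZ z (L.getD uv.1 idTab) (L.getD uv.2 idTab)

/-- Membership in a list of representatives up to `z`. -/
def inZ (z : List ℕ) (R : List (List ℕ)) (l : List ℕ) : Bool :=
  elemTab l R || elemTab (mulTab l z) R

/-- Pairwise distinct tables. -/
def nodupB : List (List ℕ) → Bool
  | [] => true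
  | a :: as => as.all (fun b => !tabBeq a b) && nodupB as

theorem nodupB_spec : ∀ {R : List (List ℕ)}, nodupB R = true → R.Nodup
  | [], _ => List.nodup_nil
  | a :: as, h => by
    rw [nodupB, Bool.and_eq_true, List.all_eq_true] at h
    rw [List.nodup_cons]
    refine ⟨fun hmem => ?_, nodupB_spec h.2⟩
    have := h.1 a hmem
    rw [Bool.not_eq_true', ← Bool.not_eq_true, tabBeq_iff] at this
    exact this rfl

/-- The generators lie in `L`, their span contains `z`, and its elements have square `1` up
to `z` and commute with the generators up to `z`. -/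
def a0OK (L : List (List ℕ)) (z : List ℕ) (gs : List (List ℕ)) : Bool :=
  gs.all (fun g => elemTab g L) && elemTab z (spanTabs gs) &&
    (spanTabs gs).all (fun l => eqZ z (mulTab l l) idTab && gs.all fun g => commZ z l g)

theorem spanTabs_induction {P : List ℕ → Prop} (gens : List (List ℕ)) (h1 : P idTab)
    (hstep : ∀ l, P l → ∀ g ∈ gens, P (mulTab l g)) : ∀ l ∈ spanTabs gens, P l := by
  have key : ∀ gs : List (List ℕ), (∀ g ∈ gs, g ∈ gens) → ∀ l ∈ spanTabs gs, P l := by
    intro gs
    induction gs with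
    | nil =>
      intro _ l hl
      rw [spanTabs, List.mem_singleton] at hl
      rw [hl]; exact h1
    | cons s ss ih =>
      intro hsub l hl
      have hsub' : ∀ g ∈ ss, g ∈ gens := fun g hg => hsub g (List.mem_cons_of_mem _ hg)
      rw [spanTabs, List.mem_append, List.mem_map] at hl
      rcases hl with hl | ⟨l0, hl0, rfl⟩
      · exact ih hsub' l hl
      · exact hstep l0 (ih hsub' l0 hl0) s (hsub s (List.mem_cons_self ..))
  exact key gens (fun g hg => hg)

/-! ### The bridge -/

section
variable {T : Type*} [Group T] {L : List (List ℕ)} {gens : List (List ℕ)} {z : List ℕ}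

theorem TabModel.idTab_mem (tm : TabModel T L) : idTab ∈ L := tm.one ▸ tm.mem 1

theorem TabModel.getD_mem (tm : TabModel T L) (k : ℕ) : L.getD k idTab ∈ L := by
  rw [List.getD_eq_getElem?_getD]
  cases h : L[k]? with
  | none => exact tm.idTab_mem
  | some a => exact List.mem_of_getElem? h

/-- The element with a given table. -/
noncomputable def TabModel.el (tm : TabModel T L) (l : List ℕ) (hl : l ∈ L) : T :=
  Classical.choose (tm.surj l hl)

theorem TabModel.tb_el (tm : TabModel T L) (l : List ℕ) (hl : l ∈ L) : tm.tb (tm.el l hl) = l :=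
  Classical.choose_spec (tm.surj l hl)

theorem TabModel.z_mem (_tm : TabModel T L) (hcen : centerOK L gens z = true) : z ∈ L := by
  simp only [centerOK, Bool.and_eq_true] at hcen
  exact (elemTab_iff _ _).mp hcen.1.1.2

theorem TabModel.zz (_tm : TabModel T L) (hcen : centerOK L gens z = true) : mulTab z z = idTab := by
  simp only [centerOK, Bool.and_eq_true] at hcen
  exact (tabBeq_iff _ _).mp hcen.1.1.1.1

theorem TabModel.z_ne (_tm : TabModel T L) (hcen : centerOK L gens z = true) : z ≠ idTab := by
  simp only [centerOK, Bool.and_eq_true] at hcen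
  intro h
  have := hcen.1.1.1.2
  rw [Bool.not_eq_true', ← Bool.not_eq_true, tabBeq_iff] at this
  exact this h

theorem TabModel.mem_center_iff (tm : TabModel T L) (hcen : centerOK L gens z = true) (x : T) :
    x ∈ Subgroup.center T ↔ tm.tb x = idTab ∨ tm.tb x = z := by
  have hc := hcen
  simp only [centerOK, Bool.and_eq_true, List.all_eq_true] at hc
  obtain ⟨⟨_, hg⟩, hL⟩ := hc
  constructor
  · intro hx
    have h2 := (hL (tm.tb x) (tm.mem x)).2
    rw [Bool.or_eq_true, Bool.or_eq_true, tabBeq_iff, tabBeq_iff] at h2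
    rcases h2 with (h2 | h2) | h2
    · exfalso
      rw [Bool.not_eq_true', ← Bool.not_eq_true, List.all_eq_true] at h2
      apply h2
      intro g hgm
      rw [tabBeq_iff]
      have hgL : g ∈ L := (elemTab_iff _ _).mp (hg g hgm)
      have := Subgroup.mem_center_iff.mp hx (tm.el g hgL)
      have e := congrArg tm.tb this
      rw [tm.mul, tm.mul, tm.tb_el] at e
      exact e.symm
    · exact Or.inl h2
    · exact Or.inr h2
  · rintro (h | h)
    · have : x = 1 := tm.inj (by rw [h, tm.one])
      rw [this]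
      exact Subgroup.one_mem _
    · rw [Subgroup.mem_center_iff]
      intro g
      apply tm.inj
      rw [tm.mul, tm.mul, h]
      have := (hL (tm.tb g) (tm.mem g)).1
      rw [tabBeq_iff] at this
      exact this.symm

/-- The central involution. -/
noncomputable def TabModel.zel (tm : TabModel T L) (hcen : centerOK L gens z = true) : T :=
  tm.el z (tm.z_mem hcen)

theorem TabModel.tb_zel (tm : TabModel T L) (hcen : centerOK L gens z = true) :
    tm.tb (tm.zel hcen) = z := tm.tb_el _ _

theorem TabModel.zel_mem_center (tm : TabModel T L) (hcen : centerOK L gens z = true) :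
    tm.zel hcen ∈ Subgroup.center T :=
  (tm.mem_center_iff hcen _).mpr (Or.inr (tm.tb_zel hcen))

theorem TabModel.zel_mul_self (tm : TabModel T L) (hcen : centerOK L gens z = true) :
    tm.zel hcen * tm.zel hcen = 1 := by
  apply tm.inj
  rw [tm.mul, tm.tb_zel, tm.zz hcen, tm.one]

theorem TabModel.mk_mul_zel (tm : TabModel T L) (hcen : centerOK L gens z = true) (x : T) :
    ((x * tm.zel hcen : T) : T ⧸ Subgroup.center T) = (x : T ⧸ Subgroup.center T) := by
  rw [QuotientGroup.mk_mul, (QuotientGroup.eq_one_iff _).mpr (tm.zel_mem_center hcen), mul_one]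

theorem TabModel.mk_eq_iff (tm : TabModel T L) (hcen : centerOK L gens z = true) (a b : T) :
    (a : T ⧸ Subgroup.center T) = (b : T ⧸ Subgroup.center T) ↔
      eqZ z (tm.tb a) (tm.tb b) = true := by
  rw [eqZ, Bool.or_eq_true, tabBeq_iff, tabBeq_iff]
  constructor
  · intro h
    have hc : a⁻¹ * b ∈ Subgroup.center T := QuotientGroup.eq.mp h
    have hb : b = a * (a⁻¹ * b) := by group
    rcases (tm.mem_center_iff hcen _).mp hc with h1 | h1
    · left
      have : a⁻¹ * b = 1 := tm.inj (by rw [h1, tm.one])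
      have : a = b := by rw [hb, this, mul_one]
      rw [this]
    · right
      have e : a⁻¹ * b = tm.zel hcen := tm.inj (by rw [h1, tm.tb_zel])
      have : a = b * tm.zel hcen := by
        rw [hb, e, mul_assoc, tm.zel_mul_self, mul_one]
      rw [this, tm.mul, tm.tb_zel]
  · rintro (h | h)
    · rw [tm.inj h]
    · have : a = b * tm.zel hcen := tm.inj (by rw [h, tm.mul, tm.tb_zel])
      rw [this, tm.mk_mul_zel]

theorem TabModel.card_center (tm : TabModel T L) (hcen : centerOK L gens z = true) : Nat.card ↥(Subgroup.center T) = 2 := by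
  rw [Nat.card_eq_two_iff]
  refine ⟨⟨1, Subgroup.one_mem _⟩, ⟨tm.zel hcen, tm.zel_mem_center hcen⟩, ?_, ?_⟩
  · intro h
    have := congrArg (fun u : ↥(Subgroup.center T) => tm.tb u.1) h
    simp only [tm.one, tm.tb_zel] at this
    exact tm.z_ne hcen this.symm
  · ext x
    simp only [Set.mem_insert_iff, Set.mem_singleton_iff, Set.mem_univ, iff_true]
    rcases (tm.mem_center_iff hcen x.1).mp x.2 with h | h
    · left
      exact Subtype.ext (tm.inj (by rw [h, tm.one]))
    · right
      exact Subtype.ext (tm.inj (by rw [h, tm.tb_zel]))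

theorem TabModel.nodupZ'_spec (tm : TabModel T L) (hcen : centerOK L gens z = true) :
    ∀ (ts : List T), nodupZ' (ts.map fun t => (tm.tb t, mulTab (tm.tb t) z)) = true →
    (ts.map (QuotientGroup.mk : T → T ⧸ Subgroup.center T)).Nodup
  | [], _ => List.nodup_nil
  | a :: as, h => by
    rw [List.map_cons, nodupZ', Bool.and_eq_true, List.all_eq_true] at h
    rw [List.map_cons, List.nodup_cons]
    refine ⟨fun hmem => ?_, TabModel.nodupZ'_spec tm hcen as h.2⟩
    obtain ⟨b, hb, hab⟩ := List.mem_map.mp hmem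
    have h1 := h.1 _ (List.mem_map.mpr ⟨b, hb, rfl⟩)
    rw [Bool.not_eq_true', ← Bool.not_eq_true] at h1
    exact h1 ((tm.mk_eq_iff hcen a b).mp hab.symm)

theorem TabModel.nodupZ_spec (tm : TabModel T L) (hcen : centerOK L gens z = true) (ts : List T)
    (h : nodupZ z (ts.map tm.tb) = true) :
    (ts.map (QuotientGroup.mk : T → T ⧸ Subgroup.center T)).Nodup := by
  apply tm.nodupZ'_spec hcen ts
  rw [nodupZ, List.map_map] at h
  exact h

theorem TabModel.classOK_spec [Finite T] (tm : TabModel T L) (hcen : centerOK L gens z = true) (x : T)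
    (cs : List (ℕ × ℕ))
    (h : classOK L z (tm.tb x) cs = true) :
    cs.length * Nat.card ↥(Subgroup.centralizer
      ({(x : T ⧸ Subgroup.center T)} : Set (T ⧸ Subgroup.center T))) ≤
      Nat.card (T ⧸ Subgroup.center T) := by
  rw [classOK, Bool.and_eq_true, List.all_eq_true] at h
  obtain ⟨hinv, hnd⟩ := h
  let g : ℕ × ℕ → T := fun kk => tm.el (L.getD kk.1 idTab) (tm.getD_mem _)
  let w : ℕ × ℕ → T := fun kk => tm.el (L.getD kk.2 idTab) (tm.getD_mem _)
  let ts : List T := cs.map fun kk => g kk * x * w kk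
  have hts : ts.map tm.tb = conjList L (tm.tb x) cs := by
    simp only [ts, conjList, List.map_map]
    apply List.map_congr_left
    intro kk _
    simp only [Function.comp, tm.mul, g, w, tm.tb_el]
  have hnd' := tm.nodupZ_spec hcen ts (by rw [hts]; exact hnd)
  have := card_centralizer_le_of_conj (x : T ⧸ Subgroup.center T)
    (ts.map (QuotientGroup.mk : T → T ⧸ Subgroup.center T)) hnd' (by
      intro t ht
      obtain ⟨t0, ht0, rfl⟩ := List.mem_map.mp ht
      obtain ⟨kk, hkk, rfl⟩ := List.mem_map.mp ht0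
      refine ⟨(g kk : T ⧸ Subgroup.center T), ?_⟩
      have hgw : g kk * w kk = 1 := by
        apply tm.inj
        rw [tm.mul, tm.one]
        simp only [g, w, tm.tb_el]
        exact (tabBeq_iff _ _).mp (hinv kk hkk)
      have hwg : w kk * g kk = 1 := by
        rw [eq_inv_of_mul_eq_one_right hgw]
        exact inv_mul_cancel _
      rw [← QuotientGroup.mk_mul, ← QuotientGroup.mk_mul]
      congr 1
      rw [mul_assoc (g kk * x), hwg, mul_one])
  rw [List.length_map, List.length_map] at this
  exact this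

theorem TabModel.uvOK_spec (tm : TabModel T L) (hcen : centerOK L gens z = true) (x : T) (uv : ℕ × ℕ)
    (h : uvOK L z (tm.tb x) uv = true) :
    ∃ u v : T ⧸ Subgroup.center T,
      u ∈ Subgroup.centralizer ({(x : T ⧸ Subgroup.center T)} : Set (T ⧸ Subgroup.center T)) ∧
      v ∈ Subgroup.centralizer ({(x : T ⧸ Subgroup.center T)} : Set (T ⧸ Subgroup.center T)) ∧
      u * v ≠ v * u := by
  rw [uvOK, Bool.and_eq_true, Bool.and_eq_true] at h
  obtain ⟨⟨h1, h2⟩, h3⟩ := h
  set u := tm.el (L.getD uv.1 idTab) (tm.getD_mem _) with hu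
  set v := tm.el (L.getD uv.2 idTab) (tm.getD_mem _) with hv
  have key : ∀ y : T, commZ z (tm.tb x) (tm.tb y) = true →
      (y : T ⧸ Subgroup.center T) ∈ Subgroup.centralizer
        ({(x : T ⧸ Subgroup.center T)} : Set (T ⧸ Subgroup.center T)) := by
    intro y hy
    rw [Subgroup.mem_centralizer_iff]
    intro s hs
    rw [Set.mem_singleton_iff] at hs
    subst hs
    rw [← QuotientGroup.mk_mul, ← QuotientGroup.mk_mul, tm.mk_eq_iff hcen, tm.mul, tm.mul]
    exact hy
  refine ⟨u, v, key u (by rw [hu, tm.tb_el]; exact h1), key v (by rw [hv, tm.tb_el]; exact h2), ?_⟩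
  rw [← QuotientGroup.mk_mul, ← QuotientGroup.mk_mul, Ne, tm.mk_eq_iff hcen, tm.mul, tm.mul,
    hu, hv, tm.tb_el, tm.tb_el]
  rw [Bool.not_eq_true', ← Bool.not_eq_true] at h3
  exact h3

/-- The image in the quotient of the elements with table in `R`. -/
def TabModel.imgSet (tm : TabModel T L) (R : List (List ℕ)) : Set (T ⧸ Subgroup.center T) :=
  (fun x : T => (x : T ⧸ Subgroup.center T)) '' {x : T | tm.tb x ∈ R}

theorem TabModel.ncard_imgSet_le [Finite T] (tm : TabModel T L) (R : List (List ℕ)) : (tm.imgSet R).ncard ≤ R.length := by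
  classical
  refine (Set.ncard_image_le (Set.toFinite _)).trans ?_
  have : {x : T | tm.tb x ∈ R}.ncard ≤ (↑R.toFinset : Set (List ℕ)).ncard :=
    Set.ncard_le_ncard_of_injOn tm.tb (fun a ha => by simpa using ha)
      (fun a _ b _ hab => tm.inj hab) (Set.toFinite _)
  refine this.trans ?_
  rw [Set.ncard_coe_finset]
  exact List.toFinset_card_le R

theorem TabModel.inZ_spec (tm : TabModel T L) (hcen : centerOK L gens z = true) (R : List (List ℕ))
    (x : T) (h : inZ z R (tm.tb x) = true) :
    (x : T ⧸ Subgroup.center T) ∈ tm.imgSet R := by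
  rw [inZ, Bool.or_eq_true, elemTab_iff, elemTab_iff] at h
  rcases h with h | h
  · exact ⟨x, h, rfl⟩
  · refine ⟨x * tm.zel hcen, ?_, tm.mk_mul_zel hcen x⟩
    show tm.tb (x * tm.zel hcen) ∈ R
    rw [tm.mul, tm.tb_zel]
    exact h

/-- The subgroup of the elements with table in a list closed under products. -/
def TabModel.tabSub [Finite T] (tm : TabModel T L) (R : List (List ℕ)) (hone : idTab ∈ R)
    (hmul : ∀ a ∈ R, ∀ b ∈ R, mulTab a b ∈ R) : Subgroup T where
  carrier := {x | tm.tb x ∈ R}
  one_mem' := by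
    show tm.tb 1 ∈ R
    rw [tm.one]
    exact hone
  mul_mem' := by
    intro a b ha hb
    show tm.tb (a * b) ∈ R
    rw [tm.mul]
    exact hmul _ ha _ hb
  inv_mem' := by
    intro x hx
    have hpow : ∀ n : ℕ, tm.tb (x ^ n) ∈ R := by
      intro n
      induction n with
      | zero => rw [pow_zero, tm.one]; exact hone
      | succ n ih => rw [pow_succ, tm.mul]; exact hmul _ ih _ hx
    have hpos : orderOf x ≠ 0 := (orderOf_pos x).ne'
    have e : x⁻¹ = x ^ (orderOf x - 1) := by
      apply inv_eq_of_mul_eq_one_left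
      rw [pow_sub_one_mul hpos, pow_orderOf_eq_one]
    show tm.tb x⁻¹ ∈ R
    rw [e]
    exact hpow _

theorem TabModel.card_tabSub [Finite T] (tm : TabModel T L) (R : List (List ℕ)) (hone : idTab ∈ R)
    (hmul : ∀ a ∈ R, ∀ b ∈ R, mulTab a b ∈ R) (hnd : R.Nodup) (hsub : ∀ a ∈ R, a ∈ L) :
    Nat.card ↥(tm.tabSub R hone hmul) = R.length := by
  classical
  rw [← List.toFinset_card_of_nodup hnd, ← Nat.card_eq_finsetCard]
  apply Nat.card_congr
  refine Equiv.ofBijective
    (fun x : ↥(tm.tabSub R hone hmul) =>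
      (⟨tm.tb x.1, List.mem_toFinset.mpr x.2⟩ : ↥R.toFinset)) ⟨?_, ?_⟩
  · intro a b hab
    exact Subtype.ext (tm.inj (congrArg Subtype.val hab))
  · intro l
    have hl : l.1 ∈ R := List.mem_toFinset.mp l.2
    refine ⟨⟨tm.el l.1 (hsub _ hl), ?_⟩, Subtype.ext (tm.tb_el _ (hsub _ hl))⟩
    show tm.tb _ ∈ R
    rw [tm.tb_el]
    exact hl

theorem TabModel.span_sub (tm : TabModel T L) (gs : List (List ℕ)) (hg : ∀ g ∈ gs, g ∈ L) :
    ∀ l ∈ spanTabs gs, l ∈ L := by
  apply spanTabs_induction (P := fun l => l ∈ L) gs tm.idTab_mem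
  intro l hl g hg'
  have := tm.mem (tm.el l hl * tm.el g (hg g hg'))
  rwa [tm.mul, tm.tb_el, tm.tb_el] at this

theorem TabModel.span_comm (tm : TabModel T L) (hcen : centerOK L gens z = true)
    (gs : List (List ℕ)) (hA : a0OK L z gs = true) (x y : T) (hx : tm.tb x ∈ spanTabs gs)
    (hy : tm.tb y ∈ spanTabs gs) :
    (x : T ⧸ Subgroup.center T) * (y : T ⧸ Subgroup.center T) = y * x := by
  have hA' := hA
  simp only [a0OK, Bool.and_eq_true, List.all_eq_true] at hA'
  obtain ⟨⟨hgL, _⟩, hall⟩ := hA'
  have hgL' : ∀ g ∈ gs, g ∈ L := fun g hg => (elemTab_iff _ _).mp (hgL g hg)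
  have key : ∀ l ∈ spanTabs gs, (l ∈ L ∧ ∀ y : T, tm.tb y = l →
      (x : T ⧸ Subgroup.center T) * (y : T ⧸ Subgroup.center T) = y * x) := by
    apply spanTabs_induction (P := fun l => l ∈ L ∧ ∀ y : T, tm.tb y = l →
      (x : T ⧸ Subgroup.center T) * (y : T ⧸ Subgroup.center T) = y * x) gs
    · refine ⟨tm.idTab_mem, fun y hy => ?_⟩
      have : y = 1 := tm.inj (by rw [hy, tm.one])
      rw [this, QuotientGroup.mk_one, mul_one, one_mul]
    · rintro l ⟨hlL, hl⟩ g hg
      have hgL := hgL' g hg
      have hmem : mulTab l g ∈ L := by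
        have := tm.mem (tm.el l hlL * tm.el g hgL)
        rwa [tm.mul, tm.tb_el, tm.tb_el] at this
      refine ⟨hmem, fun y hy => ?_⟩
      have e : y = tm.el l hlL * tm.el g hgL :=
        tm.inj (by rw [hy, tm.mul, tm.tb_el, tm.tb_el])
      have c1 := hl (tm.el l hlL) (tm.tb_el _ _)
      have c2 : (x : T ⧸ Subgroup.center T) * (tm.el g hgL : T ⧸ Subgroup.center T) =
          (tm.el g hgL : T ⧸ Subgroup.center T) * x := by
        rw [← QuotientGroup.mk_mul, ← QuotientGroup.mk_mul, tm.mk_eq_iff hcen, tm.mul, tm.mul,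
          tm.tb_el]
        exact (hall (tm.tb x) hx).2 g hg
      rw [e, QuotientGroup.mk_mul, ← mul_assoc, c1, mul_assoc, c2, mul_assoc]
  exact (key _ hy).2 y rfl

section
variable [Finite T] (tm : TabModel T L) (hcen : centerOK L gens z = true) (gs : List (List ℕ))
  (hA : a0OK L z gs = true)
  (hmul : ∀ a ∈ spanTabs gs, ∀ b ∈ spanTabs gs, mulTab a b ∈ spanTabs gs)

/-- The image in the quotient by the centre of the elements with table in the span. -/
noncomputable def TabModel.a0 : Subgroup (T ⧸ Subgroup.center T) :=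
  (tm.tabSub (spanTabs gs) (idTab_mem_spanTabs gs) hmul).map
    (QuotientGroup.mk' (Subgroup.center T))

include hcen hA in
theorem TabModel.a0_elem : IsElementaryAbelian 2 (tm.a0 gs hmul) := by
  have hA' := hA
  simp only [a0OK, Bool.and_eq_true, List.all_eq_true] at hA'
  constructor
  · apply IsMulCommutative.of_comm
    rintro ⟨a, ha⟩ ⟨b, hb⟩
    apply Subtype.ext
    obtain ⟨x, hx, rfl⟩ := ha
    obtain ⟨y, hy, rfl⟩ := hb
    exact tm.span_comm hcen gs hA x y hx hy
  · rintro a ⟨x, hx, rfl⟩
    show (x : T ⧸ Subgroup.center T) ^ 2 = 1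
    rw [← QuotientGroup.mk_pow, ← QuotientGroup.mk_one, tm.mk_eq_iff hcen, pow_two, tm.mul, tm.one]
    exact (hA'.2 _ hx).1

include hcen hA in
theorem TabModel.card_a0 (hnd : (spanTabs gs).Nodup) (hT : Nat.card T = 1024)
    (hlen : gs.length = 7) : Nat.card ↥(tm.a0 gs hmul) = 64 := by
  have hA' := hA
  simp only [a0OK, Bool.and_eq_true, List.all_eq_true] at hA'
  have hgL' : ∀ g ∈ gs, g ∈ L := fun g hg => (elemTab_iff _ _).mp (hA'.1.1 g hg)
  have hzR : z ∈ spanTabs gs := (elemTab_iff _ _).mp hA'.1.2
  have hcz : Subgroup.center T ≤ tm.tabSub (spanTabs gs) (idTab_mem_spanTabs gs) hmul := by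
    intro x hx
    show tm.tb x ∈ spanTabs gs
    rcases (tm.mem_center_iff hcen x).mp hx with h | h
    · rw [h]; exact idTab_mem_spanTabs gs
    · rw [h]; exact hzR
  have hidx : (tm.a0 gs hmul).index =
      (tm.tabSub (spanTabs gs) (idTab_mem_spanTabs gs) hmul).index :=
    Subgroup.index_map_eq _ (QuotientGroup.mk'_surjective _)
      (by rw [QuotientGroup.ker_mk']; exact hcz)
  have h1 := (tm.tabSub (spanTabs gs) (idTab_mem_spanTabs gs) hmul).card_mul_index
  rw [tm.card_tabSub _ _ hmul hnd (tm.span_sub gs hgL'), length_spanTabs, hlen, hT] at h1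
  have h2 := (tm.a0 gs hmul).card_mul_index
  have h3 : Nat.card (T ⧸ Subgroup.center T) * Nat.card ↥(Subgroup.center T) = Nat.card T := by
    rw [mul_comm]
    exact (Subgroup.center T).card_mul_index
  rw [tm.card_center hcen, hT] at h3
  rw [hidx] at h2
  have h4 : (tm.tabSub (spanTabs gs) (idTab_mem_spanTabs gs) hmul).index = 8 := by omega
  rw [h4] at h2
  omega

theorem TabModel.mem_a0 (x : T) (hx : elemTab (tm.tb x) (spanTabs gs) = true) :
    (x : T ⧸ Subgroup.center T) ∈ tm.a0 gs hmul :=
  ⟨x, (elemTab_iff _ _).mp hx, rfl⟩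

end

end

/-- The check of one row: the table (packed), conjugating pairs, and a non-commuting pair. -/
def rowOK (L : List (List ℕ)) (z : List ℕ) (X E A : List (List ℕ)) (l : List ℕ)
    (cs : List (ℕ × ℕ)) (uv : ℕ × ℕ) : Bool :=
  classOK L z l cs && (Nat.ble 4 cs.length || inZ z X l) &&
    (Nat.ble 9 cs.length || (Nat.ble 8 cs.length && uvOK L z l uv) || elemTab l A || inZ z E l)

/-- The main statement from the checks. -/
theorem TabModel.main {T : Type*} [Group T] [Finite T] {L : List (List ℕ)} (tm : TabModel T L)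
    {gens : List (List ℕ)} {z : List ℕ} (hcen : centerOK L gens z = true)
    (hT : Nat.card T = 1024) (X E gs : List (List ℕ)) (hXl : X.length ≤ 15) (hEl : E.length ≤ 16)
    (hgl : gs.length = 7) (hA : a0OK L z gs = true)
    (hmul : ∀ a ∈ spanTabs gs, ∀ b ∈ spanTabs gs, mulTab a b ∈ spanTabs gs)
    (hnd : (spanTabs gs).Nodup)
    (hrows : ∀ l ∈ L, ∃ cs uv, rowOK L z X E (spanTabs gs) l cs uv = true) :
    (∀ M : Subgroup (T ⧸ Subgroup.center T), IsCoatom M → Nat.card ↥(Subgroup.center ↥M) ≤ 8) ∧
      (∃ A : Subgroup (T ⧸ Subgroup.center T), IsElementaryAbelian 2 A ∧ Nat.card ↥A = 64) ∧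
      ∀ A B : Subgroup (T ⧸ Subgroup.center T), IsMulCommutative ↥A → Nat.card ↥A = 64 →
        IsMulCommutative ↥B → Nat.card ↥B = 64 → A = B := by
  have hS : Nat.card (T ⧸ Subgroup.center T) = 512 := by
    have h3 : Nat.card (T ⧸ Subgroup.center T) * Nat.card ↥(Subgroup.center T) = Nat.card T := by
      rw [mul_comm]
      exact (Subgroup.center T).card_mul_index
    rw [tm.card_center hcen, hT] at h3
    omega
  apply quot_main hS (tm.imgSet X) ((tm.ncard_imgSet_le X).trans hXl) ?_ (tm.a0 gs hmul)
    (tm.a0_elem hcen gs hA hmul) (tm.card_a0 hcen gs hA hmul hnd hT hgl) (tm.imgSet E)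
    ((tm.ncard_imgSet_le E).trans hEl) ?_
  · intro s
    induction s using QuotientGroup.induction_on with | _ x => ?_
    obtain ⟨cs, uv, hrow⟩ := hrows (tm.tb x) (tm.mem x)
    rw [rowOK, Bool.and_eq_true, Bool.and_eq_true] at hrow
    obtain ⟨⟨hcl, h4⟩, _⟩ := hrow
    rw [Bool.or_eq_true] at h4
    rcases h4 with h4 | h4
    · right
      have := tm.classOK_spec hcen x cs hcl
      rw [hS] at this
      have h4' : 4 ≤ cs.length := Nat.le_of_ble_eq_true h4
      by_contra hlt
      push Not at hlt
      have : 4 * 129 ≤ cs.length * Nat.card ↥(Subgroup.centralizer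
          ({(x : T ⧸ Subgroup.center T)} : Set (T ⧸ Subgroup.center T))) :=
        Nat.mul_le_mul h4' hlt
      omega
    · left
      exact tm.inZ_spec hcen X x h4
  · intro s
    induction s using QuotientGroup.induction_on with | _ x => ?_
    obtain ⟨cs, uv, hrow⟩ := hrows (tm.tb x) (tm.mem x)
    rw [rowOK, Bool.and_eq_true, Bool.and_eq_true] at hrow
    obtain ⟨⟨hcl, _⟩, h9⟩ := hrow
    have hbound := tm.classOK_spec hcen x cs hcl
    rw [hS] at hbound
    rw [Bool.or_eq_true, Bool.or_eq_true, Bool.or_eq_true] at h9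
    rcases h9 with ((h9 | h9) | h9) | h9
    · right; right; left
      have h9' : 9 ≤ cs.length := Nat.le_of_ble_eq_true h9
      by_contra hlt
      push Not at hlt
      have : 9 * 64 ≤ cs.length * Nat.card ↥(Subgroup.centralizer
          ({(x : T ⧸ Subgroup.center T)} : Set (T ⧸ Subgroup.center T))) :=
        Nat.mul_le_mul h9' hlt
      omega
    · right; right; right
      rw [Bool.and_eq_true] at h9
      have h8' : 8 ≤ cs.length := Nat.le_of_ble_eq_true h9.1
      refine ⟨?_, tm.uvOK_spec hcen x uv h9.2⟩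
      by_contra hlt
      push Not at hlt
      have : 8 * 65 ≤ cs.length * Nat.card ↥(Subgroup.centralizer
          ({(x : T ⧸ Subgroup.center T)} : Set (T ⧸ Subgroup.center T))) :=
        Nat.mul_le_mul h8' hlt
      omega
    · left
      exact tm.mem_a0 gs hmul x h9
    · right; left
      exact tm.inZ_spec hcen E x h9

end Cfsg.Agent.Helper91
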