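import Mathlib
import Cfsg.Agent.Lib.Helper98.UT1

/-!
# UT server (helper98, S2283), pieces (X5g) `gen2_five` and (X8g) `gen2_eight`

For an additive subgroup `S ≠ 0` of a finite field `F`, the multiplier set `T = {s | s S ⊆ S}` is a finite
subring, hence a subfield: its nonzero elements satisfy `t ^ (|T| - 1) = 1` and `|T|` divides `|F|`.
Elements of multiplicative order `8` (for `|F| = 25`) resp. `3` and `7` (for `|F| = 64`) force `T = F`.
-/

set_option autoImplicit false
set_option linter.unusedSectionVars false
set_option linter.unusedVariables false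
set_option linter.style.haveILetI false
set_option linter.unnecessarySimpa false

namespace Cfsg.Agent.Helper91.UT

open Cfsg.Agent.Helper98.UT

variable {F : Type*} [Field F] [Fintype F]

/-- the multiplier ring of an additive subgroup -/
def h91_mult (S : AddSubgroup F) : Subring F where
  carrier := {s | ∀ x ∈ S, s * x ∈ S}
  mul_mem' := by
    intro a b ha hb x hx
    rw [mul_assoc]
    exact ha _ (hb _ hx)
  one_mem' := by
    intro x hx
    rwa [one_mul]
  add_mem' := by
    intro a b ha hb x hx
    rw [add_mul]
    exact S.add_mem (ha _ hx) (hb _ hx)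
  zero_mem' := by
    intro x hx
    rw [zero_mul]
    exact S.zero_mem
  neg_mem' := by
    intro a ha x hx
    rw [neg_mul]
    exact S.neg_mem (ha _ hx)

theorem h91_mem_mult (S : AddSubgroup F) (s : F) : s ∈ h91_mult S ↔ ∀ x ∈ S, s * x ∈ S := Iff.rfl

/-- nonzero elements of the multiplier ring have order dividing `|T| - 1` -/
theorem h91_pow_card_sub_one (S : AddSubgroup F) (t : F) (ht : t ∈ h91_mult S) (ht0 : t ≠ 0) :
    t ^ (Nat.card (h91_mult S) - 1) = 1 := by
  classical
  letI : Field (h91_mult S) := Fintype.fieldOfDomain (h91_mult S)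
  have h := FiniteField.pow_card_sub_one_eq_one (⟨t, ht⟩ : h91_mult S)
    (by intro h0; apply ht0; exact congrArg Subtype.val h0)
  have h2 := congrArg (Subtype.val : h91_mult S → F) h
  rw [Nat.card_eq_fintype_card]
  simpa using h2

/-- the order of the multiplier ring divides `|F|` -/
theorem h91_card_dvd (S : AddSubgroup F) : Nat.card (h91_mult S) ∣ Fintype.card F := by
  have h := AddSubgroup.card_addSubgroup_dvd_card (h91_mult S).toAddSubgroup
  rw [Nat.card_eq_fintype_card (α := F)] at h
  exact h

theorem h91_two_le_card (S : AddSubgroup F) : 2 ≤ Nat.card (h91_mult S) := by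
  classical
  rw [Nat.card_eq_fintype_card]
  have : (Finset.univ : Finset (h91_mult S)).card = Fintype.card (h91_mult S) := Finset.card_univ
  rw [← this]
  have h01 : (0 : h91_mult S) ≠ 1 := zero_ne_one
  have hsub : ({0, 1} : Finset (h91_mult S)) ⊆ Finset.univ := Finset.subset_univ _
  have := Finset.card_le_card hsub
  rw [Finset.card_pair h01] at this
  exact this

/-- if the multiplier ring is everything then `S = ⊤` -/
theorem h91_top_of_card (S : AddSubgroup F) (hS : ∃ x ∈ S, x ≠ 0)
    (hcard : Nat.card (h91_mult S) = Fintype.card F) : S = ⊤ := by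
  obtain ⟨x0, hx0S, hx0⟩ := hS
  have htop : (h91_mult S).toAddSubgroup = ⊤ := by
    apply AddSubgroup.eq_top_of_card_eq
    rw [Nat.card_eq_fintype_card (α := F)]
    exact hcard
  rw [eq_top_iff]
  intro y _
  have hy : y * x0⁻¹ ∈ (h91_mult S).toAddSubgroup := by rw [htop]; trivial
  have := hy x0 hx0S
  rwa [mul_assoc, inv_mul_cancel₀ hx0, mul_one] at this

/-- (X5g) -/
theorem gen2_five (hF5 : Fintype.card F = 5 ^ 2) (r lam : F) (hr : r ^ 2 = 2) : Gen2 lam r := by
  intro S hS _ hrS
  have hrT : r ∈ h91_mult S := hrS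
  -- characteristic 5
  have h5 : (5 : F) = 0 := by
    have h := Nat.cast_card_eq_zero F
    rw [hF5] at h
    have h25 : ((5 : F)) ^ 2 = 0 := by exact_mod_cast h
    exact pow_eq_zero_iff (by norm_num) |>.mp h25
  have hr4 : r ^ 4 = -1 := by
    have : r ^ 4 = (r ^ 2) ^ 2 := by ring
    rw [this, hr]
    linear_combination h5
  have hr0 : r ≠ 0 := by
    intro h0
    rw [h0] at hr4
    have : (0 : F) = -1 := by simpa using hr4
    have h1 : (1 : F) = 0 := by linear_combination this
    exact one_ne_zero h1
  have h2ne : (2 : F) ≠ 0 := by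
    intro h2
    have h1 : (1 : F) = 0 := by linear_combination h5 - 2 * h2
    exact one_ne_zero h1
  have hr4ne : r ^ 4 ≠ 1 := by
    intro h1
    rw [hr4] at h1
    apply h2ne
    linear_combination -h1
  have hr8 : r ^ 8 = 1 := by
    have : r ^ 8 = (r ^ 4) ^ 2 := by ring
    rw [this, hr4]; ring
  have hord : orderOf r = 8 := by
    have h8 : (8 : ℕ) = 2 ^ (2 + 1) := by norm_num
    rw [h8]
    apply orderOf_eq_prime_pow
    · norm_num; exact hr4ne
    · norm_num; exact hr8
  have hpow := h91_pow_card_sub_one S r hrT hr0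
  have hdvd : 8 ∣ Nat.card (h91_mult S) - 1 := by
    rw [← hord]; exact orderOf_dvd_of_pow_eq_one hpow
  have hc := h91_card_dvd S
  have h2le := h91_two_le_card S
  rw [hF5] at hc
  have hle : Nat.card (h91_mult S) ≤ 25 := Nat.le_of_dvd (by norm_num) hc
  have hcard : Nat.card (h91_mult S) = 25 := by
    interval_cases h : Nat.card (h91_mult S) <;> omega
  exact h91_top_of_card S hS (by rw [hcard, hF5]; norm_num)

end Cfsg.Agent.Helper91.UT
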