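import Mathlib
import Cfsg.Agent.Lib.Helper98.UT1
import Cfsg.Agent.Lib.Helper91.UTX5g

/-!
# UT server (helper98, S2283), piece (X8g) `gen2_eight`
-/

set_option autoImplicit false
set_option linter.unusedSectionVars false
set_option linter.unusedVariables false
set_option linter.style.haveILetI false

namespace Cfsg.Agent.Helper91.UT

open Cfsg.Agent.Helper98.UT

variable {F : Type*} [Field F] [Fintype F]

/-- (X8g) -/
theorem gen2_eight (hF8 : Fintype.card F = 8 ^ 2) (ρ lam : F) (hρ : ρ ^ 3 = ρ + 1)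
    (hl3 : lam ^ 3 ≠ 1) (hl9 : lam ^ 9 = 1) : Gen2 lam (ρ ^ 2) := by
  intro S hS hμS hσS
  have hμT : lam ^ 3 ∈ h91_mult S := hμS
  have hσT : ρ ^ 2 ∈ h91_mult S := hσS
  -- characteristic 2
  have h2 : (2 : F) = 0 := by
    have h := Nat.cast_card_eq_zero F
    rw [hF8] at h
    have h64 : ((2 : F)) ^ 6 = 0 := by
      have : ((8 ^ 2 : ℕ) : F) = (2 : F) ^ 6 := by norm_num
      rw [← this]; exact h
    exact pow_eq_zero_iff (by norm_num) |>.mp h64
  have hμ3 : (lam ^ 3) ^ 3 = 1 := by rw [← pow_mul]; exact hl9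
  have hμ0 : lam ^ 3 ≠ 0 := by
    intro h0
    rw [h0] at hμ3
    simp at hμ3
  haveI : Fact (Nat.Prime 3) := ⟨by norm_num⟩
  haveI : Fact (Nat.Prime 7) := ⟨by norm_num⟩
  have hordμ : orderOf (lam ^ 3) = 3 := orderOf_eq_prime hμ3 hl3
  have h6 : ρ ^ 6 = ρ ^ 2 + 1 := by
    calc ρ ^ 6 = (ρ ^ 3) ^ 2 := by ring
      _ = (ρ + 1) ^ 2 := by rw [hρ]
      _ = ρ ^ 2 + 1 + 2 * ρ := by ring
      _ = ρ ^ 2 + 1 := by rw [h2]; ring
  have h7 : ρ ^ 7 = 1 := by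
    calc ρ ^ 7 = ρ * ρ ^ 6 := by ring
      _ = ρ * (ρ ^ 2 + 1) := by rw [h6]
      _ = ρ ^ 3 + ρ := by ring
      _ = 1 + 2 * ρ := by rw [hρ]; ring
      _ = 1 := by rw [h2]; ring
  have hσ7 : (ρ ^ 2) ^ 7 = 1 := by
    calc (ρ ^ 2) ^ 7 = (ρ ^ 7) ^ 2 := by ring
      _ = 1 := by rw [h7]; ring
  have hσ1 : ρ ^ 2 ≠ 1 := by
    intro h1
    have hρ1 : ρ = 1 := by
      calc ρ = ρ * (ρ ^ 2) ^ 3 := by rw [h1]; ring
        _ = ρ ^ 7 := by ring
        _ = 1 := h7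
    rw [hρ1] at hρ
    have : (1 : F) = 0 := by linear_combination -hρ
    exact one_ne_zero this
  have hσ0 : ρ ^ 2 ≠ 0 := by
    intro h0
    rw [h0] at hσ7
    simp at hσ7
  have hordσ : orderOf (ρ ^ 2) = 7 := orderOf_eq_prime hσ7 hσ1
  have hdvd3 : 3 ∣ Nat.card (h91_mult S) - 1 := by
    rw [← hordμ]; exact orderOf_dvd_of_pow_eq_one (h91_pow_card_sub_one S _ hμT hμ0)
  have hdvd7 : 7 ∣ Nat.card (h91_mult S) - 1 := by
    rw [← hordσ]; exact orderOf_dvd_of_pow_eq_one (h91_pow_card_sub_one S _ hσT hσ0)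
  have hc := h91_card_dvd S
  have h2le := h91_two_le_card S
  rw [hF8] at hc
  have hle : Nat.card (h91_mult S) ≤ 64 := Nat.le_of_dvd (by norm_num) hc
  have hcard : Nat.card (h91_mult S) = 64 := by
    interval_cases h : Nat.card (h91_mult S) <;> omega
  exact h91_top_of_card S hS (by rw [hcard, hF8]; norm_num)

end Cfsg.Agent.Helper91.UT
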